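import Groth.Agent.DTenCalc.ProjFormula

/-!
Base change of internal homs.
-/

universe u

open CategoryTheory CategoryTheory.Limits MonoidalCategory HomologicalComplex DTen
open CategoryTheory.Functor (LaxMonoidal OplaxMonoidal)
open Groth.DAlg.KFlatMod (IsKFlatCx)
attribute [local instance] HasDerivedCategory.standard

set_option backward.isDefEq.respectTransparency false

namespace Groth.DTenCalc

section Pairing

variable {C E : Type*} [Category* C] [MonoidalCategory C] [Category* E] [MonoidalCategory E]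
  (F : C ⥤ E) [F.Monoidal] (X Y : C) [ExactPairing X Y]

/-- A monoidal functor preserves duals. -/
@[implicit_reducible]
def mapPairing : ExactPairing (F.obj X) (F.obj Y) where
  coevaluation' := LaxMonoidal.ε F ≫ F.map (η_ X Y) ≫ OplaxMonoidal.δ F X Y
  evaluation' := LaxMonoidal.μ F Y X ≫ F.map (ε_ X Y) ≫ OplaxMonoidal.η F
  coevaluation_evaluation' := by
    simp only [MonoidalCategory.whiskerLeft_comp, comp_whiskerRight, Category.assoc,
      Functor.Monoidal.map_associator_inv', Functor.Monoidal.whiskerLeft_δ_μ_assoc,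
      Functor.Monoidal.whiskerRight_δ_μ_assoc]
    rw [LaxMonoidal.μ_natural_right_assoc, ← Category.assoc (F.map _) (F.map _)]
    rw [← F.map_comp, OplaxMonoidal.δ_natural_left_assoc, ← F.map_comp_assoc, Category.assoc,
      ExactPairing.coevaluation_evaluation]
    simp
  evaluation_coevaluation' := by
    simp only [MonoidalCategory.whiskerLeft_comp, comp_whiskerRight, Category.assoc,
      Functor.Monoidal.map_associator', Functor.Monoidal.whiskerRight_δ_μ_assoc,
      Functor.Monoidal.whiskerLeft_δ_μ_assoc]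
    rw [LaxMonoidal.μ_natural_left_assoc, ← Category.assoc (F.map _) (F.map _)]
    rw [← F.map_comp, OplaxMonoidal.δ_natural_right_assoc, ← F.map_comp_assoc, Category.assoc,
      ExactPairing.evaluation_coevaluation]
    simp

theorem map_cR (M : C) :
    letI := mapPairing F X Y
    F.map (cR X Y M) =
      OplaxMonoidal.δ F (M ⊗ Y) X ≫ OplaxMonoidal.δ F M Y ▷ F.obj X ≫
        cR (F.obj X) (F.obj Y) (F.obj M) := by
  let _ := mapPairing F X Y
  have he : ε_ (F.obj X) (F.obj Y) = LaxMonoidal.μ F Y X ≫ F.map (ε_ X Y) ≫ OplaxMonoidal.η F := rfl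
  rw [tensorRightAdjunction_counit_app, tensorRightAdjunction_counit_app, he, F.map_comp, F.map_comp,
    Functor.Monoidal.map_associator, Functor.Monoidal.map_whiskerLeft,
    Functor.Monoidal.map_rightUnitor]
  simp

end Pairing

section Derived

variable {R S : Type u} [CommRing R] [CommRing S] (φ : R →+* S)
  [HasLBase φ] [HasLTen R] [HasLTen S] [HasResTen φ] [ResLegIso φ] [HasRHom R] [HasRHom S]

omit [HasResTen φ] [ResLegIso φ] [HasLTen R] [HasLTen S] [HasRHom R] [HasRHom S] in
/-- Naturality of the unit of derived base change. -/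
theorem unit_nat {T T' : Dual.D R} (f : T ⟶ T') :
    f ≫ (baseAdj φ).unit.app T' =
      (baseAdj φ).unit.app T ≫ (DRing.restrictD φ).map ((LBase φ).map f) :=
  (baseAdj φ).unit.naturality f

theorem wr_bcRHom (K M : Dual.D R) [IsIso (rhomBC φ K ((LBase φ).obj M))] :
    mbar φ ((RHomR R K).obj M) K ≫ wr (bcRHom φ K M) ((LBase φ).obj K) ≫
        ev ((LBase φ).obj K) ((LBase φ).obj M) = (LBase φ).map (ev K M) := by
  apply ((baseAdj φ).homEquiv _ _).injective
  rw [Adjunction.homEquiv_unit, Adjunction.homEquiv_unit, Functor.map_comp,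
    reassoc_of% (unit_mbar φ ((RHomR R K).obj M) K), Functor.map_comp,
    ← reassoc_of% (projPF_natural_left φ (bcRHom φ K M) K), ← rhomBCCore_eq, ← rhomBC_fac φ K]
  change wr ((baseAdj φ).unit.app ((RHomR R K).obj M)) K ≫
      wr ((DRing.restrictD φ).map (bcRHom φ K M)) K ≫ wr (rhomBC φ K ((LBase φ).obj M)) K ≫ ev K _ = _
  rw [← wr_comp_assoc', ← wr_comp_assoc', Category.assoc, reassoc_of% (bcRHom_fac φ K M),
    IsIso.inv_hom_id, Category.comp_id, ev_nat, unit_nat]

/-- Base change of internal homs, characterised through evaluation. -/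
theorem wr_bcRHom' (K M : Dual.D R) [IsIso (rhomBC φ K ((LBase φ).obj M))] :
    haveI := isIso_mbar φ ((RHomR R K).obj M) K
    wr (bcRHom φ K M) ((LBase φ).obj K) ≫ ev ((LBase φ).obj K) ((LBase φ).obj M) =
      inv (mbar φ ((RHomR R K).obj M) K) ≫ (LBase φ).map (ev K M) := by
  have := isIso_mbar φ ((RHomR R K).obj M) K
  rw [IsIso.eq_inv_comp, wr_bcRHom]

theorem bcRHom_nat_left {K K' : Dual.D R} (g : K' ⟶ K) (M : Dual.D R)
    [IsIso (rhomBC φ K ((LBase φ).obj M))] [IsIso (rhomBC φ K' ((LBase φ).obj M))] :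
    bcRHom φ K M ≫ RHomMap ((LBase φ).map g) ((LBase φ).obj M) =
      (LBase φ).map (RHomMap g M) ≫ bcRHom φ K' M := by
  apply hom_ext_ev
  have := isIso_mbar φ ((RHomR R K).obj M) K'
  rw [← cancel_epi (mbar φ ((RHomR R K).obj M) K'), wr_comp, wr_comp, Category.assoc, Category.assoc,
    map_ev, reassoc_of% (exchange (bcRHom φ K M) ((LBase φ).map g)),
    ← reassoc_of% (mbar_natural_right φ ((RHomR R K).obj M) g), wr_bcRHom,
    ← reassoc_of% (mbar_natural_left φ (RHomMap g M) K'), wr_bcRHom, ← Functor.map_comp,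
    ← Functor.map_comp, map_ev]

theorem bcRHom_nat_right (K : Dual.D R) {M M' : Dual.D R} (g : M ⟶ M')
    [IsIso (rhomBC φ K ((LBase φ).obj M))] [IsIso (rhomBC φ K ((LBase φ).obj M'))] :
    (LBase φ).map ((RHomR R K).map g) ≫ bcRHom φ K M' =
      bcRHom φ K M ≫ (RHomR S ((LBase φ).obj K)).map ((LBase φ).map g) := by
  apply hom_ext_ev
  have := isIso_mbar φ ((RHomR R K).obj M) K
  rw [← cancel_epi (mbar φ ((RHomR R K).obj M) K), wr_comp, wr_comp, Category.assoc, Category.assoc,
    ev_nat, reassoc_of% (wr_bcRHom φ K M), ← reassoc_of% (mbar_natural_left φ ((RHomR R K).map g) K),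
    wr_bcRHom, ← Functor.map_comp, ← Functor.map_comp, ev_nat]

theorem theta_ev_comp [HasLTen₃ R] [IsSymMonoidal R] (P D : DRing.Cx R) [ExactPairing P D]
    (hP : IsKFlatCx R P) (hD : IsKFlatCx R D) (L : Dual.D R) :
    wr ((theta P D hP hD).hom.app L) (DerivedCategory.Q.obj P) ≫ ev (DerivedCategory.Q.obj P) L =
      (adjR P D hP hD).counit.app L :=
  theta_ev P D hP hD L

theorem isIso_bcRHom_dual [HasLTen₃ R] [IsSymMonoidal R] [HasLTen₃ S] [IsSymMonoidal S]
    (P D : DRing.Cx R) [ExactPairing P D] (hP : IsKFlatCx R P) (hD : IsKFlatCx R D)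
    (X : DRing.Cx R) (hX : IsKFlatCx R X)
    [IsIso (rhomBC φ (DerivedCategory.Q.obj P) ((LBase φ).obj (DerivedCategory.Q.obj X)))] :
    IsIso (bcRHom φ (DerivedCategory.Q.obj P) (DerivedCategory.Q.obj X)) := by
  let _ := Ext.extMonoidal φ
  let _ := mapPairing (extCx φ) P D
  let P' := DerivedCategory.Q.obj P
  let D' := DerivedCategory.Q.obj D
  let X' := DerivedCategory.Q.obj X
  let eP := DerivedCategory.Q.obj ((extCx φ).obj P)
  let eD := DerivedCategory.Q.obj ((extCx φ).obj D)
  let eX := DerivedCategory.Q.obj ((extCx φ).obj X)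
  have hP' := isKFlat_ext φ hP
  have hD' := isKFlat_ext φ hD
  let θ := theta P D hP hD
  let θ' := theta ((extCx φ).obj P) ((extCx φ).obj D) hP' hD'
  let tX : ten X' D' ⟶ (RHomR R P').obj X' := θ.hom.app X'
  let tE : ten eX eD ⟶ (RHomR S eP).obj eX := θ'.hom.app eX
  have hXiso : IsIso tX := inferInstanceAs (IsIso (θ.hom.app X'))
  have hEiso : IsIso tE := inferInstanceAs (IsIso (θ'.hom.app eX))
  let adj' := adjR ((extCx φ).obj P) ((extCx φ).obj D) hP' hD'
  have := isIso_bc φ hP
  have := isIso_bc φ hD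
  have := isIso_bc φ hX
  have := isIso_mbar φ X' D'
  have := isIso_mbar φ (ten X' D') P'
  obtain ⟨A, hA, hAiso⟩ : ∃ A : (LBase φ).obj (ten X' D') ⟶ ten eX eD,
      A ≫ cmp ((extCx φ).obj X) ((extCx φ).obj D) =
        (LBase φ).map (cmp X D) ≫ bc φ (X ⊗ D) ≫ DerivedCategory.Q.map (Ext.delta φ X D) ∧ IsIso A :=
    ⟨mbar φ X' D' ≫ wr (bc φ X) ((LBase φ).obj D') ≫ wl eX (bc φ D),
      by simp only [Category.assoc]; exact mbar_cmp φ X D, inferInstance⟩
  have key : (LBase φ).map (tX) ≫ bcRHom φ P' X' ≫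
      (RHomR S ((LBase φ).obj P')).map (bc φ X) =
      A ≫ tE ≫ RHomMap (bc φ P) eX := by
    apply hom_ext_ev
    rw [← cancel_epi (mbar φ (ten X' D') P')]
    rw [wr_comp_assoc', wr_comp_assoc', ev_nat,
      ← reassoc_of% (mbar_natural_left φ (tX) P'), reassoc_of% (wr_bcRHom φ P' X'),
      wr_comp_assoc', wr_comp_assoc', map_ev, reassoc_of% (exchange (tE) (bc φ P)), show wr tE eP ≫ ev eP eX = adj'.counit.app eX from theta_ev _ _ _ _ eX,
      ← Functor.map_comp_assoc, show wr tX P' ≫ ev P' X' = (adjR P D hP hD).counit.app X' from theta_ev _ _ _ _ X']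
    rw [show adj'.counit.app eX = wr (cmp ((extCx φ).obj X) ((extCx φ).obj D)) eP ≫
        cmp ((extCx φ).obj X ⊗ (extCx φ).obj D) ((extCx φ).obj P) ≫
        DerivedCategory.Q.map (cR ((extCx φ).obj P) ((extCx φ).obj D) ((extCx φ).obj X)) from
      adjR_counit ((extCx φ).obj P) ((extCx φ).obj D) hP' hD' ((extCx φ).obj X)]
    rw [reassoc_of% (exchange A (bc φ P)), ← wr_comp_assoc', hA,
      ← reassoc_of% (exchange ((LBase φ).map (cmp X D) ≫ bc φ (X ⊗ D) ≫
        DerivedCategory.Q.map (Ext.delta φ X D)) (bc φ P)), wr_comp_assoc', wr_comp_assoc',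
      ← reassoc_of% (mbar_natural_left φ (cmp X D) P'),
      reassoc_of% (exchange (DerivedCategory.Q.map (Ext.delta φ X D)) (bc φ P)),
      reassoc_of% (wr_cmp (Ext.delta φ X D) ((extCx φ).obj P)),
      reassoc_of% (mbar_cmp φ (X ⊗ D) P), ← Functor.map_comp, ← Functor.map_comp]
    have hc : Ext.delta φ (X ⊗ D) P ≫ Ext.delta φ X D ▷ (extCx φ).obj P ≫
        cR ((extCx φ).obj P) ((extCx φ).obj D) ((extCx φ).obj X) = (extCx φ).map (cR P D X) := by
      rw [map_cR (extCx φ) P D X, Ext.extMonoidal_δ, Ext.extMonoidal_δ]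
    rw [hc, adjR_counit, Functor.map_comp, Functor.map_comp, Category.assoc, Category.assoc]
    congr 2
    exact (baseCmp φ).naturality (cR P D X)
  have : IsIso ((LBase φ).map (tX) ≫ bcRHom φ P' X' ≫
      (RHomR S ((LBase φ).obj P')).map (bc φ X)) := by
    rw [key]
    have := isIso_RHomMap (bc φ P) eX
    infer_instance
  have := IsIso.of_isIso_comp_left ((LBase φ).map (tX)) (bcRHom φ P' X' ≫
      (RHomR S ((LBase φ).obj P')).map (bc φ X))
  exact IsIso.of_isIso_comp_right _ ((RHomR S ((LBase φ).obj P')).map (bc φ X))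

/-- Base change of internal homs out of a perfect complex. -/
theorem isIso_bcRHom_of_isPerfect (K M : Dual.D R) [IsIso (rhomBC φ K ((LBase φ).obj M))]
    (hK : DRing.IsPerfect R K) : IsIso (bcRHom φ K M) := by
  have := hasLTen₃ (A := R)
  have := hasLTen₃ (A := S)
  have := isSymMonoidal (A := R)
  have := isSymMonoidal (A := S)
  obtain ⟨P, a, b, hv, hp, ⟨eK⟩⟩ := hK
  obtain ⟨D, ⟨_⟩, hP, hD⟩ := StrictDual.exists_exactPairing P hv hp
  obtain ⟨X, hX, ⟨eM⟩⟩ := exists_kFlat_rep M
  have : ∀ K M, IsIso (rhomBC φ K M) := isIso_rhomBC φ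
  have h₀ := isIso_bcRHom_dual φ P D hP hD X hX
  have h₁ : IsIso (bcRHom φ (DerivedCategory.Q.obj P) M) := by
    have : IsIso ((LBase φ).map ((RHomR R (DerivedCategory.Q.obj P)).map eM.hom) ≫
        bcRHom φ (DerivedCategory.Q.obj P) M) := by
      rw [bcRHom_nat_right]; infer_instance
    exact IsIso.of_isIso_comp_left ((LBase φ).map ((RHomR R (DerivedCategory.Q.obj P)).map eM.hom)) _
  have := isIso_RHomMap eK.hom M
  have := isIso_RHomMap ((LBase φ).map eK.hom) ((LBase φ).obj M)
  have : IsIso (bcRHom φ K M ≫ RHomMap ((LBase φ).map eK.hom) ((LBase φ).obj M)) := by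
    rw [bcRHom_nat_left]; infer_instance
  exact IsIso.of_isIso_comp_right _ (RHomMap ((LBase φ).map eK.hom) ((LBase φ).obj M))

end Derived

end Groth.DTenCalc
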