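import Groth.Prelude.Def_DTen
import Groth.Agent.DAlg.ExactPairingFinite

/-!
Cochain complexes of modules form a symmetric monoidal category.
-/

universe u

open CategoryTheory CategoryTheory.Limits MonoidalCategory HomologicalComplex DTen
open Groth.DAlg.Pairing (ι_whiskerRight ι_whiskerLeft ι_associator)

set_option backward.isDefEq.respectTransparency false

namespace Groth.DTenCalc

variable {A : Type u} [CommRing A]

theorem braidCx_hom_hom (K L : DRing.Cx A) : (braidCx K L).hom ≫ (braidCx L K).hom = 𝟙 _ := by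
  refine HomologicalComplex.hom_ext _ _ fun n =>
    HomologicalComplex.mapBifunctor.hom_ext fun p q h => ?_
  rw [HomologicalComplex.comp_f, HomologicalComplex.id_f]
  erw [ι_braidCx_hom_assoc K L p q n h, Category.comp_id]
  rw [Linear.units_smul_comp, Category.assoc]
  erw [ι_braidCx_hom L K q p n (by dsimp at h ⊢; omega)]
  rw [Linear.comp_units_smul, smul_smul, mul_comm q p, Int.units_mul_self, one_smul,
    SymmetricCategory.symmetry_assoc]

theorem units_smul_whiskerRight {M N : ModuleCat.{u} A} (r : ℤˣ) (f : M ⟶ N) (P : ModuleCat.{u} A) :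
    (r • f) ▷ P = r • (f ▷ P) := by
  rw [Units.smul_def, Units.smul_def]
  exact (tensorRight P).map_zsmul

theorem whiskerLeft_units_smul {M N : ModuleCat.{u} A} (r : ℤˣ) (f : M ⟶ N) (P : ModuleCat.{u} A) :
    P ◁ (r • f) = r • (P ◁ f) := by
  rw [Units.smul_def, Units.smul_def]
  exact (tensorLeft P).map_zsmul

theorem hexagon_forward (X Y Z : DRing.Cx A) :
    (α_ X Y Z).hom ≫ (braidCx X (Y ⊗ Z)).hom ≫ (α_ Y Z X).hom =
      (braidCx X Y).hom ▷ Z ≫ (α_ Y X Z).hom ≫ Y ◁ (braidCx X Z).hom := by
  refine HomologicalComplex.hom_ext _ _ fun n => ?_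
  refine HomologicalComplex.mapBifunctor₁₂.hom_ext
    (F₁₂ := curriedTensor (ModuleCat.{u} A)) (G := curriedTensor (ModuleCat.{u} A))
    (c₁₂ := ComplexShape.up ℤ) fun i j k hijk => ?_
  have hn : i + j + k = n := hijk
  rw [HomologicalComplex.mapBifunctor₁₂.ι_eq _ _ _ _ _ _ _ i j k (i + j) n rfl hn]
  change ((ιTensorObj X Y i j (i + j) rfl ▷ Z.X k) ≫ ιTensorObj (X ⊗ Y) Z (i + j) k n hn) ≫ _ =
    ((ιTensorObj X Y i j (i + j) rfl ▷ Z.X k) ≫ ιTensorObj (X ⊗ Y) Z (i + j) k n hn) ≫ _
  simp only [HomologicalComplex.comp_f, Category.assoc]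
  erw [reassoc_of% (ι_associator X Y Z i j k (i + j) (j + k) n rfl rfl (by omega) hn)]
  erw [ι_braidCx_hom_assoc X (Y ⊗ Z) i (j + k) n (by omega)]
  simp only [Linear.units_smul_comp, Linear.comp_units_smul, Category.assoc]
  erw [BraidedCategory.braiding_naturality_right_assoc]
  erw [ι_associator Y Z X j k i (j + k) (i + k) n rfl (by omega) (by omega) (by omega)]
  erw [reassoc_of% (ι_whiskerRight (braidCx X Y).hom Z (i + j) k n hn)]
  rw [← comp_whiskerRight_assoc]
  erw [ι_braidCx_hom X Y i j (i + j) rfl]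
  rw [units_smul_whiskerRight, Linear.units_smul_comp, comp_whiskerRight, Category.assoc]
  erw [reassoc_of% (ι_associator Y X Z j i k (i + j) (i + k) n (by omega) rfl (by omega) hn)]
  erw [ι_whiskerLeft Y (braidCx X Z).hom j (i + k) n (by omega)]
  rw [← MonoidalCategory.whiskerLeft_comp_assoc]
  erw [ι_braidCx_hom X Z i k (i + k) rfl]
  rw [whiskerLeft_units_smul, Linear.units_smul_comp, Linear.comp_units_smul,
    Linear.comp_units_smul, smul_smul, ← Int.negOnePow_add, ← mul_add,
    MonoidalCategory.whiskerLeft_comp, Category.assoc]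
  congr 1
  rw [← BraidedCategory.hexagon_forward_assoc]

theorem hexagon_reverse (X Y Z : DRing.Cx A) :
    (α_ X Y Z).inv ≫ (braidCx (X ⊗ Y) Z).hom ≫ (α_ Z X Y).inv =
      X ◁ (braidCx Y Z).hom ≫ (α_ X Z Y).inv ≫ (braidCx X Z).hom ▷ Y := by
  have hinv : ∀ K L : DRing.Cx A, (braidCx K L).inv = (braidCx L K).hom := fun K L => by
    rw [← cancel_epi (braidCx K L).hom, Iso.hom_inv_id, braidCx_hom_hom]
  have e : (α_ Z X Y ≪≫ braidCx Z (X ⊗ Y) ≪≫ α_ X Y Z) =
      whiskerRightIso (braidCx Z X) Y ≪≫ α_ X Z Y ≪≫ whiskerLeftIso X (braidCx Z Y) := by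
    ext1
    exact hexagon_forward Z X Y
  have := congrArg Iso.inv e
  simp only [Iso.trans_inv, whiskerRightIso_inv, whiskerLeftIso_inv, hinv, Category.assoc] at this
  exact this

/-- The symmetric structure on complexes of modules. -/
@[implicit_reducible]
noncomputable def symmetricCx : SymmetricCategory (DRing.Cx A) where
  braiding X Y := braidCx X Y
  braiding_naturality_right X {Y Z} f := by
    have := braidCx_naturality (𝟙 X) f
    simpa only [id_tensorHom, tensorHom_id] using this
  braiding_naturality_left {X Y} f Z := by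
    have := braidCx_naturality f (𝟙 Z)
    simpa only [id_tensorHom, tensorHom_id] using this
  hexagon_forward X Y Z := hexagon_forward X Y Z
  hexagon_reverse X Y Z := hexagon_reverse X Y Z
  symmetry X Y := braidCx_hom_hom X Y

end Groth.DTenCalc
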