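import Groth.Prelude.Def_DTen6
import Groth.Agent.DAlg.KFlatOps
import Groth.Agent.KTheory.BaseCmpKFlat
import Groth.Agent.DerivedCoh.Derived

/-! # The derived tensor products are computed by K-flat complexes -/

set_option autoImplicit false
universe u

open CategoryTheory CategoryTheory.Limits MonoidalCategory HomologicalComplex
attribute [local instance] HasDerivedCategory.standard

namespace Groth.DTenCalc

open Groth.DAlg.KFlatMod DTen

/-- The counit of a total left derived functor is invertible where the resolution computes it. -/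
theorem isIso_counit_of_resolution {C D H : Type*} [Category* C] [Category* D] [Category* H]
    (L : C ⥤ D) (W : MorphismProperty C) [L.IsLocalization W] (F : C ⥤ H)
    [F.HasLeftDerivedFunctor W] (R : C ⥤ C) (π : R ⟶ 𝟭 C) (hπ : ∀ X, W (π.app X))
    (hR : W.IsInvertedBy (R ⋙ F)) (hπR : ∀ X, IsIso (F.map (π.app (R.obj X))))
    (X : C) (hX : IsIso (F.map (π.app X))) :
    IsIso ((F.totalLeftDerivedCounit L W).app X) := by
  obtain ⟨LF, α, hα, hiso⟩ :=
    Groth.DerivedCoh.exists_isRightKanExtension_of_resolution L W F R π hπ hR hπR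
  let LF' := F.totalLeftDerived L W
  let c := F.totalLeftDerivedCounit L W
  have hc : LF'.IsRightKanExtension c :=
    Functor.IsLeftDerivedFunctor.isRightKanExtension (W := W) _ _
  let e := LF'.rightKanExtensionUnique c LF α
  have he : e.hom.app (L.obj X) ≫ α.app X = c.app X := by
    refine (LF.liftOfIsRightKanExtension_fac_app α LF' (c ≫ 𝟙 _) X).trans ?_
    simp
  have := hiso X hX
  rw [← he]
  infer_instance

theorem hasLeftDerivedFunctor_of_resolution {C D H : Type*} [Category* C] [Category* D] [Category* H]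
    (L : C ⥤ D) (W : MorphismProperty C) [L.IsLocalization W] (F : C ⥤ H)
    (R : C ⥤ C) (π : R ⟶ 𝟭 C) (hπ : ∀ X, W (π.app X))
    (hR : W.IsInvertedBy (R ⋙ F)) (hπR : ∀ X, IsIso (F.map (π.app (R.obj X)))) :
    F.HasLeftDerivedFunctor W := by
  obtain ⟨LF, α, hα, -⟩ :=
    Groth.DerivedCoh.exists_isRightKanExtension_of_resolution L W F R π hπ hR hπR
  exact (Functor.hasLeftDerivedFunctor_iff F L W).2 (Functor.HasRightKanExtension.mk LF α)

variable {A : Type u} [CommRing A]

theorem qis_iff {K L : DRing.Cx A} (f : K ⟶ L) : qis A f ↔ QuasiIso f :=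
  HomologicalComplex.mem_quasiIso_iff f

instance qis_respects : (qis A).RespectsIso :=
  inferInstanceAs (HomologicalComplex.quasiIso (ModuleCat.{u} A) (ComplexShape.up ℤ)).RespectsIso

theorem qis_res (M : DRing.Cx A) : qis A ((resAug A).app M) :=
  (qis_iff _).2 (resAug_quasiIso M)

theorem qis_res_map {M N : DRing.Cx A} (f : M ⟶ N) (hf : qis A f) :
    QuasiIso ((resFunctor A).map f) := by
  have := (qis_iff f).1 hf
  have := resAug_quasiIso M
  have := resAug_quasiIso N
  have : QuasiIso ((resFunctor A).map f ≫ (resAug A).app N) := by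
    rw [(resAug A).naturality f]
    change QuasiIso ((resAug A).app M ≫ f)
    infer_instance
  exact quasiIso_of_comp_right _ ((resAug A).app N)

/-- Tensoring on the left with a K-flat complex preserves quasi-isomorphisms. -/
theorem quasiIso_whiskerLeft_of_kFlat {K : DRing.Cx A} (hK : IsKFlatCx A K) {L₁ L₂ : DRing.Cx A}
    (g : L₁ ⟶ L₂) [QuasiIso g] : QuasiIso (K ◁ g) := by
  have h1 : QuasiIso (g ▷ K) := quasiIso_whiskerRight hK g
  have h2 : K ◁ g = (braidCx K L₁).hom ≫ (g ▷ K) ≫ (braidCx L₂ K).hom := by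
    have h := braidCx_naturality (A := A) (𝟙 K) g
    simp only [id_tensorHom, tensorHom_id] at h
    rw [← reassoc_of% h]
    have h3 : (braidCx K L₂).hom ≫ (braidCx L₂ K).hom = 𝟙 _ := by
      refine HomologicalComplex.hom_ext _ _ fun n =>
        HomologicalComplex.mapBifunctor.hom_ext fun p q h => ?_
      rw [HomologicalComplex.comp_f, HomologicalComplex.id_f]
      erw [ι_braidCx_hom_assoc K L₂ p q n h, Category.comp_id]
      rw [Linear.units_smul_comp, Category.assoc]
      erw [ι_braidCx_hom L₂ K q p n (by dsimp at h ⊢; omega)]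
      rw [Linear.comp_units_smul, smul_smul, mul_comm q p, Int.units_mul_self, one_smul,
        SymmetricCategory.symmetry_assoc]
    rw [h3, Category.comp_id]
  rw [h2]
  infer_instance

/-- A map of pairs of quasi-isomorphisms is inverted by the tensor product when the two middle
tensor factors are K-flat. -/
theorem quasiIso_tensorT_map {K K' L L' : DRing.Cx A} (f : K ⟶ K') (g : L ⟶ L') [QuasiIso f]
    [QuasiIso g] (hL : IsKFlatCx A L) (hK' : IsKFlatCx A K') :
    QuasiIso ((tensorT A).map (Prod.mkHom f g)) := by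
  have := quasiIso_whiskerRight hL f
  have := quasiIso_whiskerLeft_of_kFlat hK' g
  change QuasiIso (f ▷ L ≫ K' ◁ g)
  infer_instance

/-- The tensor product of K-flat complexes is K-flat. -/
theorem isKFlat_tensor {K L : DRing.Cx A} (hK : DRing.IsKFlat A K) (hL : DRing.IsKFlat A L) :
    DRing.IsKFlat A (K ⊗ L) := fun M hM i =>
  IsZero.of_iso (hL (M ⊗ K) (fun j => hK M hM j) i)
    ((homologyFunctor _ _ i).mapIso (α_ M K L).symm)

theorem res_kFlat (M : DRing.Cx A) : IsKFlatCx A ((resFunctor A).obj M) := res_isKFlat M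

/-- The tensor product inverts resolved quasi-isomorphisms. -/
theorem isIso_tensor₂_map {K K' L L' : DRing.Cx A} (f : K ⟶ K') (g : L ⟶ L') (hf : QuasiIso f)
    (hg : QuasiIso g) (hL : IsKFlatCx A L) (hK' : IsKFlatCx A K') :
    IsIso ((tensor₂ A).map (Prod.mkHom f g)) :=
  (DerivedCategory.isIso_Q_map_iff_quasiIso _ _).2 (quasiIso_tensorT_map f g hL hK')

theorem res₂_inverted : (qis₂ A).IsInvertedBy ((resFunctor A).prod (resFunctor A) ⋙ tensor₂ A) :=
  fun _ _ f hf => isIso_tensor₂_map ((resFunctor A).map f.1) ((resFunctor A).map f.2)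
    (qis_res_map f.1 hf.1) (qis_res_map f.2 hf.2) (res_kFlat _) (res_kFlat _)

theorem res₂_res (X : DRing.Cx A × DRing.Cx A) :
    IsIso ((tensor₂ A).map ((NatTrans.prod (resAug A) (resAug A)).app
      (((resFunctor A).prod (resFunctor A)).obj X))) :=
  isIso_tensor₂_map ((resAug A).app ((resFunctor A).obj X.1))
    ((resAug A).app ((resFunctor A).obj X.2)) (resAug_quasiIso _) (resAug_quasiIso _) (res_kFlat _)
    (res_kFlat _)

theorem hasLTen : DTen.HasLTen A :=
  hasLeftDerivedFunctor_of_resolution (QQ A) (qis₂ A) (tensor₂ A)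
    ((resFunctor A).prod (resFunctor A)) (NatTrans.prod (resAug A) (resAug A))
    (fun X => ⟨qis_res X.1, qis_res X.2⟩) res₂_inverted res₂_res

/-- The derived tensor product is computed by the tensor product on a K-flat first factor. -/
theorem isIso_ε [HasLTen A] (K L : DRing.Cx A) (hK : IsKFlatCx A K) :
    IsIso ((ε A).app (K, L)) :=
  isIso_counit_of_resolution (QQ A) (qis₂ A) (tensor₂ A)
    ((resFunctor A).prod (resFunctor A)) (NatTrans.prod (resAug A) (resAug A))
    (fun X => ⟨qis_res X.1, qis_res X.2⟩) res₂_inverted res₂_res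
    (K, L) (isIso_tensor₂_map ((resAug A).app K) ((resAug A).app L) (resAug_quasiIso _)
      (resAug_quasiIso _) (res_kFlat _) hK)

/-- The triple tensor product inverts resolved quasi-isomorphisms. -/
theorem isIso_tensor₃_map {K K' L L' M M' : DRing.Cx A} (f : K ⟶ K') (g : L ⟶ L') (h : M ⟶ M')
    (hf : QuasiIso f) (hg : QuasiIso g) (hh : QuasiIso h) (hK' : IsKFlatCx A K')
    (hL : IsKFlatCx A L) (hL' : IsKFlatCx A L') (hM : IsKFlatCx A M) :
    IsIso ((tensor₃ A).map (Prod.mkHom f (Prod.mkHom g h))) := by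
  have := quasiIso_tensorT_map g h hM hL'
  exact isIso_tensor₂_map f ((tensorT A).map (Prod.mkHom g h)) hf this (isKFlat_tensor hL hM) hK'

/-- The triple derived tensor product is computed by K-flat complexes. -/
theorem isIso_ε₃ [HasLTen₃ A] (K L M : DRing.Cx A) (hK : IsKFlatCx A K) (hL : IsKFlatCx A L) :
    IsIso ((ε₃ A).app (K, (L, M))) :=
  isIso_counit_of_resolution (QQQ A) (qis₃ A) (tensor₃ A)
    ((resFunctor A).prod ((resFunctor A).prod (resFunctor A)))
    (NatTrans.prod (resAug A) (NatTrans.prod (resAug A) (resAug A)))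
    (fun X => ⟨qis_res X.1, qis_res X.2.1, qis_res X.2.2⟩)
    (fun _ _ f hf => isIso_tensor₃_map ((resFunctor A).map f.1) ((resFunctor A).map f.2.1)
      ((resFunctor A).map f.2.2) (qis_res_map f.1 hf.1) (qis_res_map f.2.1 hf.2.1)
      (qis_res_map f.2.2 hf.2.2) (res_kFlat _) (res_kFlat _) (res_kFlat _) (res_kFlat _))
    (fun X => isIso_tensor₃_map ((resAug A).app ((resFunctor A).obj X.1))
      ((resAug A).app ((resFunctor A).obj X.2.1)) ((resAug A).app ((resFunctor A).obj X.2.2))
      (resAug_quasiIso _) (resAug_quasiIso _) (resAug_quasiIso _) (res_kFlat _) (res_kFlat _)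
      (res_kFlat _) (res_kFlat _))
    (K, (L, M)) (isIso_tensor₃_map ((resAug A).app K) ((resAug A).app L) ((resAug A).app M)
      (resAug_quasiIso _) (resAug_quasiIso _) (resAug_quasiIso _) hK (res_kFlat _) hL (res_kFlat _))

section Mix

variable {R S : Type u} [CommRing R] [CommRing S] (φ : R →+* S)

theorem isKFlat_ext {K : DRing.Cx R} (hK : IsKFlatCx R K) : IsKFlatCx S ((extCx φ).obj K) :=
  isKFlatCx_extCx φ hK

theorem isIso_mix₂_map {K K' : DRing.Cx R} {N N' : DRing.Cx S} (f : K ⟶ K') (g : N ⟶ N')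
    (hf : QuasiIso f) (hg : QuasiIso g) (hK : IsKFlatCx R K) (hK' : IsKFlatCx R K')
    (hN : IsKFlatCx S N) : IsIso ((mix₂ φ).map (Prod.mkHom f g)) :=
  isIso_tensor₂_map ((extCx φ).map f) g
    (Groth.BaseCmpKFlat.quasiIso_extCx_of_kFlat φ hK hK' f) hg hN (isKFlat_ext φ hK')

/-- The mixed derived tensor product is computed by a K-flat first factor. -/
theorem isIso_εMix [HasLTenMix φ] (K : DRing.Cx R) (N : DRing.Cx S) (hK : IsKFlatCx R K) :
    IsIso ((εMix φ).app (K, N)) :=
  isIso_counit_of_resolution (QMix R S) (qisMix R S) (mix₂ φ)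
    ((resFunctor R).prod (resFunctor S)) (NatTrans.prod (resAug R) (resAug S))
    (fun X => ⟨qis_res X.1, qis_res X.2⟩)
    (fun _ _ f hf => isIso_mix₂_map φ ((resFunctor R).map f.1) ((resFunctor S).map f.2)
      (qis_res_map f.1 hf.1) (qis_res_map f.2 hf.2) (res_kFlat _) (res_kFlat _) (res_kFlat _))
    (fun X => isIso_mix₂_map φ ((resAug R).app ((resFunctor R).obj X.1))
      ((resAug S).app ((resFunctor S).obj X.2)) (resAug_quasiIso _) (resAug_quasiIso _)
      (res_kFlat _) (res_kFlat _) (res_kFlat _))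
    (K, N) (isIso_mix₂_map φ ((resAug R).app K) ((resAug S).app N) (resAug_quasiIso _)
      (resAug_quasiIso _) (res_kFlat _) hK (res_kFlat _))

variable {T : Type u} [CommRing T] (ψ : S →+* T)

theorem isIso_mix₃_map {M M' : DRing.Cx R} {N N' : DRing.Cx S} {K K' : DRing.Cx T}
    (f : M ⟶ M') (g : N ⟶ N') (k : K ⟶ K') (hf : QuasiIso f) (hg : QuasiIso g) (hk : QuasiIso k)
    (hM : IsKFlatCx R M) (hM' : IsKFlatCx R M') (hN : IsKFlatCx S N) (hN' : IsKFlatCx S N')
    (hK : IsKFlatCx T K) :
    IsIso ((mix₃ φ ψ).map (Prod.mkHom f (Prod.mkHom g k))) := by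
  have := Groth.BaseCmpKFlat.quasiIso_extCx_of_kFlat φ hM hM' f
  have := quasiIso_tensorT_map ((extCx φ).map f) g hN (isKFlat_ext φ hM')
  have h2 := Groth.BaseCmpKFlat.quasiIso_extCx_of_kFlat ψ
    (isKFlat_tensor (isKFlat_ext φ hM) hN) (isKFlat_tensor (isKFlat_ext φ hM') hN')
    ((tensorT S).map (Prod.mkHom ((extCx φ).map f) g))
  exact isIso_tensor₂_map ((extCx ψ).map ((tensorT S).map (Prod.mkHom ((extCx φ).map f) g))) k h2 hk
    hK (isKFlat_ext ψ (isKFlat_tensor (isKFlat_ext φ hM') hN'))

/-- The mixed triple derived tensor product is computed by K-flat complexes. -/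
theorem isIso_εMix₃ [HasLTenMix₃ φ ψ] (M : DRing.Cx R) (N : DRing.Cx S) (K : DRing.Cx T)
    (hM : IsKFlatCx R M) (hN : IsKFlatCx S N) :
    IsIso ((εMix₃ φ ψ).app (M, (N, K))) :=
  isIso_counit_of_resolution (QMix₃ R S T) (qisMix₃ R S T) (mix₃ φ ψ)
    ((resFunctor R).prod ((resFunctor S).prod (resFunctor T)))
    (NatTrans.prod (resAug R) (NatTrans.prod (resAug S) (resAug T)))
    (fun X => ⟨qis_res X.1, qis_res X.2.1, qis_res X.2.2⟩)
    (fun _ _ f hf => isIso_mix₃_map φ ψ ((resFunctor R).map f.1) ((resFunctor S).map f.2.1)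
      ((resFunctor T).map f.2.2) (qis_res_map f.1 hf.1) (qis_res_map f.2.1 hf.2.1)
      (qis_res_map f.2.2 hf.2.2) (res_kFlat _) (res_kFlat _) (res_kFlat _) (res_kFlat _)
      (res_kFlat _))
    (fun X => isIso_mix₃_map φ ψ ((resAug R).app ((resFunctor R).obj X.1))
      ((resAug S).app ((resFunctor S).obj X.2.1)) ((resAug T).app ((resFunctor T).obj X.2.2))
      (resAug_quasiIso _) (resAug_quasiIso _) (resAug_quasiIso _) (res_kFlat _) (res_kFlat _)
      (res_kFlat _) (res_kFlat _) (res_kFlat _))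
    (M, (N, K)) (isIso_mix₃_map φ ψ ((resAug R).app M) ((resAug S).app N) ((resAug T).app K)
      (resAug_quasiIso _) (resAug_quasiIso _) (resAug_quasiIso _) (res_kFlat _) hM (res_kFlat _)
      hN (res_kFlat _))

end Mix

instance isIso_mkHom {C D : Type*} [Category* C] [Category* D] {X X' : C} {Y Y' : D} (f : X ⟶ X')
    (g : Y ⟶ Y') [IsIso f] [IsIso g] : IsIso (Prod.mkHom f g) :=
  (isIso_prod_iff C D).2 ⟨inferInstance, inferInstance⟩

/-- Every object of the derived category has a K-flat representative. -/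
theorem exists_kFlat_rep (X : Dual.D A) :
    ∃ K : DRing.Cx A, IsKFlatCx A K ∧ Nonempty (DerivedCategory.Q.obj K ≅ X) := by
  refine ⟨(resFunctor A).obj (DerivedCategory.Q.objPreimage X), res_kFlat _, ⟨?_⟩⟩
  have := resAug_quasiIso (DerivedCategory.Q.objPreimage X)
  exact asIso (DerivedCategory.Q.map ((resAug A).app (DerivedCategory.Q.objPreimage X))) ≪≫
    DerivedCategory.Q.objObjPreimageIso X

/-- A natural transformation is invertible at an object isomorphic to one where it is. -/
theorem isIso_app_of_iso {C D : Type*} [Category* C] [Category* D] {F G : C ⥤ D} (τ : F ⟶ G)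
    {X Y : C} (e : X ≅ Y) (h : IsIso (τ.app X)) : IsIso (τ.app Y) :=
  (NatTrans.isIso_app_iff_of_iso τ e).1 h

end Groth.DTenCalc
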