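import Groth.Agent.DAlg.ExactPairingFinite
import Groth.Agent.DAlg.KFlat
import Mathlib.LinearAlgebra.Dual.Lemmas

/-!
The dual of a bounded complex of finite projective modules, as a dual for the tensor product.
-/

universe u

open CategoryTheory CategoryTheory.Limits HomologicalComplex MonoidalCategory
open scoped TensorProduct
open Groth.DAlg.KFlatMod (IsKFlatCx)
open Groth.DAlg.Pairing (ι_leftUnitor ι_rightUnitor ι_whiskerRight ι_whiskerLeft ι_associator
  ι_associator_inv)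

set_option backward.isDefEq.respectTransparency false

namespace Groth.DTenCalc.StrictDual

variable {A : Type u} [CommRing A]

/-- A summand of a tensor product of complexes, on elements. -/
noncomputable def tm (K L : DRing.Cx A) {i j n : ℤ} (h : i + j = n) :
    K.X i ⊗[A] L.X j →ₗ[A] (K ⊗ L : DRing.Cx A).X n :=
  (ιTensorObj K L i j n h).hom

/-- The differential on elementary tensors. -/
theorem d_tm (K L : DRing.Cx A) {i j n : ℤ} (h : i + j = n) (n' i' j' : ℤ) (hn : n + 1 = n')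
    (hi : i + 1 = i') (hj : j + 1 = j') (x : K.X i) (y : L.X j) :
    (K ⊗ L : DRing.Cx A).d n n' (tm K L h (x ⊗ₜ y)) =
      tm K L (show i' + j = n' by omega) (K.d i i' x ⊗ₜ y) +
        (i.negOnePow : ℤ) • tm K L (show i + j' = n' by omega) (x ⊗ₜ L.d j j' y) := by
  have e : ιTensorObj K L i j n h ≫ (HomologicalComplex.tensorObj K L).d n n' =
      (K.d i i' ▷ L.X j) ≫ ιTensorObj K L i' j n' (by omega) +
        (i.negOnePow : ℤ) • ((K.X i ◁ L.d j j') ≫ ιTensorObj K L i j' n' (by omega)) := by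
    rw [mapBifunctor.d_eq, Preadditive.comp_add, mapBifunctor.ι_D₁, mapBifunctor.ι_D₂]
    rw [mapBifunctor.d₁_eq K L (curriedTensor _) (ComplexShape.up ℤ)
      (show (ComplexShape.up ℤ).Rel i i' from hi) j n' (show i' + j = n' by omega)]
    rw [mapBifunctor.d₂_eq K L (curriedTensor _) (ComplexShape.up ℤ) i
      (show (ComplexShape.up ℤ).Rel j j' from hj) n' (show i + j' = n' by omega)]
    simp only [ComplexShape.ε₁, TotalComplexShape.ε₁, ComplexShape.ε₂, TotalComplexShape.ε₂,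
      ComplexShape.ε, ComplexShape.TensorSigns.ε', one_smul]
    rfl
  exact LinearMap.congr_fun (congrArg ModuleCat.Hom.hom e) (x ⊗ₜ y)

variable (P : DRing.Cx A)

/-- The dual complex. -/
noncomputable def dualCx : DRing.Cx A where
  X n := ModuleCat.of A (Module.Dual A (P.X (-n)))
  d n m := ModuleCat.ofHom ((m.negOnePow : ℤ) • (P.d (-m) (-n)).hom.dualMap)
  shape n m h := by
    have hd : P.d (-m) (-n) = 0 := P.shape _ _ (fun h' => h (by
      change -m + 1 = -n at h'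
      change n + 1 = m
      omega))
    ext φ x
    simp [hd]
  d_comp_d' i j k _ _ := by
    ext φ x
    have hdd : (P.d (-j) (-i)).hom ((P.d (-k) (-j)).hom x) = 0 := by
      rw [← LinearMap.comp_apply, ← ModuleCat.hom_comp, P.d_comp_d]
      rfl
    simp [hdd]

/-- An element of the dual complex as a linear form. -/
noncomputable def form {n : ℤ} : (dualCx P).X n →ₗ[A] Module.Dual A (P.X (-n)) := LinearMap.id

theorem dualCx_d_apply (n m : ℤ) (φ : (dualCx P).X n) (x : P.X (-m)) :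
    form P ((dualCx P).d n m φ) x =
      (m.negOnePow : ℤ) • form P φ (P.d (-m) (-n) x) := rfl

/-- Evaluation on a summand. -/
noncomputable def evalTerm (i j : ℤ) (h : i + j = 0) :
    (dualCx P).X i ⊗[A] P.X j →ₗ[A] A :=
  TensorProduct.lift ((LinearMap.id : Module.Dual A (P.X (-i)) →ₗ[A] P.X (-i) →ₗ[A] A).compl₂
    (P.XIsoOfEq (show j = -i by omega)).hom.hom)

theorem evalTerm_tmul (i : ℤ) (h : i + -i = 0) (φ : (dualCx P).X i) (x : P.X (-i)) :
    evalTerm P i (-i) h (φ ⊗ₜ x) = form P φ x := by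
  simp only [evalTerm, TensorProduct.lift.tmul, LinearMap.compl₂_apply]
  rfl

/-- Evaluation in degree zero. -/
noncomputable def eval₀ : (dualCx P ⊗ P : DRing.Cx A).X 0 ⟶ 𝟙_ (ModuleCat.{u} A) :=
  mapBifunctorDesc fun i j h => ModuleCat.ofHom (evalTerm P i j h)

theorem eval₀_tm (i j : ℤ) (h : i + j = 0) (t : (dualCx P).X i ⊗[A] P.X j) :
    eval₀ P (tm (dualCx P) P h t) = evalTerm P i j h t :=
  LinearMap.congr_fun (congrArg ModuleCat.Hom.hom (ι_mapBifunctorDesc
    (K₁ := dualCx P) (K₂ := P) (F := curriedTensor (ModuleCat.{u} A)) (c := ComplexShape.up ℤ)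
    (fun i j h => ModuleCat.ofHom (evalTerm P i j h)) i j h)) t

/-- Evaluation, as a map of complexes. -/
noncomputable def evalCx : dualCx P ⊗ P ⟶ 𝟙_ (DRing.Cx A) :=
  mkHomToSingle (eval₀ P) fun k hk => by
    change k + 1 = 0 at hk
    refine mapBifunctor.hom_ext (F := curriedTensor (ModuleCat.{u} A)) fun i j h => ?_
    change i + j = k at h
    obtain rfl : j = -(i + 1) := by omega
    refine ModuleCat.MonoidalCategory.tensor_ext fun φ x => ?_
    show eval₀ P ((dualCx P ⊗ P : DRing.Cx A).d k 0 (tm (dualCx P) P h (φ ⊗ₜ x))) = 0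
    rw [d_tm (dualCx P) P h 0 (i + 1) (-i) hk rfl (by omega), map_add, map_zsmul, eval₀_tm,
      eval₀_tm, evalTerm_tmul, evalTerm_tmul, dualCx_d_apply, Int.negOnePow_succ]
    simp

variable {P}

/-- A finite dual basis of a module. -/
structure Basis (M : ModuleCat.{u} A) where
  k : ℕ
  m : Fin k → M
  φ : Fin k → Module.Dual A M
  sum_smul : ∀ x, ∑ l, φ l x • m l = x

theorem nonempty_basis (M : ModuleCat.{u} A) [Module.Finite A M] [Module.Projective A M] :
    Nonempty (Basis M) := by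
  obtain ⟨k, f, g, -, -, hfg⟩ := Module.Finite.exists_comp_eq_id_of_projective A M
  refine ⟨⟨k, fun l => f (Pi.single l 1), fun l => (LinearMap.proj l).comp g, fun x => ?_⟩⟩
  simp only [LinearMap.comp_apply, LinearMap.proj_apply, ← map_smul]
  rw [← map_sum, ← pi_eq_sum_univ']
  exact LinearMap.congr_fun hfg x

theorem Basis.sum_apply_smul {M : ModuleCat.{u} A} (b : Basis M) (ψ : Module.Dual A M) :
    ∑ l, ψ (b.m l) • b.φ l = ψ := by
  refine LinearMap.ext fun x => ?_
  conv_rhs => rw [← b.sum_smul x]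
  simp [LinearMap.sum_apply, mul_comm]

variable (P) (b : ∀ q : ℤ, Basis (P.X (-q)))

/-- The canonical element of a summand. -/
noncomputable def coevTerm (q : ℤ) : P.X (-q) ⊗[A] (dualCx P).X q :=
  ∑ l, (b q).m l ⊗ₜ[A] ((b q).φ l : (dualCx P).X q)

/-- The canonical element commutes with any map. -/
theorem sum_map_tmul {M N : ModuleCat.{u} A} (bM : Basis M) (bN : Basis N) (f : M →ₗ[A] N) :
    ∑ l, f (bM.m l) ⊗ₜ[A] bM.φ l = ∑ l, bN.m l ⊗ₜ[A] (f.dualMap (bN.φ l)) := by
  calc ∑ l, f (bM.m l) ⊗ₜ[A] bM.φ l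
      = ∑ l, ∑ l', bN.m l' ⊗ₜ[A] (bN.φ l' (f (bM.m l)) • bM.φ l) := by
        refine Finset.sum_congr rfl fun l _ => ?_
        conv_lhs => rw [← bN.sum_smul (f (bM.m l))]
        simp [TensorProduct.sum_tmul, TensorProduct.smul_tmul]
    _ = ∑ l', bN.m l' ⊗ₜ[A] (f.dualMap (bN.φ l')) := by
        rw [Finset.sum_comm]
        refine Finset.sum_congr rfl fun l' _ => ?_
        rw [← TensorProduct.tmul_sum, ← bM.sum_apply_smul (f.dualMap (bN.φ l'))]
        rfl

/-- The part of the differential of the canonical element which lowers the dual. -/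
noncomputable def bdry (q : ℤ) : (P ⊗ dualCx P : DRing.Cx A).X 1 :=
  ((-q).negOnePow : ℤ) • ∑ l, tm P (dualCx P) (show -q + (q + 1) = 1 by omega)
    ((b q).m l ⊗ₜ (dualCx P).d q (q + 1) ((b q).φ l))

theorem d_coevTerm (q r : ℤ) (hr : r + 1 = q) :
    (P ⊗ dualCx P : DRing.Cx A).d 0 1 (tm P (dualCx P) (neg_add_cancel q) (coevTerm P b q)) =
      bdry P b q - bdry P b r := by
  subst hr
  rw [coevTerm, map_sum, map_sum]
  simp only [d_tm P (dualCx P) (neg_add_cancel (r + 1)) 1 (-r) (r + 1 + 1) rfl (by omega) rfl]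
  rw [Finset.sum_add_distrib, ← Finset.smul_sum]
  change _ + bdry P b (r + 1) = _
  rw [add_comm, eq_sub_iff_add_eq, add_assoc, add_eq_left, bdry, ← map_sum, ← map_sum]
  erw [sum_map_tmul (b (r + 1)) (b r) (P.d (-(r + 1)) (-r)).hom]
  have e : ∀ l, (dualCx P).d r (r + 1) ((b r).φ l) =
      ((r + 1).negOnePow : ℤ) • ((P.d (-(r + 1)) (-r)).hom.dualMap ((b r).φ l)) := fun l => rfl
  rw [map_sum, map_sum, Finset.smul_sum, ← Finset.sum_add_distrib]
  refine Finset.sum_eq_zero fun l _ => ?_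
  rw [e, TensorProduct.tmul_smul, map_zsmul, smul_smul, Int.negOnePow_succ, Int.negOnePow_neg]
  simp

variable (a : ℤ) (N : ℕ)

/-- The canonical element in a range of degrees. -/
noncomputable def coev₀ : 𝟙_ (ModuleCat.{u} A) ⟶ (P ⊗ dualCx P : DRing.Cx A).X 0 :=
  ModuleCat.ofHom (LinearMap.toSpanSingleton A _
    (∑ k ∈ Finset.range N, tm P (dualCx P) (neg_add_cancel (a + (k : ℤ))) (coevTerm P b (a + (k : ℤ)))))

/-- `P` vanishes outside the degrees `-a, …, -(a + N - 1)`. -/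
def Supp : Prop := ∀ q : ℤ, ¬ (a ≤ q ∧ q < a + N) → IsZero (P.X (-q))

theorem bdry_eq_zero (q : ℤ) (h : IsZero (P.X (-q))) : bdry P b q = 0 := by
  have := ModuleCat.subsingleton_of_isZero h
  simp [bdry, fun l => Subsingleton.elim ((b q).m l) 0]

/-- Coevaluation, as a map of complexes. -/
noncomputable def coevCx (hP : Supp P a N) : 𝟙_ (DRing.Cx A) ⟶ P ⊗ dualCx P :=
  mkHomFromSingle (coev₀ P b a N) fun k hk => by
    change (0 : ℤ) + 1 = k at hk
    obtain rfl : k = 1 := by omega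
    refine ModuleCat.hom_ext (LinearMap.ext_ring ?_)
    show (P ⊗ dualCx P : DRing.Cx A).d 0 1 ((1 : A) • _) = 0
    rw [one_smul, map_sum]
    have e : ∀ n : ℕ, (P ⊗ dualCx P : DRing.Cx A).d 0 1
        (tm P (dualCx P) (neg_add_cancel (a + (n : ℤ))) (coevTerm P b (a + (n : ℤ)))) =
        bdry P b (a + ((n + 1 : ℕ) : ℤ) - 1) - bdry P b (a + (n : ℤ) - 1) := fun n => by
      rw [d_coevTerm P b _ (a + (n : ℤ) - 1) (by omega), show a + ((n + 1 : ℕ) : ℤ) - 1 = a + (n : ℤ) by omega]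
    rw [Finset.sum_congr rfl fun n _ => e n,
      Finset.sum_range_sub (fun n : ℕ => bdry P b (a + (n : ℤ) - 1))]
    rcases N.eq_zero_or_pos with rfl | hN
    · simp
    rw [bdry_eq_zero P b (a + ((0 : ℕ) : ℤ) - 1) (hP _ (by omega)), sub_zero]
    have h0 : IsZero ((dualCx P).X (a + (N : ℤ) - 1 + 1)) := by
      have := ModuleCat.subsingleton_of_isZero (hP (a + (N : ℤ) - 1 + 1) (by omega))
      exact ModuleCat.isZero_iff_subsingleton.2
        (inferInstanceAs (Subsingleton (Module.Dual A (P.X (-(a + (N : ℤ) - 1 + 1))))))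
    have := ModuleCat.subsingleton_of_isZero h0
    simp [bdry, fun l => Subsingleton.elim
      ((dualCx P).d (a + (N : ℤ) - 1) (a + (N : ℤ) - 1 + 1) ((b (a + (N : ℤ) - 1)).φ l)) 0]

variable {P} in
theorem tm_whiskerRight {K K' : DRing.Cx A} (f : K ⟶ K') (L : DRing.Cx A) {i j n : ℤ}
    (h : i + j = n) (x : K.X i) (y : L.X j) :
    (f ▷ L).f n (tm K L h (x ⊗ₜ y)) = tm K' L h (f.f i x ⊗ₜ y) :=
  LinearMap.congr_fun (congrArg ModuleCat.Hom.hom (ι_whiskerRight f L i j n h)) (x ⊗ₜ y)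

variable {P} in
theorem tm_whiskerLeft (K : DRing.Cx A) {L L' : DRing.Cx A} (g : L ⟶ L') {i j n : ℤ}
    (h : i + j = n) (x : K.X i) (y : L.X j) :
    (K ◁ g).f n (tm K L h (x ⊗ₜ y)) = tm K L' h (x ⊗ₜ g.f j y) :=
  LinearMap.congr_fun (congrArg ModuleCat.Hom.hom (ι_whiskerLeft K g i j n h)) (x ⊗ₜ y)

variable {P} in
theorem tm_associator (K₁ K₂ K₃ : DRing.Cx A) {i j k a b n : ℤ} (ha : i + j = a) (hb : j + k = b)
    (h : i + b = n) (h' : a + k = n) (x : K₁.X i) (y : K₂.X j) (z : K₃.X k) :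
    (α_ K₁ K₂ K₃).hom.f n (tm (K₁ ⊗ K₂) K₃ h' (tm K₁ K₂ ha (x ⊗ₜ y) ⊗ₜ z)) =
      tm K₁ (K₂ ⊗ K₃) h (x ⊗ₜ tm K₂ K₃ hb (y ⊗ₜ z)) :=
  LinearMap.congr_fun (congrArg ModuleCat.Hom.hom (ι_associator K₁ K₂ K₃ i j k a b n ha hb h h'))
    ((x ⊗ₜ y) ⊗ₜ z)

variable {P} in
theorem tm_associator_inv (K₁ K₂ K₃ : DRing.Cx A) {i j k a b n : ℤ} (ha : i + j = a)
    (hb : j + k = b) (h : i + b = n) (h' : a + k = n) (x : K₁.X i) (y : K₂.X j) (z : K₃.X k) :
    (α_ K₁ K₂ K₃).inv.f n (tm K₁ (K₂ ⊗ K₃) h (x ⊗ₜ tm K₂ K₃ hb (y ⊗ₜ z))) =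
      tm (K₁ ⊗ K₂) K₃ h' (tm K₁ K₂ ha (x ⊗ₜ y) ⊗ₜ z) :=
  LinearMap.congr_fun (congrArg ModuleCat.Hom.hom
    (ι_associator_inv K₁ K₂ K₃ i j k a b n ha hb h h')) (x ⊗ₜ (y ⊗ₜ z))

variable (A) in
/-- The unit element. -/
noncomputable def one₀ : (𝟙_ (DRing.Cx A)).X 0 :=
  (singleObjXSelf (ComplexShape.up ℤ) 0 (𝟙_ (ModuleCat.{u} A))).inv.hom (1 : A)

/-- A scalar, in the unit complex. -/
noncomputable def scal : A →ₗ[A] (𝟙_ (DRing.Cx A)).X 0 :=
  (singleObjXSelf (ComplexShape.up ℤ) 0 (𝟙_ (ModuleCat.{u} A))).inv.hom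

variable {P} in
theorem leftUnitor_tm (K : DRing.Cx A) {n : ℤ} (r : A) (x : K.X n) :
    (λ_ K).hom.f n (tm (𝟙_ (DRing.Cx A)) K (zero_add n) (scal r ⊗ₜ x)) = r • x := by
  refine (LinearMap.congr_fun (congrArg ModuleCat.Hom.hom (ι_leftUnitor K n)) (scal r ⊗ₜ x)).trans ?_
  show (λ_ (K.X n)).hom.hom (_ ⊗ₜ[A] x) = r • x
  erw [Iso.inv_hom_id_apply]
  rfl

variable {P} in
theorem rightUnitor_tm (K : DRing.Cx A) {n : ℤ} (r : A) (x : K.X n) :
    (ρ_ K).hom.f n (tm K (𝟙_ (DRing.Cx A)) (add_zero n) (x ⊗ₜ scal r)) = r • x := by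
  refine (LinearMap.congr_fun (congrArg ModuleCat.Hom.hom (ι_rightUnitor K n)) (x ⊗ₜ scal r)).trans ?_
  show (ρ_ (K.X n)).hom.hom (x ⊗ₜ[A] _) = r • x
  erw [Iso.inv_hom_id_apply]
  rfl

theorem coevCx_one (hP : Supp P a N) :
    (coevCx P b a N hP).f 0 (scal 1) =
      ∑ k ∈ Finset.range N,
        tm P (dualCx P) (neg_add_cancel (a + (k : ℤ))) (coevTerm P b (a + (k : ℤ))) := by
  rw [coevCx, mkHomFromSingle_f]
  show (coev₀ P b a N).hom ((singleObjXSelf (ComplexShape.up ℤ) 0 (𝟙_ (ModuleCat.{u} A))).hom.hom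
    ((singleObjXSelf (ComplexShape.up ℤ) 0 (𝟙_ (ModuleCat.{u} A))).inv.hom (1 : A))) = _
  erw [Iso.inv_hom_id_apply]
  exact one_smul A _

theorem evalCx_tm (i j : ℤ) (h : i + j = 0) (t : (dualCx P).X i ⊗[A] P.X j) :
    (evalCx P).f 0 (tm (dualCx P) P h t) = scal (evalTerm P i j h t) := by
  rw [evalCx, mkHomToSingle_f]
  show _ = scal _
  rw [← eval₀_tm P i j h t]
  rfl

theorem evalCx_of_ne (i : ℤ) (h : i ≠ 0) : (evalCx P).f i = 0 :=
  (isZero_single_obj_X (ComplexShape.up ℤ) 0 (𝟙_ (ModuleCat.{u} A)) i h).eq_of_tgt _ _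

theorem term_left (n q : ℤ) (x : (dualCx P).X n) (hh : n + 0 = n) :
    (λ_ (dualCx P)).hom.f n ((evalCx P ▷ dualCx P).f n ((α_ (dualCx P) P (dualCx P)).inv.f n
      (tm (dualCx P) (P ⊗ dualCx P) hh (x ⊗ₜ tm P (dualCx P) (neg_add_cancel q) (coevTerm P b q))))) =
      if q = n then x else 0 := by
  simp only [coevTerm, map_sum, TensorProduct.tmul_sum, tm_associator_inv _ _ _
    (rfl : n + -q = n + -q) (neg_add_cancel q) hh (by omega : n + -q + q = n), tm_whiskerRight]
  split_ifs with hq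
  · subst hq
    have aux : ∀ (m : ℤ) (hm : q + -q = m) (hm' : m + q = q) (l : Fin (b q).k),
        (λ_ (dualCx P)).hom.f q (tm (𝟙_ (DRing.Cx A)) (dualCx P) hm'
          ((evalCx P).f m (tm (dualCx P) P hm (x ⊗ₜ (b q).m l)) ⊗ₜ ((b q).φ l))) =
          form P x ((b q).m l) • ((b q).φ l : (dualCx P).X q) := by
      intro m hm hm' l
      obtain rfl : m = 0 := by omega
      rw [evalCx_tm, leftUnitor_tm, evalTerm_tmul]
    rw [Finset.sum_congr rfl fun l _ => aux (q + -q) rfl (by omega) l]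
    exact (b q).sum_apply_smul (form P x)
  · refine Finset.sum_eq_zero fun l _ => ?_
    rw [evalCx_of_ne P _ (by omega)]
    simp

theorem term_right (m q : ℤ) (x : P.X (-m)) (hh : 0 + -m = -m) :
    (ρ_ P).hom.f (-m) ((P ◁ evalCx P).f (-m) ((α_ P (dualCx P) P).hom.f (-m)
      (tm (P ⊗ dualCx P) P hh (tm P (dualCx P) (neg_add_cancel q) (coevTerm P b q) ⊗ₜ x)))) =
      if q = m then x else 0 := by
  simp only [coevTerm, map_sum, TensorProduct.sum_tmul, tm_associator _ _ _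
    (neg_add_cancel q) (rfl : q + -m = q + -m) (by omega : -q + (q + -m) = -m) hh, tm_whiskerLeft]
  split_ifs with hq
  · subst hq
    have aux : ∀ (m : ℤ) (hm : q + -q = m) (hm' : -q + m = -q) (l : Fin (b q).k),
        (ρ_ P).hom.f (-q) (tm P (𝟙_ (DRing.Cx A)) hm'
          ((b q).m l ⊗ₜ (evalCx P).f m (tm (dualCx P) P hm (((b q).φ l : (dualCx P).X q) ⊗ₜ x)))) =
          (b q).φ l x • (b q).m l := by
      intro m hm hm' l
      obtain rfl : m = 0 := by omega
      rw [evalCx_tm, rightUnitor_tm, evalTerm_tmul]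
      rfl
    rw [Finset.sum_congr rfl fun l _ => aux (q + -q) rfl (by omega) l]
    exact (b q).sum_smul x
  · refine Finset.sum_eq_zero fun l _ => ?_
    rw [evalCx_of_ne P _ (by omega)]
    simp

theorem sum_range_ite {M : Type u} [AddCommMonoid M] (q : ℤ) (x : M)
    (h : ¬ (a ≤ q ∧ q < a + N) → x = 0) :
    (∑ k ∈ Finset.range N, if a + (k : ℤ) = q then x else 0) = x := by
  by_cases hq : a ≤ q ∧ q < a + N
  · rw [Finset.sum_eq_single (q - a).toNat]
    · rw [if_pos (by omega)]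
    · exact fun k _ hk => if_neg (by omega)
    · exact fun hk => absurd (Finset.mem_range.2 (by omega)) hk
  · simp [h hq]

theorem triangle_left (hP : Supp P a N) :
    (ρ_ (dualCx P)).inv ≫ dualCx P ◁ coevCx P b a N hP ≫ (α_ _ _ _).inv ≫ evalCx P ▷ dualCx P ≫
      (λ_ (dualCx P)).hom = 𝟙 _ := by
  refine HomologicalComplex.hom_ext _ _ fun n => ModuleCat.hom_ext (LinearMap.ext fun x => ?_)
  have hρ : (ρ_ (dualCx P)).inv.f n x =
      tm (dualCx P) (𝟙_ (DRing.Cx A)) (add_zero n) (x ⊗ₜ scal 1) := by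
    have h := congrArg (fun g => (ρ_ (dualCx P)).inv.f n g) (rightUnitor_tm (dualCx P) (n := n) 1 x)
    simp only [one_smul] at h
    rw [← h]
    exact Iso.hom_inv_id_apply ((HomologicalComplex.eval _ _ n).mapIso (ρ_ (dualCx P))) _
  show (λ_ (dualCx P)).hom.f n ((evalCx P ▷ dualCx P).f n ((α_ (dualCx P) P (dualCx P)).inv.f n
    ((dualCx P ◁ coevCx P b a N hP).f n ((ρ_ (dualCx P)).inv.f n x)))) = x
  rw [hρ, tm_whiskerLeft, coevCx_one]
  simp only [TensorProduct.tmul_sum, map_sum]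
  simp only [term_left P b n _ x (add_zero n)]
  refine sum_range_ite a N n x fun hn => ?_
  have := ModuleCat.subsingleton_of_isZero (hP n hn)
  exact Subsingleton.elim (α := Module.Dual A (P.X (-n))) x 0

theorem triangle_right (hP : Supp P a N) :
    (λ_ P).inv ≫ coevCx P b a N hP ▷ P ≫ (α_ _ _ _).hom ≫ P ◁ evalCx P ≫ (ρ_ P).hom = 𝟙 _ := by
  refine HomologicalComplex.hom_ext _ _ fun n => ModuleCat.hom_ext (LinearMap.ext fun x => ?_)
  obtain ⟨m, rfl⟩ : ∃ m, n = -m := ⟨-n, (neg_neg n).symm⟩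
  have hl : (λ_ P).inv.f (-m) x =
      tm (𝟙_ (DRing.Cx A)) P (zero_add (-m)) (scal 1 ⊗ₜ x) := by
    have h := congrArg (fun g => (λ_ P).inv.f (-m) g) (leftUnitor_tm P (n := -m) 1 x)
    simp only [one_smul] at h
    rw [← h]
    exact Iso.hom_inv_id_apply ((HomologicalComplex.eval _ _ (-m)).mapIso (λ_ P)) _
  show (ρ_ P).hom.f (-m) ((P ◁ evalCx P).f (-m) ((α_ P (dualCx P) P).hom.f (-m)
    ((coevCx P b a N hP ▷ P).f (-m) ((λ_ P).inv.f (-m) x)))) = x
  rw [hl, tm_whiskerRight, coevCx_one]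
  simp only [TensorProduct.sum_tmul, map_sum]
  simp only [term_right P b m _ x (zero_add (-m))]
  refine sum_range_ite a N m x fun hm => ?_
  have := ModuleCat.subsingleton_of_isZero (hP m hm)
  exact Subsingleton.elim x 0

/-- The dual complex is a right dual. -/
@[implicit_reducible]
noncomputable def exactPairing (hP : Supp P a N) : ExactPairing P (dualCx P) where
  coevaluation' := coevCx P b a N hP
  evaluation' := evalCx P
  coevaluation_evaluation' := by
    have h := triangle_left P b a N hP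
    rw [Iso.inv_comp_eq, Category.comp_id] at h
    rw [Iso.eq_comp_inv]
    simpa only [Category.assoc] using h
  evaluation_coevaluation' := by
    have h := triangle_right P b a N hP
    rw [Iso.inv_comp_eq, Category.comp_id] at h
    rw [Iso.eq_comp_inv]
    simpa only [Category.assoc] using h

omit b in
/-- A bounded complex of finite projective modules has a right dual which, like it, is K-flat. -/
theorem exists_exactPairing {a' b' : ℤ} (hv : DRing.VanishesOutside P a' b')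
    (hp : DRing.TermwiseFiniteProjective P) :
    ∃ D : DRing.Cx A, Nonempty (ExactPairing P D) ∧ IsKFlatCx A P ∧ IsKFlatCx A D := by
  have hfl : ∀ (X : DRing.Cx A) (c : ℤ), (∀ i, c < i → IsZero (X.X i)) →
      (∀ i, Module.Flat A (X.X i)) → IsKFlatCx A X :=
    fun X c h₁ h₂ => Groth.DAlg.KFlatMod.isKFlatCx_of_flat X (b := c) h₁ h₂
  have hf : ∀ i, Module.Finite A (P.X i) ∧ Module.Projective A (P.X i) := hp
  let bs : ∀ q : ℤ, Basis (P.X (-q)) := fun q =>
    have := (hf (-q)).1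
    have := (hf (-q)).2
    Classical.choice (nonempty_basis (P.X (-q)))
  have hP : Supp P (-b') (b' - a' + 1).toNat := fun q hq => hv (-q) (by omega)
  refine ⟨dualCx P, ⟨exactPairing P bs (-b') _ hP⟩, ?_, ?_⟩
  · refine hfl P b' (fun i hi => hv i (Or.inr hi)) fun i => ?_
    have := (hf i).2
    infer_instance
  · refine hfl (dualCx P) (-a') (fun i hi => ?_) fun i => ?_
    · have := ModuleCat.subsingleton_of_isZero (hv (-i) (by omega))
      exact ModuleCat.isZero_iff_subsingleton.2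
        (inferInstanceAs (Subsingleton (Module.Dual A (P.X (-i)))))
    · have := (hf (-i)).1
      have := (hf (-i)).2
      show Module.Flat A (Module.Dual A (P.X (-i)))
      infer_instance

end Groth.DTenCalc.StrictDual
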