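import Groth.Prelude.Def_DTen3
import Groth.Agent.DTenCalc.Computes
import Groth.Agent.DTenCalc.StrictDual
import Groth.Agent.DTenCalc.Braided
import Mathlib.CategoryTheory.Monoidal.Rigid.Braided
import Mathlib.CategoryTheory.Localization.Adjunction

/-!
The derived tensor product with a perfect complex: dualizability, and the maps of the closed
structure.
-/

universe u

open CategoryTheory CategoryTheory.Limits MonoidalCategory DTen
open Groth.DAlg.KFlatMod (IsKFlatCx)
attribute [local instance] HasDerivedCategory.standard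

namespace Groth.DTenCalc

section Generic

variable {C : Type*} [Category* C] [MonoidalCategory C]

/-- The counit of a duality, for tensoring on the right. -/
abbrev cR (P D : C) [ExactPairing P D] (X : C) : (X ⊗ D) ⊗ P ⟶ X :=
  (tensorRightAdjunction P D).counit.app X

/-- The unit of a duality, for tensoring on the right. -/
abbrev uR (P D : C) [ExactPairing P D] (X : C) : X ⟶ (X ⊗ P) ⊗ D :=
  (tensorRightAdjunction P D).unit.app X

/-- The unit of a duality, for tensoring on the left. -/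
abbrev uL (P D : C) [ExactPairing P D] (X : C) : X ⟶ P ⊗ (D ⊗ X) :=
  (tensorLeftAdjunction P D).unit.app X

theorem tensorRightAdjunction_counit_app (P D : C) [ExactPairing P D] (X : C) :
    cR P D X = (α_ X D P).hom ≫ X ◁ ε_ P D ≫ (ρ_ X).hom := by
  simp [cR, tensorRightAdjunction, tensorRightHomEquiv]

theorem tensorRightAdjunction_unit_app (P D : C) [ExactPairing P D] (X : C) :
    uR P D X = (ρ_ X).inv ≫ X ◁ η_ P D ≫ (α_ X P D).inv := by
  simp [uR, tensorRightAdjunction, tensorRightHomEquiv]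

theorem tensorLeftAdjunction_unit_app (P D : C) [ExactPairing P D] (X : C) :
    uL P D X = (λ_ X).inv ≫ η_ P D ▷ X ≫ (α_ P D X).hom := by
  simp [uL, tensorLeftAdjunction, tensorLeftHomEquiv]

theorem counit_tensor (P D : C) [ExactPairing P D] (K L : C) :
    (α_ K (L ⊗ D) P).hom ≫ K ◁ cR P D L =
      (α_ K L D).inv ▷ P ≫ cR P D (K ⊗ L) := by
  rw [tensorRightAdjunction_counit_app, tensorRightAdjunction_counit_app]
  monoidal

theorem unit_tensor (P D : C) [ExactPairing P D] (X Y : C) :
    uL P D X ▷ Y ≫ (α_ P (D ⊗ X) Y).hom ≫ P ◁ (α_ D X Y).hom =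
      uL P D (X ⊗ Y) := by
  rw [tensorLeftAdjunction_unit_app, tensorLeftAdjunction_unit_app]
  monoidal

variable [SymmetricCategory C]

theorem swap_counit (P D : C) [ExactPairing P D] (L : C) :
    P ◁ (β_ D L).hom ≫ (β_ P (L ⊗ D)).hom ≫ cR P D L =
      (α_ P D L).inv ≫ ((β_ P D).hom ≫ ε_ P D) ▷ L ≫ (λ_ L).hom := by
  have h : L ◁ ε_ P D ≫ (ρ_ L).hom = (β_ L (D ⊗ P)).hom ≫ ε_ P D ▷ L ≫ (λ_ L).hom := by
    rw [← BraidedCategory.braiding_naturality_right_assoc, braiding_leftUnitor]
  rw [tensorRightAdjunction_counit_app, h, BraidedCategory.braiding_naturality_right_assoc]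
  have h1 : (β_ D L).hom ▷ P ≫ (α_ L D P).hom ≫ (β_ L (D ⊗ P)).hom =
      (α_ D L P).hom ≫ D ◁ (β_ L P).hom ≫ (α_ D P L).inv := by
    have := BraidedCategory.hexagon_forward L D P
    rw [← Category.assoc, ← Category.assoc, ← Iso.eq_comp_inv] at this
    simp only [Category.assoc] at this ⊢
    rw [this, ← comp_whiskerRight_assoc, SymmetricCategory.symmetry, id_whiskerRight,
      Category.id_comp]
  rw [reassoc_of% h1, BraidedCategory.braiding_tensor_right_hom]
  simp only [Category.assoc, Iso.inv_hom_id_assoc, ← whiskerLeft_comp_assoc,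
    SymmetricCategory.symmetry, MonoidalCategory.whiskerLeft_id, Category.id_comp,
    Iso.hom_inv_id_assoc, comp_whiskerRight]

/-- The snake which exchanges the tensor factors. -/
theorem snake (P D : C) [ExactPairing P D] [ExactPairing D P] (X L : C)
    (hε : ε_ D P = (β_ P D).hom ≫ ε_ P D) :
    uR D P X ▷ (L ⊗ D) ≫ (α_ (X ⊗ D) P (L ⊗ D)).hom ≫
        (X ⊗ D) ◁ ((β_ P (L ⊗ D)).hom ≫ cR P D L) =
      X ◁ (β_ L D).hom ≫ (α_ X D L).inv := by
  rw [← cancel_epi (X ◁ (β_ D L).hom), ← whiskerLeft_comp_assoc, SymmetricCategory.symmetry,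
    MonoidalCategory.whiskerLeft_id, Category.id_comp]
  have e := swap_counit P D L
  rw [← hε] at e
  calc _ = uR D P X ▷ (D ⊗ L) ≫ (α_ (X ⊗ D) P (D ⊗ L)).hom ≫
        (X ⊗ D) ◁ (P ◁ (β_ D L).hom ≫ (β_ P (L ⊗ D)).hom ≫
          cR P D L) := by
        simp only [MonoidalCategory.whiskerLeft_comp]
        rw [← associator_naturality_right_assoc, whisker_exchange_assoc]
    _ = 𝟙 _ ⊗≫ X ◁ ((η_ D P ▷ D ≫ (α_ D P D).hom ≫ D ◁ ε_ D P) ▷ L) ⊗≫ 𝟙 _ := by
        rw [e, tensorRightAdjunction_unit_app]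
        monoidal
    _ = _ := by
        rw [ExactPairing.evaluation_coevaluation]
        monoidal

end Generic

variable {A : Type u} [CommRing A]

section Maps

variable [HasLTen A]

/-- Derived tensor product. -/
noncomputable abbrev ten (a b : Dual.D A) : Dual.D A := (LTen₂ A).obj (a, b)

/-- Whiskering on the right. -/
noncomputable abbrev wr {a a' : Dual.D A} (f : a ⟶ a') (b : Dual.D A) : ten a b ⟶ ten a' b :=
  (LTen₂ A).map (Prod.mkHom f (𝟙 b))

/-- Whiskering on the left. -/
noncomputable abbrev wl (a : Dual.D A) {b b' : Dual.D A} (g : b ⟶ b') : ten a b ⟶ ten a b' :=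
  (LTen₂ A).map (Prod.mkHom (𝟙 a) g)

theorem wr_comp {a a' a'' : Dual.D A} (f : a ⟶ a') (g : a' ⟶ a'') (b : Dual.D A) :
    wr (f ≫ g) b = wr f b ≫ wr g b := by
  rw [← Functor.map_comp, prod_comp]; simp

theorem wl_comp (a : Dual.D A) {b b' b'' : Dual.D A} (f : b ⟶ b') (g : b' ⟶ b'') :
    wl a (f ≫ g) = wl a f ≫ wl a g := by
  rw [← Functor.map_comp, prod_comp]; simp

theorem wr_comp_assoc' {a a' a'' : Dual.D A} (f : a ⟶ a') (g : a' ⟶ a'') (b : Dual.D A)
    {c : Dual.D A} (h : ten a'' b ⟶ c) : wr (f ≫ g) b ≫ h = wr f b ≫ wr g b ≫ h := by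
  rw [wr_comp, Category.assoc]

theorem wl_comp_assoc' (a : Dual.D A) {b b' b'' : Dual.D A} (f : b ⟶ b') (g : b' ⟶ b'')
    {c : Dual.D A} (h : ten a b'' ⟶ c) : wl a (f ≫ g) ≫ h = wl a f ≫ wl a g ≫ h := by
  rw [wl_comp, Category.assoc]

/-- The symmetry of the derived tensor product. -/
noncomputable abbrev sym (a b : Dual.D A) : ten b a ⟶ ten a b := (symm A).app (a, b)

theorem wr_id (a b : Dual.D A) : wr (𝟙 a) b = 𝟙 (ten a b) := by
  rw [← CategoryTheory.Functor.map_id]; rfl

theorem wl_id (a b : Dual.D A) : wl a (𝟙 b) = 𝟙 (ten a b) := by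
  rw [← CategoryTheory.Functor.map_id]; rfl

theorem exchange {a a' b b' : Dual.D A} (f : a ⟶ a') (g : b ⟶ b') :
    wr f b ≫ wl a' g = wl a g ≫ wr f b' := by
  rw [← Functor.map_comp, ← Functor.map_comp, prod_comp, prod_comp]; simp

instance isIso_wr {a a' : Dual.D A} (f : a ⟶ a') [IsIso f] (b : Dual.D A) : IsIso (wr f b) :=
  inferInstanceAs (IsIso ((LTen₂ A).map (Prod.mkHom f (𝟙 b))))

instance isIso_wl (a : Dual.D A) {b b' : Dual.D A} (g : b ⟶ b') [IsIso g] : IsIso (wl a g) :=
  inferInstanceAs (IsIso ((LTen₂ A).map (Prod.mkHom (𝟙 a) g)))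

/-- The comparison with the tensor product of complexes. -/
noncomputable abbrev cmp (K L : DRing.Cx A) :
    ten (DerivedCategory.Q.obj K) (DerivedCategory.Q.obj L) ⟶ DerivedCategory.Q.obj (K ⊗ L) :=
  (ε A).app (K, L)

theorem wr_cmp {K K' : DRing.Cx A} (f : K ⟶ K') (L : DRing.Cx A) :
    wr (DerivedCategory.Q.map f) (DerivedCategory.Q.obj L) ≫ cmp K' L =
      cmp K L ≫ DerivedCategory.Q.map (f ▷ L) :=
  (εRight A L).naturality f

theorem wl_cmp (K : DRing.Cx A) {L L' : DRing.Cx A} (g : L ⟶ L') :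
    wl (DerivedCategory.Q.obj K) (DerivedCategory.Q.map g) ≫ cmp K L' =
      cmp K L ≫ DerivedCategory.Q.map (K ◁ g) :=
  (εLeft A K).naturality g

variable [HasLTen₃ A] [IsSymMonoidal A]

theorem assoc_cmp (K L M : DRing.Cx A) :
    (associator (DerivedCategory.Q.obj K) (DerivedCategory.Q.obj L) (DerivedCategory.Q.obj M)).hom ≫
        wl (DerivedCategory.Q.obj K) (cmp L M) ≫ cmp K (L ⊗ M) =
      wr (cmp K L) (DerivedCategory.Q.obj M) ≫ cmp (K ⊗ L) M ≫
        DerivedCategory.Q.map (α_ K L M).hom := by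
  have h := congrArg (fun φ => φ ≫ (ε₃ A).app (K, (L, M)))
    (associator_hom_assocR (DerivedCategory.Q.obj K) (DerivedCategory.Q.obj L) (DerivedCategory.Q.obj M))
  simp only [Category.assoc] at h
  erw [assocR_fac A (K, (L, M)), assocL_fac A (K, (L, M))] at h
  exact h

theorem symm_cmp (K L : DRing.Cx A) :
    sym (DerivedCategory.Q.obj K) (DerivedCategory.Q.obj L) ≫ cmp K L =
      cmp L K ≫ DerivedCategory.Q.map (braidCx L K).hom :=
  symm_fac A K L

theorem isIso_cmp_left {K : DRing.Cx A} (hK : IsKFlatCx A K) (L : DRing.Cx A) : IsIso (cmp K L) :=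
  isIso_ε K L hK

theorem isIso_cmp_right (K : DRing.Cx A) {L : DRing.Cx A} (hL : IsKFlatCx A L) : IsIso (cmp K L) := by
  have h := isIso_cmp_left hL K
  have : IsIso (sym (DerivedCategory.Q.obj K) (DerivedCategory.Q.obj L) ≫ cmp K L) := by
    rw [symm_cmp]; infer_instance
  exact IsIso.of_isIso_comp_left (sym (DerivedCategory.Q.obj K) (DerivedCategory.Q.obj L)) _

theorem associator_naturality' {a a' b b' c c' : Dual.D A} (f : a ⟶ a') (g : b ⟶ b') (h : c ⟶ c') :
    (LTen₂ A).map (Prod.mkHom ((LTen₂ A).map (Prod.mkHom f g)) h) ≫ (associator a' b' c').hom =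
      (associator a b c).hom ≫ (LTen₂ A).map (Prod.mkHom f ((LTen₂ A).map (Prod.mkHom g h))) := by
  rw [← cancel_mono ((assocR A).app (a', (b', c')))]
  have e1 := (assocL A).naturality (Prod.mkHom f (Prod.mkHom g h))
  have e2 := (assocR A).naturality (Prod.mkHom f (Prod.mkHom g h))
  simp only [Category.assoc, associator_hom_assocR]
  refine e1.trans ?_
  erw [e2, associator_hom_assocR_assoc]
  rfl

theorem assoc_nat_left {a a' : Dual.D A} (f : a ⟶ a') (b c : Dual.D A) :
    wr (wr f b) c ≫ (associator a' b c).hom = (associator a b c).hom ≫ wr f (ten b c) := by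
  refine (associator_naturality' f (𝟙 b) (𝟙 c)).trans ?_
  rw [← prod_id, CategoryTheory.Functor.map_id]

theorem assoc_nat_mid (a : Dual.D A) {b b' : Dual.D A} (g : b ⟶ b') (c : Dual.D A) :
    wr (wl a g) c ≫ (associator a b' c).hom = (associator a b c).hom ≫ wl a (wr g c) :=
  associator_naturality' (𝟙 a) g (𝟙 c)

theorem assoc_nat_right (a b : Dual.D A) {c c' : Dual.D A} (h : c ⟶ c') :
    wl (ten a b) h ≫ (associator a b c').hom = (associator a b c).hom ≫ wl a (wl b h) := by
  refine Eq.trans ?_ (associator_naturality' (𝟙 a) (𝟙 b) h)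
  rw [← prod_id, CategoryTheory.Functor.map_id]

theorem symm_nat {a a' : Dual.D A} (f : a ⟶ a') (b : Dual.D A) :
    wl b f ≫ sym a' b = sym a b ≫ wr f b :=
  (symm A).naturality (Prod.mkHom f (𝟙 b))

end Maps

section Adjunctions

variable [HasLTen A] [HasLTen₃ A] [IsSymMonoidal A]

/-- `- ⊗^L E` is computed by `- ⊗ E`. -/
@[implicit_reducible]
noncomputable def sqRight (E : DRing.Cx A) (hE : IsKFlatCx A E) :
    CatCommSq (tensorRight E) DerivedCategory.Q DerivedCategory.Q
      (tensorRightD A (DerivedCategory.Q.obj E)) :=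
  ⟨(NatIso.ofComponents (fun X => @asIso _ _ _ _ (cmp X E) (isIso_cmp_right X hE))
    (fun f => (εRight A E).naturality f)).symm⟩

/-- `E ⊗^L -` is computed by `E ⊗ -`. -/
@[implicit_reducible]
noncomputable def sqLeft (E : DRing.Cx A) (hE : IsKFlatCx A E) :
    CatCommSq (tensorLeft E) DerivedCategory.Q DerivedCategory.Q
      ((LTen A).obj (DerivedCategory.Q.obj E)) :=
  ⟨(NatIso.ofComponents (fun X => @asIso _ _ _ _ (cmp E X) (isIso_cmp_left hE X))
    (fun f => (εLeft A E).naturality f)).symm⟩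

variable (P D : DRing.Cx A) [ExactPairing P D] (hP : IsKFlatCx A P) (hD : IsKFlatCx A D)

/-- A strict duality gives an adjunction on the derived category, for tensoring on the right. -/
noncomputable def adjR :
    tensorRightD A (DerivedCategory.Q.obj P) ⊣ tensorRightD A (DerivedCategory.Q.obj D) :=
  letI := sqRight P hP
  letI := sqRight D hD
  (tensorRightAdjunction P D).localization DerivedCategory.Q (DTen.qis A) DerivedCategory.Q
    (DTen.qis A) _ _

theorem adjR_counit (X : DRing.Cx A) :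
    (adjR P D hP hD).counit.app (DerivedCategory.Q.obj X) =
      wr (cmp X D) (DerivedCategory.Q.obj P) ≫ cmp (X ⊗ D) P ≫
        DerivedCategory.Q.map (cR P D X) :=
  letI := sqRight P hP
  letI := sqRight D hD
  (tensorRightAdjunction P D).localization_counit_app DerivedCategory.Q (DTen.qis A)
    DerivedCategory.Q (DTen.qis A) _ _ X

theorem adjR_unit (X : DRing.Cx A) :
    (adjR P D hP hD).unit.app (DerivedCategory.Q.obj X) ≫ wr (cmp X P) (DerivedCategory.Q.obj D) ≫
        cmp (X ⊗ P) D = DerivedCategory.Q.map (uR P D X) := by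
  let _ := sqRight P hP
  let _ := sqRight D hD
  have h := (tensorRightAdjunction P D).localization_unit_app DerivedCategory.Q (DTen.qis A)
    DerivedCategory.Q (DTen.qis A) (tensorRightD A (DerivedCategory.Q.obj P))
    (tensorRightD A (DerivedCategory.Q.obj D)) X
  have h1 := isIso_cmp_right X hP
  have h2 := isIso_cmp_right (X ⊗ P) hD
  have h' : (adjR P D hP hD).unit.app (DerivedCategory.Q.obj X) =
      DerivedCategory.Q.map (uR P D X) ≫ inv (cmp (X ⊗ P) D) ≫
        wr (inv (cmp X P)) (DerivedCategory.Q.obj D) := h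
  rw [h', Category.assoc, Category.assoc, ← reassoc_of% (wr_comp (inv (cmp X P)) (cmp X P) (DerivedCategory.Q.obj D))]
  rw [IsIso.inv_hom_id, wr_id, Category.id_comp, IsIso.inv_hom_id]
  exact Category.comp_id _

/-- A strict duality gives an adjunction on the derived category, for tensoring on the left. -/
noncomputable def adjL :
    (LTen A).obj (DerivedCategory.Q.obj D) ⊣ (LTen A).obj (DerivedCategory.Q.obj P) :=
  letI := sqLeft P hP
  letI := sqLeft D hD
  (tensorLeftAdjunction P D).localization DerivedCategory.Q (DTen.qis A) DerivedCategory.Q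
    (DTen.qis A) _ _

theorem adjL_unit (X : DRing.Cx A) :
    (adjL P D hP hD).unit.app (DerivedCategory.Q.obj X) ≫ wl (DerivedCategory.Q.obj P) (cmp D X) ≫
        cmp P (D ⊗ X) = DerivedCategory.Q.map (uL P D X) := by
  let _ := sqLeft P hP
  let _ := sqLeft D hD
  have h := (tensorLeftAdjunction P D).localization_unit_app DerivedCategory.Q (DTen.qis A)
    DerivedCategory.Q (DTen.qis A) ((LTen A).obj (DerivedCategory.Q.obj D))
    ((LTen A).obj (DerivedCategory.Q.obj P)) X
  have h1 := isIso_cmp_left hD X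
  have h2 := isIso_cmp_left hP (D ⊗ X)
  have h' : (adjL P D hP hD).unit.app (DerivedCategory.Q.obj X) =
      DerivedCategory.Q.map (uL P D X) ≫ inv (cmp P (D ⊗ X)) ≫
        wl (DerivedCategory.Q.obj P) (inv (cmp D X)) := h
  rw [h', Category.assoc, Category.assoc, ← reassoc_of% (wl_comp (DerivedCategory.Q.obj P) (inv (cmp D X)) (cmp D X))]
  rw [IsIso.inv_hom_id, wl_id, Category.id_comp, IsIso.inv_hom_id]
  exact Category.comp_id _

end Adjunctions

section Closed

variable [HasLTen A] [HasRHom A]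

theorem homEquiv_symm' (L : Dual.D A) {T M : Dual.D A} (f : T ⟶ (RHomR A L).obj M) :
    (rhomHomEquiv T L M).symm f = wr f L ≫ ev L M :=
  Adjunction.homEquiv_counit (rhomAdj A L) T M f

/-- Maps into an internal hom are determined by evaluation. -/
theorem hom_ext_ev {L T M : Dual.D A} {f g : T ⟶ (RHomR A L).obj M}
    (h : wr f L ≫ ev L M = wr g L ≫ ev L M) : f = g :=
  (rhomHomEquiv T L M).symm.injective (by rw [homEquiv_symm', homEquiv_symm', h])

theorem ev_nat (L : Dual.D A) {M M' : Dual.D A} (g : M ⟶ M') :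
    wr ((RHomR A L).map g) L ≫ ev L M' = ev L M ≫ g :=
  (rhomAdj A L).counit.naturality g

theorem map_ev {L L' : Dual.D A} (g : L' ⟶ L) (M : Dual.D A) :
    wr (RHomMap g M) L' ≫ ev L' M = wl ((RHomR A L).obj M) g ≫ ev L M :=
  RHom_map_ev g M

variable [HasLTen₃ A] [IsSymMonoidal A]

theorem wr_evalTen (K L M : Dual.D A) :
    wr (evalTen K L M) M ≫ ev M (ten K L) =
      (associator K ((RHomR A M).obj L) M).hom ≫ wl K (ev M L) :=
  evalTen_fac K L M

theorem wr_evalHom (K L M : Dual.D A) :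
    wr (evalHom K L M) ((RHomR A K).obj L) ≫ ev ((RHomR A K).obj L) M =
      (associator ((RHomR A L).obj M) K ((RHomR A K).obj L)).hom ≫
        wl ((RHomR A L).obj M) (sym ((RHomR A K).obj L) K ≫ ev K L) ≫ ev L M :=
  evalHom_fac K L M

theorem evalTen_nat₁ {K K' : Dual.D A} (g : K ⟶ K') (L M : Dual.D A) :
    wr g ((RHomR A M).obj L) ≫ evalTen K' L M = evalTen K L M ≫ (RHomR A M).map (wr g L) := by
  apply hom_ext_ev
  rw [wr_comp, wr_comp, Category.assoc, Category.assoc, wr_evalTen, ev_nat,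
    reassoc_of% (wr_evalTen K L M), reassoc_of% (assoc_nat_left g ((RHomR A M).obj L) M), exchange]

theorem evalTen_nat₂ (K : Dual.D A) {L L' : Dual.D A} (g : L ⟶ L') (M : Dual.D A) :
    wl K ((RHomR A M).map g) ≫ evalTen K L' M = evalTen K L M ≫ (RHomR A M).map (wl K g) := by
  apply hom_ext_ev
  rw [wr_comp, wr_comp, Category.assoc, Category.assoc, wr_evalTen, ev_nat,
    reassoc_of% (wr_evalTen K L M), reassoc_of% (assoc_nat_mid K ((RHomR A M).map g) M), ← wl_comp,
    ← wl_comp, ev_nat]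

theorem evalTen_nat₃ (K L : Dual.D A) {M M' : Dual.D A} (g : M' ⟶ M) :
    evalTen K L M ≫ RHomMap g (ten K L) = wl K (RHomMap g L) ≫ evalTen K L M' := by
  apply hom_ext_ev
  rw [wr_comp, wr_comp, Category.assoc, Category.assoc, wr_evalTen, map_ev,
    reassoc_of% (exchange (evalTen K L M) g), wr_evalTen,
    reassoc_of% (assoc_nat_right K ((RHomR A M).obj L) g),
    reassoc_of% (assoc_nat_mid K (RHomMap g L) M'), ← wl_comp, ← wl_comp, map_ev]

theorem evalHom_nat₁ {K K' : Dual.D A} (g : K ⟶ K') (L M : Dual.D A) :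
    evalHom K L M ≫ RHomMap (RHomMap g L) M = wl ((RHomR A L).obj M) g ≫ evalHom K' L M := by
  apply hom_ext_ev
  rw [wr_comp, wr_comp, Category.assoc, Category.assoc, wr_evalHom, map_ev,
    reassoc_of% (exchange (evalHom K L M) (RHomMap g L)), wr_evalHom,
    reassoc_of% (assoc_nat_right ((RHomR A L).obj M) K (RHomMap g L)),
    reassoc_of% (assoc_nat_mid ((RHomR A L).obj M) g ((RHomR A K').obj L)), ← wl_comp_assoc',
    ← wl_comp_assoc']
  congr 3
  rw [reassoc_of% (symm_nat (RHomMap g L) K), map_ev]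
  have h : wr g ((RHomR A K').obj L) ≫ sym ((RHomR A K').obj L) K' =
      sym ((RHomR A K').obj L) K ≫ wl ((RHomR A K').obj L) g :=
    (symm A).naturality (Prod.mkHom (𝟙 ((RHomR A K').obj L)) g)
  rw [reassoc_of% h]

theorem evalHom_nat₂ (K : Dual.D A) {L L' : Dual.D A} (g : L ⟶ L') (M : Dual.D A) :
    evalHom K L' M ≫ RHomMap ((RHomR A K).map g) M = wr (RHomMap g M) K ≫ evalHom K L M := by
  apply hom_ext_ev
  rw [wr_comp, wr_comp, Category.assoc, Category.assoc, wr_evalHom, map_ev,
    reassoc_of% (exchange (evalHom K L' M) ((RHomR A K).map g)), wr_evalHom,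
    reassoc_of% (assoc_nat_right ((RHomR A L').obj M) K ((RHomR A K).map g)),
    reassoc_of% (assoc_nat_left (RHomMap g M) K ((RHomR A K).obj L)), ← wl_comp_assoc',
    reassoc_of% (exchange (RHomMap g M) (sym ((RHomR A K).obj L) K ≫ ev K L)), map_ev,
    ← wl_comp_assoc']
  rw [reassoc_of% (symm_nat ((RHomR A K).map g) K), ev_nat, Category.assoc]

/-- The curry map is invertible. -/
theorem isIso_curryHom (K L M : Dual.D A) : IsIso (curryHom K L M) := by
  refine isIso_of_yoneda_map_bijective _ fun T => ?_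
  let e : (T ⟶ (RHomR A (ten K L)).obj M) ≃ (T ⟶ (RHomR A K).obj ((RHomR A L).obj M)) :=
    ((rhomHomEquiv T (ten K L) M).symm.trans ((associator T K L).homCongr (Iso.refl M)).symm).trans
      ((rhomHomEquiv (ten T K) L M).trans (rhomHomEquiv T K ((RHomR A L).obj M)))
  suffices h : (fun f => f ≫ curryHom K L M) = e by
    rw [h]; exact e.bijective
  funext f
  apply (rhomHomEquiv T K ((RHomR A L).obj M)).symm.injective
  apply (rhomHomEquiv (ten T K) L M).symm.injective
  simp only [e, Equiv.trans_apply, Equiv.symm_apply_apply, Iso.homCongr_symm, Iso.homCongr_apply,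
    Iso.symm_inv, Iso.refl_symm, Iso.refl_hom, Category.comp_id]
  rw [homEquiv_symm', homEquiv_symm', homEquiv_symm', wr_comp f (curryHom K L M) K, Category.assoc,
    wr_comp_assoc' (wr f K)]
  erw [curryHom_fac]
  exact (reassoc_of% (assoc_nat_left f K L)) _

/-- A map is invertible if composing with it is bijective on maps out of K-flat complexes. -/
theorem isIso_of_bijective_kFlat {X Y : Dual.D A} (f : X ⟶ Y)
    (h : ∀ T : DRing.Cx A, IsKFlatCx A T →
      Function.Bijective (fun g : DerivedCategory.Q.obj T ⟶ X => g ≫ f)) : IsIso f := by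
  refine isIso_of_yoneda_map_bijective _ fun T => ?_
  obtain ⟨T₀, hT, ⟨e⟩⟩ := exists_kFlat_rep T
  have he : (fun g : T ⟶ X => g ≫ f) =
      (e.homCongr (Iso.refl Y)) ∘ (fun g => g ≫ f) ∘ (e.homCongr (Iso.refl X)).symm := by
    funext g
    simp
  rw [he]
  exact (Equiv.bijective _).comp ((h T₀ hT).comp (Equiv.bijective _))

variable (P D : DRing.Cx A) [ExactPairing P D] (hP : IsKFlatCx A P) (hD : IsKFlatCx A D)

/-- The internal hom out of a complex with a dual is the tensor product with the dual. -/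
noncomputable def theta :
    tensorRightD A (DerivedCategory.Q.obj D) ≅ RHomR A (DerivedCategory.Q.obj P) :=
  (adjR P D hP hD).rightAdjointUniq (rhomAdj A (DerivedCategory.Q.obj P))

theorem theta_ev (L : Dual.D A) :
    wr ((theta P D hP hD).hom.app L) (DerivedCategory.Q.obj P) ≫ ev (DerivedCategory.Q.obj P) L =
      (adjR P D hP hD).counit.app L :=
  Adjunction.rightAdjointUniq_hom_app_counit (adjR P D hP hD) (rhomAdj A (DerivedCategory.Q.obj P)) L

theorem adjR_counit_tensor (K L : DRing.Cx A) (hK : IsKFlatCx A K) :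
    (associator (DerivedCategory.Q.obj K) (ten (DerivedCategory.Q.obj L) (DerivedCategory.Q.obj D))
        (DerivedCategory.Q.obj P)).hom ≫
        wl (DerivedCategory.Q.obj K) ((adjR P D hP hD).counit.app (DerivedCategory.Q.obj L)) =
      wr (associator (DerivedCategory.Q.obj K) (DerivedCategory.Q.obj L) (DerivedCategory.Q.obj D)).inv
          (DerivedCategory.Q.obj P) ≫
        (adjR P D hP hD).counit.app (ten (DerivedCategory.Q.obj K) (DerivedCategory.Q.obj L)) := by
  have := isIso_cmp_left hK L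
  rw [← cancel_mono (cmp K L)]
  have hn : (adjR P D hP hD).counit.app (ten (DerivedCategory.Q.obj K) (DerivedCategory.Q.obj L)) ≫
      cmp K L = wr (wr (cmp K L) (DerivedCategory.Q.obj D)) (DerivedCategory.Q.obj P) ≫
        (adjR P D hP hD).counit.app (DerivedCategory.Q.obj (K ⊗ L)) :=
    ((adjR P D hP hD).counit.naturality (cmp K L)).symm
  have h1 : (associator (DerivedCategory.Q.obj K) (DerivedCategory.Q.obj L)
        (DerivedCategory.Q.obj D)).inv ≫ wr (cmp K L) (DerivedCategory.Q.obj D) ≫ cmp (K ⊗ L) D =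
      wl (DerivedCategory.Q.obj K) (cmp L D) ≫ cmp K (L ⊗ D) ≫
        DerivedCategory.Q.map (α_ K L D).inv := by
    rw [Iso.inv_comp_eq, reassoc_of% (assoc_cmp K L D), ← Functor.map_comp, Iso.hom_inv_id,
      CategoryTheory.Functor.map_id, Category.comp_id]
  rw [Category.assoc, Category.assoc, hn, adjR_counit, adjR_counit,
    ← wr_comp_assoc', ← wr_comp_assoc', Category.assoc, h1, wr_comp, wr_comp, Category.assoc,
    Category.assoc, reassoc_of% (wr_cmp (α_ K L D).inv P), ← Functor.map_comp,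
    wl_comp, wl_comp, Category.assoc, Category.assoc, wl_cmp,
    ← reassoc_of% (assoc_nat_mid (DerivedCategory.Q.obj K) (cmp L D) (DerivedCategory.Q.obj P)),
    reassoc_of% (assoc_cmp K (L ⊗ D) P), ← Functor.map_comp, counit_tensor]

include D hP hD in
theorem isIso_evalTen_dual (K L : DRing.Cx A) (hK : IsKFlatCx A K) :
    IsIso (evalTen (DerivedCategory.Q.obj K) (DerivedCategory.Q.obj L) (DerivedCategory.Q.obj P)) := by
  have h : wl (DerivedCategory.Q.obj K) ((theta P D hP hD).hom.app (DerivedCategory.Q.obj L)) ≫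
      evalTen (DerivedCategory.Q.obj K) (DerivedCategory.Q.obj L) (DerivedCategory.Q.obj P) =
      (associator (DerivedCategory.Q.obj K) (DerivedCategory.Q.obj L) (DerivedCategory.Q.obj D)).inv ≫
        (theta P D hP hD).hom.app (ten (DerivedCategory.Q.obj K) (DerivedCategory.Q.obj L)) := by
    apply hom_ext_ev
    rw [wr_comp, wr_comp, Category.assoc, Category.assoc, wr_evalTen, theta_ev,
      reassoc_of% (assoc_nat_mid (DerivedCategory.Q.obj K)
        ((theta P D hP hD).hom.app (DerivedCategory.Q.obj L)) (DerivedCategory.Q.obj P)),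
      ← wl_comp, theta_ev]
    exact adjR_counit_tensor P D hP hD K L hK
  have : IsIso (wl (DerivedCategory.Q.obj K) ((theta P D hP hD).hom.app (DerivedCategory.Q.obj L)) ≫
      evalTen (DerivedCategory.Q.obj K) (DerivedCategory.Q.obj L) (DerivedCategory.Q.obj P)) := by
    rw [h]; infer_instance
  exact IsIso.of_isIso_comp_left
    (wl (DerivedCategory.Q.obj K) ((theta P D hP hD).hom.app (DerivedCategory.Q.obj L))) _

omit [HasRHom A] in
theorem adjL_unit_tensor (T M : DRing.Cx A) (hT : IsKFlatCx A T) :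
    wr ((adjL P D hP hD).unit.app (DerivedCategory.Q.obj T)) (DerivedCategory.Q.obj M) ≫
        (associator (DerivedCategory.Q.obj P) (ten (DerivedCategory.Q.obj D) (DerivedCategory.Q.obj T))
          (DerivedCategory.Q.obj M)).hom ≫
        wl (DerivedCategory.Q.obj P)
          (associator (DerivedCategory.Q.obj D) (DerivedCategory.Q.obj T) (DerivedCategory.Q.obj M)).hom =
      (adjL P D hP hD).unit.app (ten (DerivedCategory.Q.obj T) (DerivedCategory.Q.obj M)) := by
  have := isIso_cmp_left hD (T ⊗ M)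
  have := isIso_cmp_left hP (D ⊗ (T ⊗ M))
  have := isIso_cmp_left hT M
  rw [← cancel_mono (wl (DerivedCategory.Q.obj P) (wl (DerivedCategory.Q.obj D) (cmp T M)) ≫
    wl (DerivedCategory.Q.obj P) (cmp D (T ⊗ M)) ≫ cmp P (D ⊗ (T ⊗ M)))]
  have hn : (adjL P D hP hD).unit.app (ten (DerivedCategory.Q.obj T) (DerivedCategory.Q.obj M)) ≫
      wl (DerivedCategory.Q.obj P) (wl (DerivedCategory.Q.obj D) (cmp T M)) =
      cmp T M ≫ (adjL P D hP hD).unit.app (DerivedCategory.Q.obj (T ⊗ M)) :=
    ((adjL P D hP hD).unit.naturality (cmp T M)).symm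
  rw [reassoc_of% hn, adjL_unit]
  simp only [Category.assoc]
  rw [← wl_comp_assoc', ← wl_comp_assoc']
  simp only [Category.assoc]
  rw [assoc_cmp D T M, wl_comp, wl_comp, Category.assoc, Category.assoc, wl_cmp,
    ← reassoc_of% (assoc_nat_mid (DerivedCategory.Q.obj P) (cmp D T) (DerivedCategory.Q.obj M)),
    reassoc_of% (assoc_cmp P (D ⊗ T) M), ← Functor.map_comp, ← wr_comp_assoc', ← wr_comp_assoc',
    Category.assoc, adjL_unit, reassoc_of% (wr_cmp (uL P D T) M), ← Functor.map_comp, unit_tensor]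

include D hP hD in
theorem isIso_evalTen_left (L : Dual.D A) (M : DRing.Cx A) :
    IsIso (evalTen (DerivedCategory.Q.obj P) L (DerivedCategory.Q.obj M)) := by
  let P' := DerivedCategory.Q.obj P
  let D' := DerivedCategory.Q.obj D
  let M' := DerivedCategory.Q.obj M
  refine isIso_of_bijective_kFlat _ fun T hT => ?_
  let T' := DerivedCategory.Q.obj T
  let R := (RHomR A M').obj L
  let a := (adjL P D hP hD).homEquiv T' R
  let b := (adjL P D hP hD).homEquiv (ten T' M') L
  let e : (T' ⟶ ten P' R) ≃ (T' ⟶ (RHomR A M').obj (ten P' L)) :=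
    a.symm.trans (((rhomHomEquiv (ten D' T') M' L).symm.trans
      ((associator D' T' M').homCongr (Iso.refl L))).trans (b.trans (rhomHomEquiv T' M' (ten P' L))))
  suffices h : (fun g : T' ⟶ ten P' R => g ≫ evalTen P' L M') = e by
    exact h ▸ e.bijective
  funext f
  obtain ⟨g, rfl⟩ := a.surjective f
  apply (rhomHomEquiv T' M' (ten P' L)).symm.injective
  simp only [e, Equiv.trans_apply, Equiv.symm_apply_apply, Iso.homCongr_apply, Iso.refl_hom,
    Category.comp_id]
  rw [homEquiv_symm', homEquiv_symm', wr_comp_assoc', wr_evalTen]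
  rw [show a g = (adjL P D hP hD).unit.app T' ≫ wl P' g from Adjunction.homEquiv_unit _ _ _ _,
    wr_comp_assoc', reassoc_of% (assoc_nat_mid P' g M'), ← wl_comp,
    show ∀ k, b k = (adjL P D hP hD).unit.app (ten T' M') ≫ wl P' k from
      fun k => Adjunction.homEquiv_unit _ _ _ _,
    ← adjL_unit_tensor P D hP hD T M hT]
  simp only [Category.assoc]
  rw [← wl_comp P' (associator D' T' M').hom, Iso.hom_inv_id_assoc]
  rfl

theorem adjR_swap_unit [ExactPairing D P] (T L : DRing.Cx A) (hT : IsKFlatCx A T)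
    (hL : IsKFlatCx A L) (hε : ε_ D P = (braidCx P D).hom ≫ ε_ P D) :
    IsIso (wr ((adjR D P hD hP).unit.app (DerivedCategory.Q.obj T))
        (ten (DerivedCategory.Q.obj L) (DerivedCategory.Q.obj D)) ≫
      (associator (ten (DerivedCategory.Q.obj T) (DerivedCategory.Q.obj D)) (DerivedCategory.Q.obj P)
        (ten (DerivedCategory.Q.obj L) (DerivedCategory.Q.obj D))).hom ≫
      wl (ten (DerivedCategory.Q.obj T) (DerivedCategory.Q.obj D))
        (sym (ten (DerivedCategory.Q.obj L) (DerivedCategory.Q.obj D)) (DerivedCategory.Q.obj P) ≫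
          (adjR P D hP hD).counit.app (DerivedCategory.Q.obj L))) := by
  let P' := DerivedCategory.Q.obj P
  let D' := DerivedCategory.Q.obj D
  let L' := DerivedCategory.Q.obj L
  let T' := DerivedCategory.Q.obj T
  have := isIso_cmp_left hT D
  have := isIso_cmp_left hL D
  have := isIso_cmp_left (isKFlat_tensor hT hD) L
  have := isIso_cmp_left hT (L ⊗ D)
  let _ : SymmetricCategory (DRing.Cx A) := symmetricCx
  have hs : sym (ten L' D') P' ≫ (adjR P D hP hD).counit.app L' =
      wl P' (cmp L D) ≫ cmp P (L ⊗ D) ≫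
        DerivedCategory.Q.map ((braidCx P (L ⊗ D)).hom ≫ cR P D L) := by
    rw [adjR_counit, ← reassoc_of% (symm_nat (cmp L D) P'), reassoc_of% (symm_cmp (L ⊗ D) P),
      ← Functor.map_comp]
  suffices h : IsIso ((wr ((adjR D P hD hP).unit.app T') (ten L' D') ≫
      (associator (ten T' D') P' (ten L' D')).hom ≫
      wl (ten T' D') (sym (ten L' D') P' ≫ (adjR P D hP hD).counit.app L')) ≫
        wr (cmp T D) L' ≫ cmp (T ⊗ D) L) from
    IsIso.of_isIso_comp_right _ (wr (cmp T D) L' ≫ cmp (T ⊗ D) L)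
  have h : (wr ((adjR D P hD hP).unit.app T') (ten L' D') ≫
      (associator (ten T' D') P' (ten L' D')).hom ≫
      wl (ten T' D') (sym (ten L' D') P' ≫ (adjR P D hP hD).counit.app L')) ≫
        wr (cmp T D) L' ≫ cmp (T ⊗ D) L = wl T' (cmp L D) ≫ cmp T (L ⊗ D) ≫
          DerivedCategory.Q.map (T ◁ (β_ L D).hom ≫ (α_ T D L).inv) := by
    simp only [Category.assoc]
    rw [← reassoc_of% (exchange (cmp T D) (sym (ten L' D') P' ≫ (adjR P D hP hD).counit.app L')),
      ← reassoc_of% (assoc_nat_left (cmp T D) P' (ten L' D')), ← wr_comp_assoc', hs, wl_comp,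
      Category.assoc, ← reassoc_of% (assoc_nat_right (DerivedCategory.Q.obj (T ⊗ D)) P' (cmp L D)),
      reassoc_of% (exchange ((adjR D P hD hP).unit.app T' ≫ wr (cmp T D) P') (cmp L D)),
      wl_comp, Category.assoc, wl_cmp, reassoc_of% (assoc_cmp (T ⊗ D) P (L ⊗ D)),
      ← Functor.map_comp, ← wr_comp_assoc', Category.assoc, adjR_unit,
      reassoc_of% (wr_cmp (uR D P T) (L ⊗ D)), ← Functor.map_comp]
    congr 3
    exact snake P D T L hε
  rw [h]
  infer_instance

include D hP hD in
theorem isIso_evalHom_dual [ExactPairing D P] (L : DRing.Cx A) (hL : IsKFlatCx A L)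
    (hε : ε_ D P = (braidCx P D).hom ≫ ε_ P D) (M : Dual.D A) :
    IsIso (evalHom (DerivedCategory.Q.obj P) (DerivedCategory.Q.obj L) M) := by
  let P' := DerivedCategory.Q.obj P
  let D' := DerivedCategory.Q.obj D
  let L' := DerivedCategory.Q.obj L
  refine isIso_of_bijective_kFlat _ fun T hT => ?_
  let T' := DerivedCategory.Q.obj T
  let Y := (RHomR A L').obj M
  let N := (RHomR A P').obj L'
  let θ : ten L' D' ≅ N := (theta P D hP hD).app L'
  let a := (adjR D P hD hP).homEquiv T' Y
  let ω := wr ((adjR D P hD hP).unit.app T') (ten L' D') ≫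
      (associator (ten T' D') P' (ten L' D')).hom ≫
      wl (ten T' D') (sym (ten L' D') P' ≫ (adjR P D hP hD).counit.app L')
  have hω : IsIso ω := adjR_swap_unit P D hP hD T L hT hL hε
  let e : (T' ⟶ ten Y P') ≃ (T' ⟶ (RHomR A N).obj M) :=
    a.symm.trans ((rhomHomEquiv (ten T' D') L' M).symm.trans
      (((asIso ω).symm.homCongr (Iso.refl M)).trans
        ((((LTen A).obj T').mapIso θ).homCongr (Iso.refl M) |>.trans (rhomHomEquiv T' N M))))
  suffices h : (fun g : T' ⟶ ten Y P' => g ≫ evalHom P' L' M) = e by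
    exact h ▸ e.bijective
  funext f
  obtain ⟨g, rfl⟩ := a.surjective f
  apply (rhomHomEquiv T' N M).symm.injective
  simp only [e, Equiv.trans_apply, Equiv.symm_apply_apply, Iso.homCongr_apply, Iso.refl_hom,
    Category.comp_id, Iso.symm_inv, asIso_hom]
  rw [homEquiv_symm', homEquiv_symm', wr_comp_assoc', wr_evalHom]
  have : IsIso (wl T' θ.hom) := isIso_wl T' θ.hom
  rw [← cancel_epi (wl T' θ.hom),
    show (((LTen A).obj T').mapIso θ).inv = wl T' θ.inv from rfl, ← wl_comp_assoc',
    Iso.hom_inv_id, wl_id, Category.id_comp,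
    show a g = (adjR D P hD hP).unit.app T' ≫ wr g P' from Adjunction.homEquiv_unit _ _ _ _,
    ← reassoc_of% (exchange ((adjR D P hD hP).unit.app T' ≫ wr g P') θ.hom),
    reassoc_of% (assoc_nat_right Y P' θ.hom), ← wl_comp_assoc',
    reassoc_of% (symm_nat θ.hom P'), show θ.hom = (theta P D hP hD).hom.app L' from rfl, theta_ev,
    wr_comp_assoc', reassoc_of% (assoc_nat_left g P' (ten L' D')),
    reassoc_of% (exchange g (sym (ten L' D') P' ≫ (adjR P D hP hD).counit.app L'))]
  simp only [ω, Category.assoc]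
  rfl

end Closed

section Perfect

variable [HasLTen A] [HasLTen₃ A] [IsSymMonoidal A] [HasRHom A]

omit [HasLTen₃ A] [IsSymMonoidal A] in
theorem isIso_RHomMap {L L' : Dual.D A} (g : L' ⟶ L) [IsIso g] (M : Dual.D A) :
    IsIso (RHomMap g M) :=
  inferInstanceAs (IsIso (((RHom A).map g.op).app M))

attribute [local instance] isIso_RHomMap

theorem isIso_evalTen_of_isPerfect_source (K L M : Dual.D A) (hM : DRing.IsPerfect A M) :
    IsIso (evalTen K L M) := by
  obtain ⟨P, a, b, hv, hp, ⟨eM⟩⟩ := hM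
  obtain ⟨D, ⟨_⟩, hP, hD⟩ := StrictDual.exists_exactPairing P hv hp
  obtain ⟨K₀, hK₀, ⟨eK⟩⟩ := exists_kFlat_rep K
  obtain ⟨L₀, -, ⟨eL⟩⟩ := exists_kFlat_rep L
  have h₀ := isIso_evalTen_dual P D hP hD K₀ L₀ hK₀
  have h₁ : IsIso (evalTen K (DerivedCategory.Q.obj L₀) (DerivedCategory.Q.obj P)) := by
    have : IsIso (wr eK.hom ((RHomR A (DerivedCategory.Q.obj P)).obj (DerivedCategory.Q.obj L₀)) ≫
        evalTen K (DerivedCategory.Q.obj L₀) (DerivedCategory.Q.obj P)) := by
      rw [evalTen_nat₁]; infer_instance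
    exact IsIso.of_isIso_comp_left (wr eK.hom _) _
  have h₂ : IsIso (evalTen K L (DerivedCategory.Q.obj P)) := by
    have : IsIso (wl K ((RHomR A (DerivedCategory.Q.obj P)).map eL.hom) ≫
        evalTen K L (DerivedCategory.Q.obj P)) := by
      rw [evalTen_nat₂]; infer_instance
    exact IsIso.of_isIso_comp_left (wl K ((RHomR A (DerivedCategory.Q.obj P)).map eL.hom)) _
  have : IsIso (evalTen K L M ≫ RHomMap eM.hom (ten K L)) := by
    rw [evalTen_nat₃]; infer_instance
  exact IsIso.of_isIso_comp_right _ (RHomMap eM.hom (ten K L))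

theorem isIso_evalTen_of_isPerfect_left (K L M : Dual.D A) (hK : DRing.IsPerfect A K) :
    IsIso (evalTen K L M) := by
  obtain ⟨P, a, b, hv, hp, ⟨eK⟩⟩ := hK
  obtain ⟨D, ⟨_⟩, hP, hD⟩ := StrictDual.exists_exactPairing P hv hp
  obtain ⟨M₀, -, ⟨eM⟩⟩ := exists_kFlat_rep M
  have h₀ := isIso_evalTen_left P D hP hD L M₀
  have h₁ : IsIso (evalTen K L (DerivedCategory.Q.obj M₀)) := by
    have : IsIso (wr eK.hom ((RHomR A (DerivedCategory.Q.obj M₀)).obj L) ≫
        evalTen K L (DerivedCategory.Q.obj M₀)) := by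
      rw [evalTen_nat₁]; infer_instance
    exact IsIso.of_isIso_comp_left (wr eK.hom _) _
  have : IsIso (evalTen K L M ≫ RHomMap eM.hom (ten K L)) := by
    rw [evalTen_nat₃]; infer_instance
  exact IsIso.of_isIso_comp_right _ (RHomMap eM.hom (ten K L))

theorem isIso_evalHom_of_isPerfect (K L M : Dual.D A) (hK : DRing.IsPerfect A K) :
    IsIso (evalHom K L M) := by
  obtain ⟨P, a, b, hv, hp, ⟨eK⟩⟩ := hK
  obtain ⟨D, ⟨hPD⟩, hP, hD⟩ := StrictDual.exists_exactPairing P hv hp
  obtain ⟨L₀, hL₀, ⟨eL⟩⟩ := exists_kFlat_rep L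
  let _ : SymmetricCategory (DRing.Cx A) := symmetricCx
  let _ : ExactPairing D P := BraidedCategory.exactPairing_swap P D
  have h₀ := isIso_evalHom_dual P D hP hD L₀ hL₀ rfl M
  have h₁ : IsIso (evalHom (DerivedCategory.Q.obj P) L M) := by
    have : IsIso (evalHom (DerivedCategory.Q.obj P) (DerivedCategory.Q.obj L₀) M ≫
        RHomMap ((RHomR A (DerivedCategory.Q.obj P)).map eL.inv) M) := inferInstance
    rw [evalHom_nat₂] at this
    exact IsIso.of_isIso_comp_left (wr (RHomMap eL.inv M) _) _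
  have : IsIso (evalHom (DerivedCategory.Q.obj P) L M ≫ RHomMap (RHomMap eK.hom L) M) := inferInstance
  rw [evalHom_nat₁] at this
  exact IsIso.of_isIso_comp_left (wl ((RHomR A L).obj M) eK.hom) _

end Perfect

end Groth.DTenCalc


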