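import Groth.Agent.DTenCalc.RHomComputes
import Mathlib.Order.Interval.Finset.Basic
import Mathlib.Data.Int.Interval

/-!
The evaluation map of Hom complexes for a bounded above complex of finite free modules.
-/

universe u

open CategoryTheory CategoryTheory.Limits MonoidalCategory HomologicalComplex DTen
open CochainComplex CochainComplex.HomComplex
open scoped TensorProduct
open Groth.DTenCalc.InternalHom
open Groth.DTenCalc.StrictDual (tm tm_whiskerRight tm_whiskerLeft tm_associator Basis nonempty_basis)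

set_option backward.isDefEq.respectTransparency false

namespace Groth.DTenCalc.EvalPC

variable {A : Type u} [CommRing A]

theorem braidCx_tm (K L : DRing.Cx A) {p q n : ℤ} (h : p + q = n) (x : K.X p) (y : L.X q) :
    (braidCx K L).hom.f n (tm K L h (x ⊗ₜ y)) =
      ((p * q).negOnePow : ℤ) • tm L K (show q + p = n by omega) (y ⊗ₜ x) :=
  LinearMap.congr_fun (congrArg ModuleCat.Hom.hom (ι_braidCx_hom K L p q n h)) (x ⊗ₜ y)

variable (E Y I : DRing.Cx A)

/-- Evaluate twice. -/
noncomputable def aux :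
    ((DRing.homCx Y I ⊗ E) ⊗ DRing.homCx E Y : DRing.Cx A) ⟶ I :=
  (α_ (DRing.homCx Y I) E (DRing.homCx E Y)).hom ≫
    DRing.homCx Y I ◁ ((braidCx E (DRing.homCx E Y)).hom ≫ evC E Y) ≫ evC Y I

/-- The evaluation map `Hom•(Y, I) ⊗ E ⟶ Hom•(Hom•(E, Y), I)`. -/
noncomputable def psi : DRing.homCx Y I ⊗ E ⟶ DRing.homCx (DRing.homCx E Y) I :=
  (adjC (DRing.homCx E Y)).homEquiv _ _ (aux E Y I)

theorem psi_ev : psi E Y I ▷ DRing.homCx E Y ≫ evC (DRing.homCx E Y) I = aux E Y I := by
  rw [← adjC_symm_apply]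
  exact Equiv.symm_apply_apply _ _

variable {E Y I}

theorem psi_tm {p j q : ℤ} (h : p + j = q) (u : Cochain Y I p) (e : E.X j) {r t : ℤ} (ht : r + q = t)
    (z : Cochain E Y r) {s : ℤ} (hs : j + r = s) :
    (((psi E Y I).f q (tm (DRing.homCx Y I) E h (u ⊗ₜ[A] e))) : Cochain (DRing.homCx E Y) I q).v r t ht z =
      ((j * r).negOnePow : ℤ) • u.v s t (by omega) (z.v j s hs e) := by
  have key := congrArg (fun g => g.f t (tm (DRing.homCx Y I ⊗ E) (DRing.homCx E Y)
    (show q + r = t by omega) (tm (DRing.homCx Y I) E h (u ⊗ₜ[A] e) ⊗ₜ[A] z))) (psi_ev E Y I)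
  have h1 : (psi E Y I ▷ DRing.homCx E Y ≫ evC (DRing.homCx E Y) I).f t
      (tm (DRing.homCx Y I ⊗ E) (DRing.homCx E Y) (show q + r = t by omega)
        (tm (DRing.homCx Y I) E h (u ⊗ₜ[A] e) ⊗ₜ[A] z)) =
      (((psi E Y I).f q (tm (DRing.homCx Y I) E h (u ⊗ₜ[A] e))) :
        Cochain (DRing.homCx E Y) I q).v r t ht z := by
    rw [HomologicalComplex.comp_f, ModuleCat.comp_apply, tm_whiskerRight]
    exact evC_tm _ _ _
  refine h1.symm.trans (key.trans ?_)
  show (evC Y I).f t ((DRing.homCx Y I ◁ ((braidCx E (DRing.homCx E Y)).hom ≫ evC E Y)).f t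
    ((α_ (DRing.homCx Y I) E (DRing.homCx E Y)).hom.f t _)) = _
  rw [tm_associator (DRing.homCx Y I) E (DRing.homCx E Y) h hs (show p + s = t by omega)
    (show q + r = t by omega), tm_whiskerLeft, HomologicalComplex.comp_f, ModuleCat.comp_apply,
    braidCx_tm, map_zsmul, TensorProduct.tmul_smul, map_zsmul, map_zsmul]
  erw [evC_tm (show r + j = s by omega), evC_tm (show p + s = t by omega)]

/-- The sum over a range of summands of a cochain. -/
theorem sum_v {ι : Type*} (S : Finset ι) {K L : DRing.Cx A} {n : ℤ} (f : ι → Cochain K L n)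
    (p q : ℤ) (h : p + n = q) : (∑ i ∈ S, f i).v p q h = ∑ i ∈ S, (f i).v p q h :=
  map_sum ({ toFun := fun z => z.v p q h, map_zero' := rfl, map_add' := fun _ _ => rfl } :
    Cochain K L n →+ (K.X p ⟶ L.X q)) f S

variable (E Y) in
/-- The cochain concentrated in one degree given by a linear form and an element. -/
noncomputable def sgl {j : ℤ} (φ : Module.Dual A (E.X j)) (r : ℤ) (s : ℤ) :
    Y.X s →ₗ[A] Cochain E Y r where
  toFun y := Cochain.mk fun j' s' _ =>
    if hh : j = j' ∧ s = s' then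
      (E.XIsoOfEq hh.1).inv ≫ ModuleCat.ofHom (φ.smulRight y) ≫ (Y.XIsoOfEq hh.2).hom
    else 0
  map_add' y y' := by
    ext j' s' h : 1
    rw [Cochain.add_v, Cochain.mk_v, Cochain.mk_v, Cochain.mk_v]
    by_cases hh : j = j' ∧ s = s'
    · obtain ⟨rfl, rfl⟩ := hh
      simp only [and_self, dite_true]
      ext x
      simp
    · simp [hh]
  map_smul' a y := by
    ext j' s' h : 1
    rw [Cochain.smul_v, Cochain.mk_v, Cochain.mk_v]
    by_cases hh : j = j' ∧ s = s'
    · obtain ⟨rfl, rfl⟩ := hh
      simp only [and_self, dite_true, RingHom.id_apply]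
      ext x
      simp [smul_comm a]
    · simp [hh]

theorem sgl_v_self {j r s : ℤ} (φ : Module.Dual A (E.X j)) (y : Y.X s) (h : j + r = s) (e : E.X j) :
    (sgl E Y φ r s y).v j s h e = φ e • y := by
  show (dite _ _ _ : E.X j ⟶ Y.X s) e = _
  rw [dif_pos ⟨rfl, rfl⟩]
  simp

theorem sgl_v_of_ne {j r s j' s' : ℤ} (φ : Module.Dual A (E.X j)) (y : Y.X s) (h : j' + r = s')
    (hne : j ≠ j') : (sgl E Y φ r s y).v j' s' h = 0 :=
  dif_neg fun hh => hne hh.1

variable {n b a c : ℤ}

variable (E Y I) in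
/-- The component of the inverse. -/
noncomputable def inv₀ (q : ℤ) {j : ℤ} (φ : Module.Dual A (E.X j)) :
    Cochain (DRing.homCx E Y) I q →ₗ[A] Cochain Y I (q - j) where
  toFun w := Cochain.mk fun s t h =>
    ModuleCat.ofHom (((j * (s - j)).negOnePow : ℤ) •
      (w.v (s - j) t (by omega)).hom.comp (sgl E Y φ (s - j) s))
  map_add' w w' := by
    ext s t h : 1
    rw [Cochain.add_v, Cochain.mk_v, Cochain.mk_v, Cochain.mk_v]
    ext y
    simp
  map_smul' x w := by
    ext s t h : 1
    rw [Cochain.smul_v, Cochain.mk_v, Cochain.mk_v]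
    ext y
    simp [smul_comm x]

theorem inv₀_v {q j s t : ℤ} (φ : Module.Dual A (E.X j)) (w : Cochain (DRing.homCx E Y) I q)
    (h : s + (q - j) = t) (y : Y.X s) :
    (inv₀ E Y I q φ w).v s t h y =
      ((j * (s - j)).negOnePow : ℤ) • w.v (s - j) t (by omega) (sgl E Y φ (s - j) s y) := rfl

variable (E Y I) in
/-- The inverse. -/
noncomputable def inv' (bs : ∀ j, Basis (E.X j)) (J : Finset ℤ) (q : ℤ) :
    Cochain (DRing.homCx E Y) I q →ₗ[A] (DRing.homCx Y I ⊗ E : DRing.Cx A).X q :=
  ∑ j ∈ J, ∑ l, (tm (DRing.homCx Y I) E (show q - j + j = q by omega)).comp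
    (((TensorProduct.mk A _ _).flip ((bs j).m l)).comp (inv₀ E Y I q ((bs j).φ l)))

theorem inv'_apply (bs : ∀ j, Basis (E.X j)) (J : Finset ℤ) (q : ℤ)
    (w : Cochain (DRing.homCx E Y) I q) :
    inv' E Y I bs J q w = ∑ j ∈ J, ∑ l, tm (DRing.homCx Y I) E (show q - j + j = q by omega)
      ((inv₀ E Y I q ((bs j).φ l) w) ⊗ₜ[A] (bs j).m l) := by
  simp only [inv', LinearMap.sum_apply]
  rfl

/-- The evaluation map is a termwise isomorphism. -/
theorem bijective_psi (hE : ∀ j, b < j → IsZero (E.X j))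
    (hf : ∀ j, Module.Finite A (E.X j) ∧ Module.Projective A (E.X j))
    (hY : ∀ i, i < n → IsZero (Y.X i)) (hI : ∀ i, i < a ∨ c < i → IsZero (I.X i)) (q : ℤ) :
    Function.Bijective ((psi E Y I).f q) := by
  let bs : ∀ j, Basis (E.X j) := fun j =>
    have := (hf j).1
    have := (hf j).2
    Classical.choice (nonempty_basis (E.X j))
  let J : Finset ℤ := Finset.Icc (n + q - c) b
  refine Function.bijective_iff_has_inverse.2 ⟨inv' E Y I bs J q, fun x => ?_, fun w => ?_⟩
  · suffices hh : (inv' E Y I bs J q).comp ((psi E Y I).f q).hom = LinearMap.id from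
      LinearMap.congr_fun hh x
    refine congrArg ModuleCat.Hom.hom (?_ : ModuleCat.ofHom _ = 𝟙 _)
    refine mapBifunctor.hom_ext (F := curriedTensor (ModuleCat.{u} A)) fun p i h => ?_
    change p + i = q at h
    refine ModuleCat.MonoidalCategory.tensor_ext fun (u : Cochain Y I p) e => ?_
    show inv' E Y I bs J q ((psi E Y I).f q (tm (DRing.homCx Y I) E h (u ⊗ₜ[A] e))) =
      tm (DRing.homCx Y I) E h (u ⊗ₜ[A] e)
    rw [inv'_apply]
    obtain rfl : p = q - i := by omega
    have hU : ∀ j l, inv₀ E Y I q ((bs j).φ l)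
        ((psi E Y I).f q (tm (DRing.homCx Y I) E h (u ⊗ₜ[A] e))) =
        if hj : j = i then (bs j).φ l (hj ▸ e) • (hj ▸ u) else 0 := by
      intro j l
      refine Cochain.ext _ _ fun s t hst => ModuleCat.hom_ext (LinearMap.ext fun y => ?_)
      rw [inv₀_v, psi_tm h u e _ _ (s := i + (s - j)) rfl]
      split_ifs with hj
      · subst hj
        rw [smul_smul, ← Units.val_mul, Int.units_mul_self, Units.val_one, one_smul,
          Cochain.smul_v]
        have aux : ∀ (s' : ℤ) (hs' : s' = s) (h₁ : j + (s - j) = s') (h₂ : s' + (q - j) = t),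
            u.v s' t h₂ ((sgl E Y ((bs j).φ l) (s - j) s y).v j s' h₁ e) =
              (bs j).φ l e • u.v s t hst y := by
          intro s' hs' h₁ h₂
          subst hs'
          rw [sgl_v_self, map_smul]
        exact aux _ (by omega) rfl (by omega)
      · rw [sgl_v_of_ne _ _ _ hj]
        simp
    by_cases hi : i ∈ J
    · rw [Finset.sum_eq_single i (fun j _ hj => Finset.sum_eq_zero fun l _ => by
        rw [hU, dif_neg hj]; simp) (fun h' => absurd hi h')]
      rw [← map_sum]
      congr 1
      rw [Finset.sum_congr rfl fun l _ => by rw [hU, dif_pos rfl, TensorProduct.smul_tmul],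
        ← TensorProduct.tmul_sum, (bs i).sum_smul]
    · have h0 : u ⊗ₜ[A] e = 0 := by
        rcases lt_or_ge b i with hb | hb
        · have := ModuleCat.subsingleton_of_isZero (hE i hb)
          rw [Subsingleton.elim e 0, TensorProduct.tmul_zero]
        · have : u = 0 := by
            refine Cochain.ext _ _ fun s t hst => ?_
            rcases lt_or_ge s n with hs | hs
            · exact (hY s hs).eq_of_src _ _
            · refine (hI t (Or.inr ?_)).eq_of_tgt _ _
              simp only [J, Finset.mem_Icc] at hi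
              omega
          rw [this, TensorProduct.zero_tmul]
      rw [Finset.sum_eq_zero fun j hj => Finset.sum_eq_zero fun l _ => by
        rw [hU, dif_neg (show j ≠ i from fun e' => hi (e' ▸ hj))]; simp]
      erw [h0]
      exact (map_zero _).symm
  · refine Cochain.ext _ _ fun r t ht => ModuleCat.hom_ext (LinearMap.ext fun (z : Cochain E Y r) => ?_)
    rw [inv'_apply, map_sum]
    erw [sum_v]
    simp only [map_sum]
    by_cases htc : t ≤ c
    swap
    · have := ModuleCat.subsingleton_of_isZero (hI t (Or.inr (by omega)))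
      exact Subsingleton.elim _ _
    have hz : ∑ j ∈ J, ∑ l, sgl E Y ((bs j).φ l) r (j + r) (z.v j (j + r) rfl ((bs j).m l)) = z := by
      refine Cochain.ext _ _ fun i s hs => ModuleCat.hom_ext (LinearMap.ext fun e => ?_)
      rw [sum_v]
      simp only [sum_v]
      by_cases hi : i ∈ J
      · rw [Finset.sum_eq_single i (fun j _ hj => Finset.sum_eq_zero fun l _ =>
          sgl_v_of_ne _ _ _ hj) (fun h' => absurd hi h')]
        obtain rfl : s = i + r := hs.symm
        rw [ModuleCat.hom_sum, LinearMap.sum_apply]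
        erw [Finset.sum_congr rfl fun l _ => sgl_v_self ((bs i).φ l) _ hs e]
        simp only [← map_smul]
        rw [← map_sum, (bs i).sum_smul]
      · rw [Finset.sum_eq_zero fun j hj => Finset.sum_eq_zero fun l _ =>
          sgl_v_of_ne _ _ _ (show j ≠ i from fun e' => hi (e' ▸ hj))]
        symm
        show (z.v i s hs).hom e = (0 : E.X i ⟶ Y.X s).hom e
        rcases lt_or_ge b i with hb | hb
        · rw [(hE i hb).eq_of_src (z.v i s hs) 0]
        · simp only [J, Finset.mem_Icc] at hi
          rw [(hY s (by omega)).eq_of_tgt (z.v i s hs) 0]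
    conv_rhs => rw [← hz]
    rw [ModuleCat.hom_sum, LinearMap.sum_apply, map_sum]
    refine Finset.sum_congr rfl fun j _ => ?_
    erw [sum_v]
    rw [ModuleCat.hom_sum, LinearMap.sum_apply, map_sum]
    refine Finset.sum_congr rfl fun l _ => ?_
    refine (psi_tm _ _ _ ht z (s := j + r) rfl).trans ?_
    rw [inv₀_v]
    have aux : ∀ (r' : ℤ) (_ : r' = r) (hh : r' + q = t),
        w.v r' t hh (sgl E Y ((bs j).φ l) r' (j + r) (z.v j (j + r) rfl ((bs j).m l))) =
          w.v r t ht (sgl E Y ((bs j).φ l) r (j + r) (z.v j (j + r) rfl ((bs j).m l))) := by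
      rintro r' rfl hh
      rfl
    rw [aux _ (by omega), smul_smul, ← Units.val_mul, show j + r - j = r by omega,
      Int.units_mul_self, Units.val_one, one_smul]

theorem isIso_psi (hE : ∀ j, b < j → IsZero (E.X j))
    (hf : ∀ j, Module.Finite A (E.X j) ∧ Module.Projective A (E.X j))
    (hY : ∀ i, i < n → IsZero (Y.X i)) (hI : ∀ i, i < a ∨ c < i → IsZero (I.X i)) :
    IsIso (psi E Y I) := by
  have : ∀ q, IsIso ((psi E Y I).f q) := fun q =>
    (ConcreteCategory.isIso_iff_bijective _).2 (bijective_psi hE hf hY hI q)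
  exact HomologicalComplex.Hom.isIso_of_components _

end Groth.DTenCalc.EvalPC
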