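import Groth.Prelude.Def_DDual2
import Mathlib.Algebra.Homology.DerivedCategory.HomologySequence
import Mathlib.Algebra.Homology.ShortComplex.PreservesHomology

/-!
Restriction of scalars on derived categories reflects isomorphisms.
-/

universe u

open CategoryTheory CategoryTheory.Limits HomologicalComplex
attribute [local instance] HasDerivedCategory.standard

namespace Groth.DTenCalc

variable {R S : Type u} [CommRing R] [CommRing S] (φ : R →+* S)

/-- A map is invertible if its restriction is. -/
theorem isIso_of_isIso_restrictD {a b : Dual.D S} (f : a ⟶ b)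
    (h : IsIso ((DRing.restrictD φ).map f)) : IsIso f := by
  rw [DerivedCategory.isIso_iff]
  intro n
  let F := ModuleCat.restrictScalars.{u} φ
  let W := HomologicalComplex.quasiIso (ModuleCat.{u} S) (ComplexShape.up ℤ)
  let hm : F.mapHomologicalComplex (ComplexShape.up ℤ) ⋙
      HomologicalComplex.homologyFunctor (ModuleCat.{u} R) (ComplexShape.up ℤ) n ≅
      HomologicalComplex.homologyFunctor (ModuleCat.{u} S) (ComplexShape.up ℤ) n ⋙ F :=
    NatIso.ofComponents (fun K => (K.sc n).mapHomologyIso F)
      (fun g => ShortComplex.mapHomologyIso_hom_naturality ((shortComplexFunctor _ _ n).map g) F)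
  let e₁ : DerivedCategory.Q ⋙ DerivedCategory.homologyFunctor (ModuleCat.{u} S) n ⋙ F ≅
      HomologicalComplex.homologyFunctor (ModuleCat.{u} S) (ComplexShape.up ℤ) n ⋙ F :=
    Functor.isoWhiskerRight (DerivedCategory.homologyFunctorFactors (ModuleCat.{u} S) n) F
  let e₂ : DerivedCategory.Q ⋙ DRing.restrictD φ ⋙
      DerivedCategory.homologyFunctor (ModuleCat.{u} R) n ≅
      HomologicalComplex.homologyFunctor (ModuleCat.{u} S) (ComplexShape.up ℤ) n ⋙ F :=
    (Functor.associator _ _ _).symm ≪≫
      Functor.isoWhiskerRight F.mapDerivedCategoryFactors _ ≪≫ Functor.associator _ _ _ ≪≫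
      Functor.isoWhiskerLeft _ (DerivedCategory.homologyFunctorFactors (ModuleCat.{u} R) n) ≪≫ hm
  let _ : Localization.Lifting DerivedCategory.Q W
      (HomologicalComplex.homologyFunctor (ModuleCat.{u} S) (ComplexShape.up ℤ) n ⋙ F)
      (DerivedCategory.homologyFunctor (ModuleCat.{u} S) n ⋙ F) := ⟨e₁⟩
  let _ : Localization.Lifting DerivedCategory.Q W
      (HomologicalComplex.homologyFunctor (ModuleCat.{u} S) (ComplexShape.up ℤ) n ⋙ F)
      (DRing.restrictD φ ⋙ DerivedCategory.homologyFunctor (ModuleCat.{u} R) n) := ⟨e₂⟩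
  let e := Localization.liftNatIso DerivedCategory.Q W _ _
    (DRing.restrictD φ ⋙ DerivedCategory.homologyFunctor (ModuleCat.{u} R) n)
    (DerivedCategory.homologyFunctor (ModuleCat.{u} S) n ⋙ F)
    (Iso.refl (HomologicalComplex.homologyFunctor (ModuleCat.{u} S) (ComplexShape.up ℤ) n ⋙ F))
  have : IsIso (F.map ((DerivedCategory.homologyFunctor (ModuleCat.{u} S) n).map f)) :=
    (NatIso.isIso_map_iff e f).1
      (inferInstanceAs (IsIso ((DerivedCategory.homologyFunctor (ModuleCat.{u} R) n).map
        ((DRing.restrictD φ).map f))))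
  exact isIso_of_reflects_iso _ F

end Groth.DTenCalc
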