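import Groth.Agent.DTenCalc.BaseChangeHom
import Groth.Agent.DTenCalc.RestrictIso

/-!
Restriction of a base change as the tensor product with the algebra.
-/

universe u

open CategoryTheory CategoryTheory.Limits MonoidalCategory HomologicalComplex DTen
open Groth.DAlg.KFlatMod (IsKFlatCx)
attribute [local instance] HasDerivedCategory.standard

set_option backward.isDefEq.respectTransparency false

namespace Groth.DTenCalc

variable {R S : Type u} [CommRing R] [CommRing S] (φ : R →+* S)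

/-- The algebra, as a complex over the base. -/
noncomputable abbrev algCx : DRing.Cx R := (resCx φ).obj (𝟙_ (DRing.Cx S))

/-- The algebra, as an object of the derived category of the base. -/
noncomputable abbrev algD : Dual.D R := (DRing.restrictD φ).obj (DTen.unit S)

/-- Tensoring with the algebra is restriction of base change. -/
noncomputable def piCx (X : DRing.Cx R) : algCx φ ⊗ X ⟶ (resCx φ).obj ((extCx φ).obj X) :=
  pfCx φ (𝟙_ (DRing.Cx S)) X ≫ (resCx φ).map (λ_ ((extCx φ).obj X)).hom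

theorem slide₃ {C : Type*} [Category* C] [MonoidalCategory C] (u : C) {x z a b : C} {f : x ⟶ a}
    {g : z ⟶ b} :
    (u ◁ f) ▷ z ≫ (u ⊗ a) ◁ g ≫ (α_ u a b).hom = (α_ u x z).hom ≫ u ◁ f ▷ z ≫ u ◁ a ◁ g := by
  monoidal

theorem piCx_tensor (X Z : DRing.Cx R) :
    piCx φ X ▷ Z ≫ pfCx φ ((extCx φ).obj X) Z =
      (α_ (algCx φ) X Z).hom ≫ piCx φ (X ⊗ Z) ≫ (resCx φ).map (Ext.delta φ X Z) := by
  let A := (extCx φ).obj X
  let B := (extCx φ).obj Z
  let U : DRing.Cx S := 𝟙_ (DRing.Cx S)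
  have hassoc := Ext.res_associativity φ U A B
  have hl : (resCx φ).map (λ_ (A ⊗ B)).hom =
      (resCx φ).map (α_ U A B).inv ≫ (resCx φ).map ((λ_ A).hom ▷ B) := by
    rw [← Functor.map_comp]
    congr 1
    monoidal
  have hd : resTenCx φ U ((extCx φ).obj (X ⊗ Z)) ≫ (resCx φ).map (λ_ ((extCx φ).obj (X ⊗ Z))).hom ≫
      (resCx φ).map (Ext.delta φ X Z) = (resCx φ).obj U ◁ (resCx φ).map (Ext.delta φ X Z) ≫
      resTenCx φ U (A ⊗ B) ≫ (resCx φ).map (λ_ (A ⊗ B)).hom := by
    rw [reassoc_of% (Ext.resTenCx_natural_right φ U (Ext.delta φ X Z)), ← Functor.map_comp,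
      ← Functor.map_comp, leftUnitor_naturality]
  rw [piCx, piCx, pfCx, pfCx, pfCx]
  simp only [comp_whiskerRight, Category.assoc]
  rw [hd, ← whiskerLeft_comp_assoc, Ext.unit_delta, MonoidalCategory.whiskerLeft_comp, Category.assoc,
    hl, ← reassoc_of% (whisker_exchange ((resCx φ).map (λ_ A).hom) ((unitCx φ).app Z))]
  erw [Ext.resTenCx_natural_left φ (λ_ A).hom B]
  have h2 : (α_ ((resCx φ).obj U) ((resCx φ).obj A) ((resCx φ).obj B)).hom ≫
      (resCx φ).obj U ◁ resTenCx φ A B ≫ resTenCx φ U (A ⊗ B) ≫ (resCx φ).map (α_ U A B).inv =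
      resTenCx φ U A ▷ (resCx φ).obj B ≫ resTenCx φ (U ⊗ A) B := by
    rw [← reassoc_of% hassoc, ← Functor.map_comp, Iso.hom_inv_id, CategoryTheory.Functor.map_id,
      Category.comp_id]
  rw [tensorHom_def, MonoidalCategory.whiskerLeft_comp, Category.assoc]
  have slide := slide₃ ((resCx φ).obj U) (f := ((unitCx φ).app X : X ⟶ (resCx φ).obj A))
    (g := ((unitCx φ).app Z : Z ⟶ (resCx φ).obj B))
  erw [← reassoc_of% (whisker_exchange (resTenCx φ U A) ((unitCx φ).app Z : Z ⟶ (resCx φ).obj B)),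
    ← reassoc_of% h2, reassoc_of% slide]
  rfl

variable [HasLBase φ] [HasLTen R] [HasLTen S] [HasResTen φ] [ResLegIso φ]

/-- Restriction of base change is the tensor product with the algebra. -/
noncomputable def piD (X : Dual.D R) :
    ten (algD φ) X ⟶ (DRing.restrictD φ).obj ((LBase φ).obj X) :=
  projPF φ (DTen.unit S) X ≫ (DRing.restrictD φ).map ((unitL S).app ((LBase φ).obj X))

theorem isIso_piD (X : Dual.D R) : IsIso (piD φ X) := by
  have := isIso_projPF φ (DTen.unit S) X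
  have := isIso_unitL_app (A := S) ((LBase φ).obj X)
  rw [piD]
  infer_instance

theorem piD_natural {X Y : Dual.D R} (f : X ⟶ Y) :
    wl (algD φ) f ≫ piD φ Y = piD φ X ≫ (DRing.restrictD φ).map ((LBase φ).map f) := by
  rw [piD, piD, reassoc_of% (projPF_natural_right φ (DTen.unit S) f), Category.assoc,
    ← Functor.map_comp, ← Functor.map_comp]
  congr 2
  exact (unitL S).naturality ((LBase φ).map f)

theorem piD_cmp (X : DRing.Cx R) :
    piD φ (DerivedCategory.Q.obj X) ≫ (DRing.restrictD φ).map (bc φ X) ≫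
        (rf φ ((extCx φ).obj X)).hom =
      wr (rf φ (𝟙_ (DRing.Cx S))).hom (DerivedCategory.Q.obj X) ≫ cmp (algCx φ) X ≫
        DerivedCategory.Q.map (piCx φ X) := by
  have hu : (unitL S).app ((LBase φ).obj (DerivedCategory.Q.obj X)) ≫ bc φ X =
      wl (DTen.unit S) (bc φ X) ≫ cmp (𝟙_ (DRing.Cx S)) ((extCx φ).obj X) ≫
        DerivedCategory.Q.map (λ_ ((extCx φ).obj X)).hom := by
    rw [← unitL_app]
    exact ((unitL S).naturality (bc φ X)).symm
  have hq : (DRing.restrictD φ).map (DerivedCategory.Q.map (λ_ ((extCx φ).obj X)).hom) ≫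
      (rf φ ((extCx φ).obj X)).hom = (rf φ (𝟙_ (DRing.Cx S) ⊗ (extCx φ).obj X)).hom ≫
        DerivedCategory.Q.map ((resCx φ).map (λ_ ((extCx φ).obj X)).hom) :=
    (resFactors φ).hom.naturality (λ_ ((extCx φ).obj X)).hom
  rw [piD, Category.assoc, ← Functor.map_comp_assoc, hu, ← Category.assoc (wl _ _), Functor.map_comp,
    Category.assoc, hq, reassoc_of% (projPF_cmp φ (𝟙_ (DRing.Cx S)) X), ← Functor.map_comp]
  rfl

variable [HasLTen₃ R] [IsSymMonoidal R]

theorem piD_tensor_rep (X Z : DRing.Cx R) (hX : IsKFlatCx R X) (hZ : IsKFlatCx R Z) :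
    wr (piD φ (DerivedCategory.Q.obj X)) (DerivedCategory.Q.obj Z) ≫
        projPF φ ((LBase φ).obj (DerivedCategory.Q.obj X)) (DerivedCategory.Q.obj Z) =
      (associator (algD φ) (DerivedCategory.Q.obj X) (DerivedCategory.Q.obj Z)).hom ≫
        piD φ (ten (DerivedCategory.Q.obj X) (DerivedCategory.Q.obj Z)) ≫
        (DRing.restrictD φ).map (mbar φ (DerivedCategory.Q.obj X) (DerivedCategory.Q.obj Z)) := by
  let N0 := algCx φ
  let A := (extCx φ).obj X
  let B := (extCx φ).obj Z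
  have := isIso_bc φ hX
  have := isIso_bc φ hZ
  have := isIso_ε A B (isKFlat_ext φ hX)
  rw [← cancel_mono ((DRing.restrictD φ).map (wr (bc φ X) ((LBase φ).obj (DerivedCategory.Q.obj Z)) ≫
    wl (DerivedCategory.Q.obj A) (bc φ Z) ≫ cmp A B) ≫ (rf φ (A ⊗ B)).hom)]
  simp only [Category.assoc]
  have hq : (DRing.restrictD φ).map (DerivedCategory.Q.map (Ext.delta φ X Z)) ≫ (rf φ (A ⊗ B)).hom =
      (rf φ ((extCx φ).obj (X ⊗ Z))).hom ≫
        DerivedCategory.Q.map ((resCx φ).map (Ext.delta φ X Z)) :=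
    (resFactors φ).hom.naturality (Ext.delta φ X Z)
  rw [← Functor.map_comp_assoc _ (mbar φ (DerivedCategory.Q.obj X) (DerivedCategory.Q.obj Z)),
    mbar_cmp]
  simp only [Functor.map_comp, Category.assoc]
  rw [hq,
    ← reassoc_of% (piD_natural φ (cmp X Z)), reassoc_of% (piD_cmp φ (X ⊗ Z)), ← Functor.map_comp]
  rw [← reassoc_of% (projPF_natural_left φ (bc φ X) (DerivedCategory.Q.obj Z)),
    ← Functor.map_comp_assoc _ (wl (DerivedCategory.Q.obj A) (bc φ Z)), projPF_cmp φ A Z, ← wr_comp_assoc', ← wr_comp_assoc', Category.assoc, piD_cmp φ X,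
    wr_comp_assoc', wr_comp_assoc', reassoc_of% (wr_cmp (piCx φ X) Z), ← Functor.map_comp, piCx_tensor]
  rw [← reassoc_of% (exchange (rf φ (𝟙_ (DRing.Cx S))).hom (cmp X Z)),
    ← reassoc_of% (assoc_nat_left (rf φ (𝟙_ (DRing.Cx S))).hom (DerivedCategory.Q.obj X)
      (DerivedCategory.Q.obj Z)), reassoc_of% (assoc_cmp N0 X Z), ← Functor.map_comp]

theorem piD_tensor (a b : Dual.D R) :
    wr (piD φ a) b ≫ projPF φ ((LBase φ).obj a) b =
      (associator (algD φ) a b).hom ≫ piD φ (ten a b) ≫ (DRing.restrictD φ).map (mbar φ a b) := by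
  obtain ⟨X, hX, ⟨eX⟩⟩ := exists_kFlat_rep a
  obtain ⟨Z, hZ, ⟨eZ⟩⟩ := exists_kFlat_rep b
  let x := DerivedCategory.Q.obj X
  let z := DerivedCategory.Q.obj Z
  have h1 : wr (piD φ a) z ≫ projPF φ ((LBase φ).obj a) z =
      (associator (algD φ) a z).hom ≫ piD φ (ten a z) ≫ (DRing.restrictD φ).map (mbar φ a z) := by
    rw [← cancel_epi (wr (wl (algD φ) eX.hom) z), ← wr_comp_assoc', piD_natural, wr_comp_assoc',
      projPF_natural_left, reassoc_of% (piD_tensor_rep φ X Z hX hZ),
      reassoc_of% (assoc_nat_mid (algD φ) eX.hom z), reassoc_of% (piD_natural φ (wr eX.hom z)),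
      ← Functor.map_comp, ← Functor.map_comp, mbar_natural_left]
  rw [← cancel_epi (wl (ten (algD φ) a) eZ.hom), ← reassoc_of% (exchange (piD φ a) eZ.hom),
    projPF_natural_right, reassoc_of% h1, reassoc_of% (assoc_nat_right (algD φ) a eZ.hom),
    reassoc_of% (piD_natural φ (wl a eZ.hom)), ← Functor.map_comp, ← Functor.map_comp,
    mbar_natural_right]

variable [HasRHom R] [HasRHom S]

/-- Base change of internal homs along a perfect algebra. -/
theorem isIso_bcRHom_of_isPerfect_algD (K M : Dual.D R) [IsIso (rhomBC φ K ((LBase φ).obj M))]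
    (hN : DRing.IsPerfect R (algD φ)) : IsIso (bcRHom φ K M) := by
  apply isIso_of_isIso_restrictD φ
  let X := (RHomR R K).obj M
  have := isIso_piD φ X
  have := isIso_piD φ M
  have := isIso_evalTen_of_isPerfect_left (algD φ) M K hN
  have key : piD φ X ≫ (DRing.restrictD φ).map (bcRHom φ K M) ≫ rhomBC φ K ((LBase φ).obj M) =
      evalTen (algD φ) M K ≫ (RHomR R K).map (piD φ M) := by
    apply hom_ext_ev
    rw [wr_comp, wr_comp, wr_comp, Category.assoc, Category.assoc, Category.assoc]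
    erw [rhomBC_fac]
    rw [rhomBCCore_eq, reassoc_of% (projPF_natural_left φ (bcRHom φ K M) K),
      reassoc_of% (piD_tensor φ X K), ← Functor.map_comp, ← Functor.map_comp, wr_bcRHom,
      ← piD_natural, ev_nat, reassoc_of% (wr_evalTen (algD φ) M K)]
  have : IsIso (piD φ X ≫ (DRing.restrictD φ).map (bcRHom φ K M) ≫ rhomBC φ K ((LBase φ).obj M)) := by
    rw [key]; infer_instance
  have := IsIso.of_isIso_comp_left (piD φ X)
    ((DRing.restrictD φ).map (bcRHom φ K M) ≫ rhomBC φ K ((LBase φ).obj M))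
  exact IsIso.of_isIso_comp_right _ (rhomBC φ K ((LBase φ).obj M))

omit [HasLBase φ] [HasLTen R] [HasLTen S] [HasResTen φ] [ResLegIso φ] [HasLTen₃ R] [IsSymMonoidal R]
  [HasRHom R] [HasRHom S] in
/-- The algebra as a module is its restricted unit. -/
theorem nonempty_algD_iso {R S : Type u} [CommRing R] [CommRing S] [Algebra R S] :
    Nonempty (algD (algebraMap R S) ≅ Dual.inD R S) := by
  let M := (ModuleCat.restrictScalars.{u} (algebraMap R S)).obj (𝟙_ (ModuleCat.{u} S))
  let N := ModuleCat.of R S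
  let l : M →ₗ[R] N :=
    { toFun := fun s => (s : S)
      map_add' := fun _ _ => rfl
      map_smul' := fun r s => by exact (Algebra.smul_def (R := R) (A := S) r s).symm }
  let e : M ≅ N :=
    @asIso _ _ _ _ ((ModuleCat.homEquiv (M := M) (N := N)).symm l)
      ((ConcreteCategory.isIso_iff_bijective ((ModuleCat.homEquiv (M := M) (N := N)).symm l)).2 ⟨fun _ _ h => h, fun y => ⟨y, rfl⟩⟩)
  exact ⟨rf (algebraMap R S) (𝟙_ (DRing.Cx S)) ≪≫ DerivedCategory.Q.mapIso
    ((singleMapHomologicalComplex (ModuleCat.restrictScalars.{u} (algebraMap R S))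
      (ComplexShape.up ℤ) 0).app (𝟙_ (ModuleCat.{u} S)) ≪≫
      (HomologicalComplex.single (ModuleCat.{u} R) (ComplexShape.up ℤ) 0).mapIso e) ≪≫
    ((DerivedCategory.singleFunctorIsoCompQ (ModuleCat.{u} R) 0).app (ModuleCat.of R S)).symm⟩

end Groth.DTenCalc
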