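import Groth.Agent.DTenCalc.EvalPC
import Groth.Agent.DTenCalc.PerfectAlgebra
import Groth.Agent.DTenCalc.BaseChangeHom
import Groth.Agent.DTenCalc.RestrictIso
import Mathlib.Algebra.Homology.DerivedCategory.TStructure
import Mathlib.Algebra.Category.ModuleCat.Projective

/-!
Tensoring a complex of finite tor amplitude into an internal Hom out of a pseudo-coherent complex.
-/

universe u

open CategoryTheory CategoryTheory.Limits MonoidalCategory HomologicalComplex DTen
open CochainComplex CochainComplex.HomComplex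
open scoped TensorProduct
open Groth.DTenCalc.InternalHom
open Groth.DTenCalc.StrictDual (tm tm_whiskerRight tm_whiskerLeft tm_associator Basis nonempty_basis)
open Groth.DTenCalc.EvalPC (sgl sgl_v_self sgl_v_of_ne sum_v)
open Groth.DAlg.KFlatMod (IsKFlatCx)
attribute [local instance] HasDerivedCategory.standard

set_option backward.isDefEq.respectTransparency false

namespace Groth.DTenCalc.EvalTenPC

section Chain

variable {A : Type u} [CommRing A] (F E Y : DRing.Cx A)

/-- Tensor the evaluation. -/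
noncomputable def aux : ((F ⊗ DRing.homCx E Y) ⊗ E : DRing.Cx A) ⟶ F ⊗ Y :=
  (α_ F (DRing.homCx E Y) E).hom ≫ F ◁ evC E Y

/-- The map `F ⊗ Hom•(E, Y) ⟶ Hom•(E, F ⊗ Y)`. -/
noncomputable def chi : F ⊗ DRing.homCx E Y ⟶ DRing.homCx E (F ⊗ Y) :=
  (adjC E).homEquiv _ _ (aux F E Y)

theorem chi_ev : chi F E Y ▷ E ≫ evC E (F ⊗ Y) = aux F E Y := by
  rw [← adjC_symm_apply]
  exact Equiv.symm_apply_apply _ _

variable {F E Y}

theorem chi_tm {i r q : ℤ} (h : i + r = q) (f : F.X i) (z : Cochain E Y r) {j s t : ℤ}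
    (ht : j + q = t) (hs : j + r = s) (e : E.X j) :
    (((chi F E Y).f q (tm F (DRing.homCx E Y) h (f ⊗ₜ[A] z))) : Cochain E (F ⊗ Y) q).v j t ht e =
      tm F Y (show i + s = t by omega) (f ⊗ₜ[A] z.v j s hs e) := by
  have key := congrArg (fun g => g.f t (tm (F ⊗ DRing.homCx E Y) E
    (show q + j = t by omega) (tm F (DRing.homCx E Y) h (f ⊗ₜ[A] z) ⊗ₜ[A] e))) (chi_ev F E Y)
  have h1 : (chi F E Y ▷ E ≫ evC E (F ⊗ Y)).f t (tm (F ⊗ DRing.homCx E Y) E
      (show q + j = t by omega) (tm F (DRing.homCx E Y) h (f ⊗ₜ[A] z) ⊗ₜ[A] e)) =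
      (((chi F E Y).f q (tm F (DRing.homCx E Y) h (f ⊗ₜ[A] z))) :
        Cochain E (F ⊗ Y) q).v j t ht e := by
    rw [HomologicalComplex.comp_f, ModuleCat.comp_apply, tm_whiskerRight]
    exact evC_tm _ _ _
  refine h1.symm.trans (key.trans ?_)
  show (F ◁ evC E Y).f t ((α_ F (DRing.homCx E Y) E).hom.f t _) = _
  rw [tm_associator F (DRing.homCx E Y) E h (show r + j = s by omega) (show i + s = t by omega)
    (show q + j = t by omega), tm_whiskerLeft]
  erw [evC_tm (show r + j = s by omega)]

variable (F Y) in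
/-- The projection to a summand. -/
noncomputable def proj (i k t : ℤ) : (F ⊗ Y : DRing.Cx A).X t →ₗ[A] F.X i ⊗[A] Y.X k :=
  ModuleCat.Hom.hom (mapBifunctorDesc (K₁ := F) (K₂ := Y) (F := curriedTensor (ModuleCat.{u} A))
    (c := ComplexShape.up ℤ) (j := t) (fun p p' _ =>
      if hh : p = i ∧ p' = k then (F.XIsoOfEq hh.1).hom ⊗ₘ (Y.XIsoOfEq hh.2).hom else 0))

theorem proj_tm {i k t p p' : ℤ} (h : p + p' = t) (f : F.X p) (y : Y.X p') :
    proj F Y i k t (tm F Y h (f ⊗ₜ y)) =
      (if hh : p = i ∧ p' = k then (F.XIsoOfEq hh.1).hom ⊗ₘ (Y.XIsoOfEq hh.2).hom else 0 :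
        F.X p ⊗ Y.X p' ⟶ F.X i ⊗ Y.X k) (f ⊗ₜ y) :=
  LinearMap.congr_fun (congrArg ModuleCat.Hom.hom (ι_mapBifunctorDesc (K₁ := F) (K₂ := Y)
    (F := curriedTensor (ModuleCat.{u} A)) (c := ComplexShape.up ℤ) (fun p p' _ =>
      if hh : p = i ∧ p' = k then (F.XIsoOfEq hh.1).hom ⊗ₘ (Y.XIsoOfEq hh.2).hom else 0) p p' h)) (f ⊗ₜ y)

theorem proj_tm_self {i k t : ℤ} (h : i + k = t) (x : F.X i ⊗[A] Y.X k) :
    proj F Y i k t (tm F Y h x) = x := by
  induction x using TensorProduct.induction_on with
  | zero => simp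
  | add a b ha hb => rw [map_add, map_add, ha, hb]
  | tmul f y => rw [proj_tm, dif_pos ⟨rfl, rfl⟩]; rfl

theorem proj_tm_of_ne {i k t p p' : ℤ} (h : p + p' = t) (hne : p ≠ i) (x : F.X p ⊗[A] Y.X p') :
    proj F Y i k t (tm F Y h x) = 0 := by
  induction x using TensorProduct.induction_on with
  | zero => simp
  | add a b ha hb => rw [map_add, map_add, ha, hb, add_zero]
  | tmul f y => rw [proj_tm, dif_neg (fun hh => hne hh.1)]; rfl

variable {n b a c : ℤ}

/-- A summand built from a cochain concentrated in one degree. -/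
theorem chi_sgl {i r q j s : ℤ} (h : i + r = q) (φ : Module.Dual A (E.X j)) (hs : j + r = s)
    (x : F.X i ⊗[A] Y.X s) {k : ℤ} (e : E.X k) :
    (((chi F E Y).f q (tm F (DRing.homCx E Y) h (LinearMap.lTensor (F.X i) (sgl E Y φ r s) x))) :
        Cochain E (F ⊗ Y) q).v k (k + q) rfl e =
      if hjk : j = k then φ (hjk ▸ e) • tm F Y (show i + s = k + q by omega) x else 0 := by
  induction x using TensorProduct.induction_on with
  | zero =>
    have h0 : (tm F (DRing.homCx E Y) h) (LinearMap.lTensor (F.X i) (sgl E Y φ r s) 0) = 0 :=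
      (congrArg _ (map_zero _)).trans (map_zero _)
    rw [h0, map_zero]
    erw [Cochain.zero_v]
    split_ifs <;> simp
  | add x x' hx hx' =>
    rw [map_add]
    erw [map_add, map_add, Cochain.add_v]
    refine (congrArg₂ (· + ·) hx hx').trans ?_
    split_ifs <;> simp
  | tmul f y =>
    rw [LinearMap.lTensor_tmul]
    erw [chi_tm h f (sgl E Y φ r s y) (s := k + r) rfl rfl]
    split_ifs with hjk
    · subst hjk
      subst hs
      rw [sgl_v_self, TensorProduct.tmul_smul, map_smul]
    · rw [sgl_v_of_ne _ _ _ hjk]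
      simp

/-- An element of a tensor product is the sum of its components. -/
theorem sum_tm_proj {a c : ℤ} (hF : ∀ i, i < a ∨ c < i → IsZero (F.X i)) (t : ℤ)
    (x : (F ⊗ Y : DRing.Cx A).X t) :
    ∑ i ∈ Finset.Icc a c, tm F Y (show i + (t - i) = t by omega) (proj F Y i (t - i) t x) = x := by
  suffices hh : (∑ i ∈ Finset.Icc a c,
      (tm F Y (show i + (t - i) = t by omega)).comp (proj F Y i (t - i) t)) = LinearMap.id by
    have := LinearMap.congr_fun hh x
    simpa only [LinearMap.sum_apply, LinearMap.comp_apply, LinearMap.id_apply] using this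
  refine congrArg ModuleCat.Hom.hom (?_ : ModuleCat.ofHom _ = 𝟙 _)
  refine mapBifunctor.hom_ext (F := curriedTensor (ModuleCat.{u} A)) fun p p' h => ?_
  change p + p' = t at h
  refine ModuleCat.MonoidalCategory.tensor_ext fun f y => ?_
  show (∑ i ∈ Finset.Icc a c, (tm F Y (show i + (t - i) = t by omega)).comp
    (proj F Y i (t - i) t)) (tm F Y h (f ⊗ₜ y)) = tm F Y h (f ⊗ₜ y)
  rw [LinearMap.sum_apply]
  by_cases hp : p ∈ Finset.Icc a c
  · obtain rfl : p' = t - p := by omega
    rw [Finset.sum_eq_single p (fun i _ hi => by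
      rw [LinearMap.comp_apply, proj_tm_of_ne _ (Ne.symm hi), map_zero]) (fun h' => absurd hp h'),
      LinearMap.comp_apply, proj_tm_self]
  · have : f = 0 := by
      have := ModuleCat.subsingleton_of_isZero (hF p (by simp only [Finset.mem_Icc] at hp; omega))
      exact Subsingleton.elim _ _
    simp [this]

variable (F E Y) in
/-- The component of the inverse. -/
noncomputable def invTerm (bs : ∀ j, Basis (E.X j)) (q i j : ℤ) (l : Fin (bs j).k) :
    Cochain E (F ⊗ Y) q →ₗ[A] (F ⊗ DRing.homCx E Y : DRing.Cx A).X q :=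
  (tm F (DRing.homCx E Y) (show i + (q - i) = q by omega)).comp
    ((LinearMap.lTensor (F.X i) (sgl E Y ((bs j).φ l) (q - i) (j + (q - i)))).comp
      ((proj F Y i (j + (q - i)) (j + q)).comp
        ((appLin E (F ⊗ Y) (rfl : j + q = j + q)).flip ((bs j).m l))))

theorem invTerm_apply (bs : ∀ j, Basis (E.X j)) (q i j : ℤ) (l : Fin (bs j).k)
    (w : Cochain E (F ⊗ Y) q) :
    invTerm F E Y bs q i j l w = tm F (DRing.homCx E Y) (show i + (q - i) = q by omega)
      (LinearMap.lTensor (F.X i) (sgl E Y ((bs j).φ l) (q - i) (j + (q - i)))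
        (proj F Y i (j + (q - i)) (j + q) (w.v j (j + q) rfl ((bs j).m l)))) := rfl

/-- The map is a termwise isomorphism. -/
theorem bijective_chi (hE : ∀ j, b < j → IsZero (E.X j))
    (hf : ∀ j, Module.Finite A (E.X j) ∧ Module.Projective A (E.X j))
    (hY : ∀ k, k < n → IsZero (Y.X k)) (hF : ∀ i, i < a ∨ c < i → IsZero (F.X i)) (q : ℤ) :
    Function.Bijective ((chi F E Y).f q) := by
  let bs : ∀ j, Basis (E.X j) := fun j =>
    have := (hf j).1
    have := (hf j).2
    Classical.choice (nonempty_basis (E.X j))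
  let J : Finset ℤ := Finset.Icc (n + a - q) b
  let S : Finset ℤ := Finset.Icc a c
  let G : Cochain E (F ⊗ Y) q →ₗ[A] (F ⊗ DRing.homCx E Y : DRing.Cx A).X q :=
    ∑ i ∈ S, ∑ j ∈ J, ∑ l, invTerm F E Y bs q i j l
  have hG : ∀ w, G w = ∑ i ∈ S, ∑ j ∈ J, ∑ l, invTerm F E Y bs q i j l w := fun w => by
    simp only [G, LinearMap.sum_apply]
  refine Function.bijective_iff_has_inverse.2 ⟨G, fun x => ?_, fun w => ?_⟩
  · suffices hh : G.comp ((chi F E Y).f q).hom = LinearMap.id from LinearMap.congr_fun hh x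
    refine congrArg ModuleCat.Hom.hom (?_ : ModuleCat.ofHom _ = 𝟙 _)
    refine mapBifunctor.hom_ext (F := curriedTensor (ModuleCat.{u} A)) fun i r h => ?_
    change i + r = q at h
    obtain rfl : r = q - i := by omega
    refine ModuleCat.MonoidalCategory.tensor_ext fun f (z : Cochain E Y (q - i)) => ?_
    show G ((chi F E Y).f q (tm F (DRing.homCx E Y) h (f ⊗ₜ[A] z))) =
      tm F (DRing.homCx E Y) h (f ⊗ₜ[A] z)
    by_cases hi : i ∈ S
    swap
    · have : f = 0 := by
        have := ModuleCat.subsingleton_of_isZero (hF i (by simp only [S, Finset.mem_Icc] at hi; omega))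
        exact Subsingleton.elim _ _
      simp [this]
    rw [hG, Finset.sum_eq_single i ?_ (fun h' => absurd hi h')]
    swap
    · intro i' _ hne
      refine Finset.sum_eq_zero fun j _ => Finset.sum_eq_zero fun l _ => ?_
      rw [invTerm_apply, chi_tm h f z (j := j) (s := j + (q - i)) rfl rfl]
      erw [proj_tm_of_ne _ (Ne.symm hne)]
      simp
    have hz : ∑ j ∈ J, ∑ l, sgl E Y ((bs j).φ l) (q - i) (j + (q - i))
        (z.v j (j + (q - i)) rfl ((bs j).m l)) = z := by
      refine Cochain.ext _ _ fun k s hs => ModuleCat.hom_ext (LinearMap.ext fun e => ?_)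
      rw [sum_v]
      simp only [sum_v]
      by_cases hk : k ∈ J
      · rw [Finset.sum_eq_single k (fun j _ hj => Finset.sum_eq_zero fun l _ =>
          sgl_v_of_ne _ _ _ hj) (fun h' => absurd hk h')]
        obtain rfl : s = k + (q - i) := hs.symm
        rw [ModuleCat.hom_sum, LinearMap.sum_apply]
        erw [Finset.sum_congr rfl fun l _ => sgl_v_self ((bs k).φ l) _ hs e]
        simp only [← map_smul]
        rw [← map_sum, (bs k).sum_smul]
      · rw [Finset.sum_eq_zero fun j hj => Finset.sum_eq_zero fun l _ =>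
          sgl_v_of_ne _ _ _ (show j ≠ k from fun e' => hk (e' ▸ hj))]
        symm
        show (z.v k s hs).hom e = (0 : E.X k ⟶ Y.X s).hom e
        rcases lt_or_ge b k with hb | hb
        · rw [(hE k hb).eq_of_src (z.v k s hs) 0]
        · simp only [J, S, Finset.mem_Icc] at hk hi
          rw [(hY s (by omega)).eq_of_tgt (z.v k s hs) 0]
    conv_rhs => rw [← hz, TensorProduct.tmul_sum]
    erw [map_sum]
    refine Finset.sum_congr rfl fun j _ => ?_
    erw [TensorProduct.tmul_sum, map_sum]
    refine Finset.sum_congr rfl fun l _ => ?_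
    rw [invTerm_apply, chi_tm h f z (j := j) (s := j + (q - i)) rfl rfl]
    erw [proj_tm_self]
    rfl
  · rw [hG]
    refine Cochain.ext _ _ fun k t ht => ModuleCat.hom_ext (LinearMap.ext fun e => ?_)
    subst ht
    have hterm : ∀ i j (l : Fin (bs j).k),
        (((chi F E Y).f q (invTerm F E Y bs q i j l w)) : Cochain E (F ⊗ Y) q).v k (k + q) rfl e =
          if hjk : j = k then (bs j).φ l (hjk ▸ e) • tm F Y (show i + (j + (q - i)) = k + q by omega)
            (proj F Y i (j + (q - i)) (j + q) (w.v j (j + q) rfl ((bs j).m l)))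
          else 0 := by
      intro i j l
      rw [invTerm_apply]
      exact chi_sgl (show i + (q - i) = q by omega) ((bs j).φ l) rfl _ e
    simp only [map_sum]
    erw [sum_v]
    rw [ModuleCat.hom_sum, LinearMap.sum_apply]
    erw [Finset.sum_congr rfl fun i _ => by
      rw [sum_v, ModuleCat.hom_sum, LinearMap.sum_apply, Finset.sum_congr rfl fun j _ => by
        rw [sum_v, ModuleCat.hom_sum, LinearMap.sum_apply, Finset.sum_congr rfl fun l _ => hterm i j l]]]
    by_cases hk : k ∈ J
    · rw [Finset.sum_congr rfl fun i _ => Finset.sum_eq_single k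
        (fun j _ hj => Finset.sum_eq_zero fun l _ => dif_neg hj) (fun h' => absurd hk h')]
      simp only [dite_true]
      refine Eq.trans (Finset.sum_congr rfl fun i _ => ?_)
        (sum_tm_proj hF (k + q) (w.v k (k + q) rfl e))
      calc _ = tm F Y (show i + (k + (q - i)) = k + q by omega) (proj F Y i (k + (q - i)) (k + q)
            (w.v k (k + q) rfl (∑ l, (bs k).φ l e • (bs k).m l))) := by
            simp only [map_sum, map_smul]
        _ = _ := by
            rw [(bs k).sum_smul]
            have : ∀ s' (hs : s' = k + q - i) (h' : i + s' = k + q) (x : (F ⊗ Y : DRing.Cx A).X (k + q)),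
                tm F Y h' (proj F Y i s' (k + q) x) =
                  tm F Y (show i + (k + q - i) = k + q by omega) (proj F Y i (k + q - i) (k + q) x) := by
              rintro _ rfl _ _
              rfl
            exact this _ (by omega) _ _
    · rw [Finset.sum_eq_zero fun i _ => Finset.sum_eq_zero fun j hj => Finset.sum_eq_zero fun l _ =>
        dif_neg (show j ≠ k from fun e' => hk (e' ▸ hj))]
      symm
      show (w.v k (k + q) rfl).hom e = (0 : E.X k ⟶ (F ⊗ Y : DRing.Cx A).X (k + q)).hom e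
      rcases lt_or_ge b k with hb | hb
      · rw [(hE k hb).eq_of_src (w.v k (k + q) rfl) 0]
      · have hz : IsZero ((F ⊗ Y : DRing.Cx A).X (k + q)) := by
          rw [IsZero.iff_id_eq_zero]
          refine mapBifunctor.hom_ext (F := curriedTensor (ModuleCat.{u} A)) fun p p' h => ?_
          refine IsZero.eq_of_src ?_ _ _
          change p + p' = k + q at h
          by_cases hp : a ≤ p ∧ p ≤ c
          · simp only [J, Finset.mem_Icc] at hk
            exact Functor.map_isZero (tensorLeft (F.X p)) (hY p' (by omega))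
          · exact Functor.map_isZero (tensorRight (Y.X p')) (hF p (by omega))
        rw [hz.eq_of_tgt (w.v k (k + q) rfl) 0]

end Chain

section Derived

variable {A : Type u} [CommRing A] [HasLTen A] [HasLTen₃ A] [IsSymMonoidal A] [HasRHom A]

/-- `N ⊗ RHom(K, L) ⟶ RHom(K, N ⊗ L)` is invertible for `K` pseudo-coherent, `L` bounded below and `N`
of finite tor amplitude. -/
theorem isIso_evalTen (N L K : Dual.D A) (hN : DRing.HasFiniteTorDimCx A N) (n : ℤ)
    (hL : DerivedCategory.IsGE L n) (hK : DRing.IsPseudoCoherent' A K) : IsIso (evalTen N L K) := by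
  obtain ⟨a, c, F, hFv, hFf, ⟨eN⟩⟩ := hN
  obtain ⟨E, b, hEb, hEf, ⟨eK⟩⟩ := hK
  obtain ⟨Y, _, ⟨eL'⟩⟩ := DerivedCategory.exists_iso_Q_obj_of_isGE L n
  let eL : DerivedCategory.Q.obj Y ≅ L := eL'.symm
  have hE : E.IsKProjective := by
    have : CochainComplex.IsStrictlyLE E b :=
      (CochainComplex.isStrictlyLE_iff E b).2 fun i hi => hEb i hi
    have : ∀ i, Projective (E.X i) := fun i =>
      have := (hEf i).2
      (IsProjective.iff_projective (R := A) (E.X i)).1 inferInstance
    exact CochainComplex.isKProjective_of_projective E b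
  have hF : IsKFlatCx A F :=
    Groth.DAlg.KFlatMod.isKFlatCx_of_flat F (b := c) (fun i hi => hFv i (Or.inr hi)) hFf
  have hχ : IsIso (chi F E Y) := by
    have : ∀ q, IsIso ((chi F E Y).f q) := fun q =>
      (ConcreteCategory.isIso_iff_bijective _).2 (bijective_chi (n := n) (b := b) (a := a) (c := c)
        hEb (fun j => ⟨(hEf j).1, have := (hEf j).2; inferInstance⟩)
        (fun i hi => CochainComplex.isZero_of_isStrictlyGE Y n i hi) hFv q)
    exact HomologicalComplex.Hom.isIso_of_components _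
  let H := DRing.homCx E Y
  have := isIso_cmp_left hF H
  have := isIso_cmp_left hF Y
  let ρ := toRHom eK eL
  have : IsIso ρ := isIso_toRHom eK eL (Or.inl hE)
  let eNL : DerivedCategory.Q.obj (F ⊗ Y) ≅ ten N L :=
    (asIso (cmp F Y)).symm ≪≫ asIso (wr eN.hom (DerivedCategory.Q.obj Y)) ≪≫ asIso (wl N eL.hom)
  let σ := toRHom eK eNL
  have : IsIso σ := isIso_toRHom eK eNL (Or.inl hE)
  let α := wr eN.hom (DerivedCategory.Q.obj H) ≫ wl N ρ
  suffices key : α ≫ evalTen N L K = cmp F H ≫ DerivedCategory.Q.map (chi F E Y) ≫ σ by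
    have : IsIso (α ≫ evalTen N L K) := by rw [key]; infer_instance
    exact IsIso.of_isIso_comp_left α _
  apply hom_ext_ev
  rw [← cancel_epi (wl (ten (DerivedCategory.Q.obj F) (DerivedCategory.Q.obj H)) eK.hom)]
  have hR : wl (ten (DerivedCategory.Q.obj F) (DerivedCategory.Q.obj H)) eK.hom ≫
      wr (cmp F H ≫ DerivedCategory.Q.map (chi F E Y) ≫ σ) K ≫ ev K (ten N L) =
      wr (cmp F H) (DerivedCategory.Q.obj E) ≫ cmp (F ⊗ H) E ≫
        DerivedCategory.Q.map (aux F E Y) ≫ eNL.hom := by
    rw [← reassoc_of% (exchange (cmp F H ≫ DerivedCategory.Q.map (chi F E Y) ≫ σ) eK.hom),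
      wr_comp_assoc', wr_comp_assoc']
    have h := map_toRHom_ev eK eNL
    rw [show (LTen₂ A).map (Prod.mkHom σ eK.hom) = wr σ _ ≫ wl _ eK.hom by
      rw [← Functor.map_comp, prod_comp]; simp [σ], Category.assoc] at h
    erw [h]
    rw [reassoc_of% (wr_evQ (chi F E Y)), chi_ev]
  have hL : wl (ten (DerivedCategory.Q.obj F) (DerivedCategory.Q.obj H)) eK.hom ≫
      wr (α ≫ evalTen N L K) K ≫ ev K (ten N L) =
      (associator (DerivedCategory.Q.obj F) (DerivedCategory.Q.obj H) (DerivedCategory.Q.obj E)).hom ≫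
        wl (DerivedCategory.Q.obj F) (cmp H E) ≫ cmp F (H ⊗ E) ≫
        DerivedCategory.Q.map (F ◁ evC E Y) ≫ eNL.hom := by
    rw [wr_comp_assoc', evalTen_fac, evalTenAux]
    rw [← reassoc_of% (exchange α eK.hom), ← Functor.map_comp_assoc, prod_comp]
    simp only [Category.id_comp, Category.comp_id]
    have hα : α = (LTen₂ A).map (Prod.mkHom eN.hom ρ) := by
      simp only [α, ← Functor.map_comp, prod_comp]
      simp
    rw [hα]
    erw [reassoc_of% (associator_naturality' eN.hom ρ eK.hom)]
    congr 1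
    erw [← Functor.map_comp, prod_comp]
    simp only [Category.comp_id]
    rw [map_toRHom_ev eK eL]
    have hsplit : (LTen₂ A).map (Prod.mkHom eN.hom (evQ E Y ≫ eL.hom)) =
        wl (DerivedCategory.Q.obj F) (evQ E Y) ≫ wr eN.hom (DerivedCategory.Q.obj Y) ≫ wl N eL.hom := by
      rw [← Functor.map_comp, prod_comp, ← Functor.map_comp, prod_comp]
      simp
    erw [hsplit]
    rw [evQ, wl_comp_assoc', ← reassoc_of% (wl_cmp F (evC E Y))]
    simp only [eNL, Iso.trans_hom, Iso.symm_hom, asIso_inv, asIso_hom, IsIso.hom_inv_id_assoc]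
    rfl
  rw [hR, hL, aux]
  simp only [Functor.map_comp, Category.assoc]
  erw [← reassoc_of% (assoc_cmp F H E)]

end Derived

section BaseChange

variable {R S : Type u} [CommRing R] [CommRing S] (φ : R →+* S)
  [HasLBase φ] [HasLTen R] [HasLTen S] [HasResTen φ] [ResLegIso φ] [HasRHom R] [HasRHom S]
  [HasLTen₃ R] [IsSymMonoidal R]

/-- Base change of internal homs, restricted, is `evalTen`. -/
theorem piD_bcRHom (K M : Dual.D R) [IsIso (rhomBC φ K ((LBase φ).obj M))] :
    piD φ ((RHomR R K).obj M) ≫ (DRing.restrictD φ).map (bcRHom φ K M) ≫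
        rhomBC φ K ((LBase φ).obj M) =
      evalTen (algD φ) M K ≫ (RHomR R K).map (piD φ M) := by
  apply hom_ext_ev
  rw [wr_comp_assoc', wr_comp_assoc', wr_comp_assoc', ev_nat]
  erw [rhomBC_fac φ K ((LBase φ).obj M), reassoc_of% (evalTen_fac (algD φ) M K)]
  rw [rhomBCCore_eq, reassoc_of% (projPF_natural_left φ (bcRHom φ K M) K),
    reassoc_of% (piD_tensor φ ((RHomR R K).obj M) K), ← Functor.map_comp, ← Functor.map_comp,
    wr_bcRHom, evalTenAux, Category.assoc]
  congr 1
  exact (piD_natural φ (ev K M)).symm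

/-- Base change of internal homs out of a pseudo-coherent complex. -/
theorem isIso_bcRHom_of_isPseudoCoherent (K M : Dual.D R)
    [IsIso (rhomBC φ K ((LBase φ).obj M))] (hS : DRing.HasFiniteTorDimCx R (algD φ))
    (hK : DRing.IsPseudoCoherent' R K) (n : ℤ) (hM : DerivedCategory.IsGE M n) :
    IsIso (bcRHom φ K M) := by
  refine isIso_of_isIso_restrictD φ _ ?_
  have := isIso_evalTen (algD φ) M K hS n hM hK
  have := isIso_piD φ M
  have := isIso_piD φ ((RHomR R K).obj M)
  have : IsIso (piD φ ((RHomR R K).obj M) ≫ (DRing.restrictD φ).map (bcRHom φ K M) ≫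
      rhomBC φ K ((LBase φ).obj M)) := by
    rw [piD_bcRHom]; infer_instance
  have := IsIso.of_isIso_comp_left (piD φ ((RHomR R K).obj M))
    ((DRing.restrictD φ).map (bcRHom φ K M) ≫ rhomBC φ K ((LBase φ).obj M))
  exact IsIso.of_isIso_comp_right _ (rhomBC φ K ((LBase φ).obj M))

/-- The algebra, as a module in degree zero. -/
theorem nonempty_algD_iso_inD (R S : Type u) [CommRing R] [CommRing S] [Algebra R S] :
    Nonempty (algD (algebraMap R S) ≅ Dual.inD R S) := by
  let e : (ModuleCat.restrictScalars (algebraMap R S)).obj (ModuleCat.of S S) ≅ ModuleCat.of R S :=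
    LinearEquiv.toModuleIso
      (X₁ := (ModuleCat.restrictScalars (algebraMap R S)).obj (ModuleCat.of S S))
      { toFun := fun x => (show S from x)
        invFun := fun x => x
        map_add' := fun _ _ => rfl
        map_smul' := fun r x => (Algebra.smul_def r (show S from x)).symm
        left_inv := fun _ => rfl
        right_inv := fun _ => rfl }
  exact ⟨((ModuleCat.restrictScalars (algebraMap R S)).mapDerivedCategorySingleFunctor 0).app _ ≪≫
    (DerivedCategory.singleFunctor (ModuleCat.{u} R) 0).mapIso e⟩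

end BaseChange


end Groth.DTenCalc.EvalTenPC
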