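import Groth.Prelude.Def_DTen5
import Groth.Agent.DTenCalc.StrictDual

/-!
Extension of scalars of complexes of modules is strong monoidal.
-/

universe u

open CategoryTheory CategoryTheory.Limits MonoidalCategory HomologicalComplex DTen
open scoped TensorProduct
open Groth.DTenCalc.StrictDual (tm tm_whiskerLeft tm_whiskerRight tm_associator one₀ scal
  leftUnitor_tm rightUnitor_tm)

set_option backward.isDefEq.respectTransparency false

namespace Groth.DTenCalc.Ext

variable {R S : Type u} [CommRing R] [CommRing S] (φ : R →+* S)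

/-- An element of a complex, as an element of its restriction. -/
abbrev dn (Y : DRing.Cx S) {i : ℤ} (y : Y.X i) : ((resCx φ).obj Y).X i := y

theorem resTenCx_tm (Y Y' : DRing.Cx S) {p q n : ℤ} (h : p + q = n) (y : Y.X p) (y' : Y'.X q) :
    (resTenCx φ Y Y').f n (tm ((resCx φ).obj Y) ((resCx φ).obj Y') h (dn φ Y y ⊗ₜ dn φ Y' y')) =
      dn φ (Y ⊗ Y') (tm Y Y' h (y ⊗ₜ y')) :=
  LinearMap.congr_fun (congrArg ModuleCat.Hom.hom (ι_resTenCx φ Y Y' p q n h))
    (dn φ Y y ⊗ₜ dn φ Y' y')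

theorem resTenCx_natural_left {Y Z : DRing.Cx S} (f : Y ⟶ Z) (W : DRing.Cx S) :
    (resCx φ).map f ▷ (resCx φ).obj W ≫ resTenCx φ Z W =
      resTenCx φ Y W ≫ (resCx φ).map (f ▷ W) := by
  have h := resTenCx_naturality φ f (𝟙 W)
  rwa [CategoryTheory.Functor.map_id, tensorHom_id, tensorHom_id] at h

theorem resTenCx_natural_right (W : DRing.Cx S) {Y Z : DRing.Cx S} (f : Y ⟶ Z) :
    (resCx φ).obj W ◁ (resCx φ).map f ≫ resTenCx φ W Z =
      resTenCx φ W Y ≫ (resCx φ).map (W ◁ f) := by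
  have h := resTenCx_naturality φ (𝟙 W) f
  rwa [CategoryTheory.Functor.map_id, id_tensorHom, id_tensorHom] at h

/-- The unit of the restriction. -/
noncomputable def resUnit : 𝟙_ (DRing.Cx R) ⟶ (resCx φ).obj (𝟙_ (DRing.Cx S)) :=
  mkHomFromSingle (Functor.LaxMonoidal.ε (ModuleCat.restrictScalars.{u} φ) ≫
      (resM φ).map (singleObjXSelf (ComplexShape.up ℤ) 0 (𝟙_ (ModuleCat.{u} S))).inv)
    fun k hk => by
      change (0 : ℤ) + 1 = k at hk
      rw [Category.assoc]
      erw [← Functor.map_comp]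
      rw [(isZero_single_obj_X (ComplexShape.up ℤ) 0 (𝟙_ (ModuleCat.{u} S)) k (by omega)).eq_of_tgt
        ((singleObjXSelf (ComplexShape.up ℤ) 0 (𝟙_ (ModuleCat.{u} S))).inv ≫
          (𝟙_ (DRing.Cx S)).d 0 k) 0, Functor.map_zero, comp_zero]

theorem resUnit_scal (r : R) :
    (resUnit φ).f 0 (scal r) = dn φ (𝟙_ (DRing.Cx S)) (scal (φ r)) := by
  rw [resUnit, mkHomFromSingle_f]
  show ((resM φ).map (singleObjXSelf (ComplexShape.up ℤ) 0 (𝟙_ (ModuleCat.{u} S))).inv).hom
    ((Functor.LaxMonoidal.ε (ModuleCat.restrictScalars.{u} φ)).hom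
      ((singleObjXSelf (ComplexShape.up ℤ) 0 (𝟙_ (ModuleCat.{u} R))).hom.hom
        ((singleObjXSelf (ComplexShape.up ℤ) 0 (𝟙_ (ModuleCat.{u} R))).inv.hom r))) = _
  erw [Iso.inv_hom_id_apply]
  exact congrArg (fun s : S => dn φ (𝟙_ (DRing.Cx S))
    ((singleObjXSelf (ComplexShape.up ℤ) 0 (𝟙_ (ModuleCat.{u} S))).inv.hom s))
    (ModuleCat.restrictScalars_η φ r)

theorem res_associativity (X Y Z : DRing.Cx S) :
    resTenCx φ X Y ▷ (resCx φ).obj Z ≫ resTenCx φ (X ⊗ Y) Z ≫ (resCx φ).map (α_ X Y Z).hom =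
      (α_ ((resCx φ).obj X) ((resCx φ).obj Y) ((resCx φ).obj Z)).hom ≫
        (resCx φ).obj X ◁ resTenCx φ Y Z ≫ resTenCx φ X (Y ⊗ Z) := by
  refine HomologicalComplex.hom_ext _ _ fun n => ?_
  refine HomologicalComplex.mapBifunctor₁₂.hom_ext
    (F₁₂ := curriedTensor (ModuleCat.{u} R)) (G := curriedTensor (ModuleCat.{u} R))
    (c₁₂ := ComplexShape.up ℤ) fun i j k hijk => ?_
  have hn : i + j + k = n := hijk
  rw [HomologicalComplex.mapBifunctor₁₂.ι_eq _ _ _ _ _ _ _ i j k (i + j) n rfl hn]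
  refine ModuleCat.MonoidalCategory.tensor_ext₃' fun x y z => ?_
  show (α_ X Y Z).hom.f n ((resTenCx φ (X ⊗ Y) Z).f n ((resTenCx φ X Y ▷ (resCx φ).obj Z).f n
      (tm (((resCx φ).obj X) ⊗ ((resCx φ).obj Y)) ((resCx φ).obj Z) hn
        (tm ((resCx φ).obj X) ((resCx φ).obj Y) rfl (x ⊗ₜ y) ⊗ₜ z)))) =
    (resTenCx φ X (Y ⊗ Z)).f n (((resCx φ).obj X ◁ resTenCx φ Y Z).f n
      ((α_ ((resCx φ).obj X) ((resCx φ).obj Y) ((resCx φ).obj Z)).hom.f n
      (tm (((resCx φ).obj X) ⊗ ((resCx φ).obj Y)) ((resCx φ).obj Z) hn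
        (tm ((resCx φ).obj X) ((resCx φ).obj Y) rfl (x ⊗ₜ y) ⊗ₜ z))))
  have a1 : (resTenCx φ X Y ▷ (resCx φ).obj Z).f n
      (tm (((resCx φ).obj X) ⊗ ((resCx φ).obj Y)) ((resCx φ).obj Z) hn
        (tm ((resCx φ).obj X) ((resCx φ).obj Y) rfl (x ⊗ₜ y) ⊗ₜ z)) =
      tm ((resCx φ).obj (X ⊗ Y)) ((resCx φ).obj Z) hn
        (dn φ (X ⊗ Y) (tm X Y rfl (x ⊗ₜ y)) ⊗ₜ z) :=
    (tm_whiskerRight (resTenCx φ X Y) ((resCx φ).obj Z) hn _ z).trans
      (congrArg (fun w => tm ((resCx φ).obj (X ⊗ Y)) ((resCx φ).obj Z) hn (w ⊗ₜ z))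
        (resTenCx_tm φ X Y rfl x y))
  have a2 : (resTenCx φ (X ⊗ Y) Z).f n (tm ((resCx φ).obj (X ⊗ Y)) ((resCx φ).obj Z) hn
      (dn φ (X ⊗ Y) (tm X Y rfl (x ⊗ₜ y)) ⊗ₜ z)) =
      dn φ ((X ⊗ Y) ⊗ Z) (tm (X ⊗ Y) Z hn (tm X Y rfl (x ⊗ₜ y) ⊗ₜ z)) :=
    resTenCx_tm φ (X ⊗ Y) Z hn _ z
  have hb : i + (j + k) = n := by omega
  have a3 := tm_associator X Y Z (rfl : i + j = i + j) (rfl : j + k = j + k) hb hn x y z
  have b1 := tm_associator ((resCx φ).obj X) ((resCx φ).obj Y) ((resCx φ).obj Z)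
    (rfl : i + j = i + j) (rfl : j + k = j + k) hb hn x y z
  have b2 := (tm_whiskerLeft ((resCx φ).obj X) (resTenCx φ Y Z) hb x
      (tm ((resCx φ).obj Y) ((resCx φ).obj Z) rfl (y ⊗ₜ z))).trans
      (congrArg (fun w => tm ((resCx φ).obj X) ((resCx φ).obj (Y ⊗ Z)) hb (x ⊗ₜ w))
        (resTenCx_tm φ Y Z rfl y z))
  have b3 := resTenCx_tm φ X (Y ⊗ Z) hb x (tm Y Z rfl (y ⊗ₜ z))
  refine Eq.trans ((congrArg (fun w => (α_ X Y Z).hom.f n w)
    ((congrArg (fun w => (resTenCx φ (X ⊗ Y) Z).f n w) a1).trans a2)).trans a3) (Eq.symm ?_)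
  exact ((congrArg (fun w => (resTenCx φ X (Y ⊗ Z)).f n w)
    ((congrArg (fun w => ((resCx φ).obj X ◁ resTenCx φ Y Z).f n w) b1).trans b2)).trans b3)

theorem res_left_unitality (X : DRing.Cx S) :
    (λ_ ((resCx φ).obj X)).hom =
      resUnit φ ▷ (resCx φ).obj X ≫ resTenCx φ (𝟙_ (DRing.Cx S)) X ≫ (resCx φ).map (λ_ X).hom := by
  refine HomologicalComplex.hom_ext _ _ fun n => ?_
  refine mapBifunctor.hom_ext (F := curriedTensor (ModuleCat.{u} R)) fun i j h => ?_
  by_cases hi : i = 0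
  swap
  · refine IsZero.eq_of_src ?_ _ _
    exact Functor.map_isZero (tensorRight _)
      (isZero_single_obj_X (ComplexShape.up ℤ) 0 (𝟙_ (ModuleCat.{u} R)) i hi)
  subst hi
  have h' : 0 + j = n := h
  obtain rfl : j = n := by omega
  refine ModuleCat.MonoidalCategory.tensor_ext fun r x => ?_
  obtain ⟨r, rfl⟩ : ∃ r' : R, r = scal r' :=
    ⟨(singleObjXSelf (ComplexShape.up ℤ) 0 (𝟙_ (ModuleCat.{u} R))).hom.hom r,
      (Iso.hom_inv_id_apply _ r).symm⟩
  show (λ_ ((resCx φ).obj X)).hom.f j (tm (𝟙_ (DRing.Cx R)) ((resCx φ).obj X) h (scal r ⊗ₜ x)) =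
    (λ_ X).hom.f j ((resTenCx φ (𝟙_ (DRing.Cx S)) X).f j ((resUnit φ ▷ (resCx φ).obj X).f j
      (tm (𝟙_ (DRing.Cx R)) ((resCx φ).obj X) h (scal r ⊗ₜ x))))
  rw [tm_whiskerRight, resUnit_scal, leftUnitor_tm]
  erw [resTenCx_tm φ _ X h (scal (φ r)) x, leftUnitor_tm]
  rfl

theorem res_right_unitality (X : DRing.Cx S) :
    (ρ_ ((resCx φ).obj X)).hom =
      (resCx φ).obj X ◁ resUnit φ ≫ resTenCx φ X (𝟙_ (DRing.Cx S)) ≫ (resCx φ).map (ρ_ X).hom := by
  refine HomologicalComplex.hom_ext _ _ fun n => ?_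
  refine mapBifunctor.hom_ext (F := curriedTensor (ModuleCat.{u} R)) fun i j h => ?_
  by_cases hj : j = 0
  swap
  · refine IsZero.eq_of_src ?_ _ _
    exact Functor.map_isZero (tensorLeft _)
      (isZero_single_obj_X (ComplexShape.up ℤ) 0 (𝟙_ (ModuleCat.{u} R)) j hj)
  subst hj
  have h' : i + 0 = n := h
  obtain rfl : i = n := by omega
  refine ModuleCat.MonoidalCategory.tensor_ext fun x r => ?_
  obtain ⟨r, rfl⟩ : ∃ r' : R, r = scal r' :=
    ⟨(singleObjXSelf (ComplexShape.up ℤ) 0 (𝟙_ (ModuleCat.{u} R))).hom.hom r,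
      (Iso.hom_inv_id_apply _ r).symm⟩
  show (ρ_ ((resCx φ).obj X)).hom.f i (tm ((resCx φ).obj X) (𝟙_ (DRing.Cx R)) h (x ⊗ₜ scal r)) =
    (ρ_ X).hom.f i ((resTenCx φ X (𝟙_ (DRing.Cx S))).f i (((resCx φ).obj X ◁ resUnit φ).f i
      (tm ((resCx φ).obj X) (𝟙_ (DRing.Cx R)) h (x ⊗ₜ scal r))))
  rw [tm_whiskerLeft, resUnit_scal, rightUnitor_tm]
  erw [resTenCx_tm φ X _ h x (scal (φ r)), rightUnitor_tm]
  rfl

/-- Restriction of scalars of complexes is lax monoidal. -/
@[implicit_reducible]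
noncomputable def resLax : (resCx φ).LaxMonoidal where
  ε := resUnit φ
  μ X Y := resTenCx φ X Y
  μ_natural_left := resTenCx_natural_left φ
  μ_natural_right := fun W f => resTenCx_natural_right φ W f
  associativity := res_associativity φ
  left_unitality := res_left_unitality φ
  right_unitality := res_right_unitality φ

/-- Extension of scalars of complexes is left adjoint to restriction. -/
noncomputable def adj : extCx φ ⊣ resCx φ where
  unit := unitCx φ
  counit :=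
    { app := fun K =>
        { f := fun i => (ModuleCat.extendRestrictScalarsAdj.{u, u, u} φ).counit.app (K.X i)
          comm' := fun i j _ =>
            ((ModuleCat.extendRestrictScalarsAdj.{u, u, u} φ).counit.naturality (K.d i j)).symm }
      naturality := fun K L g => by
        ext i : 1
        exact (ModuleCat.extendRestrictScalarsAdj.{u, u, u} φ).counit.naturality (g.f i) }
  left_triangle_components := fun K => by
    ext i : 1
    exact (ModuleCat.extendRestrictScalarsAdj.{u, u, u} φ).left_triangle_components (K.X i)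
  right_triangle_components := fun K => by
    ext i : 1
    exact (ModuleCat.extendRestrictScalarsAdj.{u, u, u} φ).right_triangle_components (K.X i)

/-- Extension of scalars of complexes is oplax monoidal. -/
@[implicit_reducible]
noncomputable def extOplax : (extCx φ).OplaxMonoidal :=
  letI := resLax φ
  (adj φ).leftAdjointOplaxMonoidal

/-- The comparison map for extension of scalars of a tensor product. -/
noncomputable def delta (X Y : DRing.Cx R) :
    (extCx φ).obj (X ⊗ Y) ⟶ (extCx φ).obj X ⊗ (extCx φ).obj Y :=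
  ((adj φ).homEquiv _ _).symm (((unitCx φ).app X ⊗ₘ (unitCx φ).app Y) ≫ resTenCx φ _ _)

theorem unit_delta (X Y : DRing.Cx R) :
    (unitCx φ).app (X ⊗ Y) ≫ (resCx φ).map (delta φ X Y) =
      ((unitCx φ).app X ⊗ₘ (unitCx φ).app Y) ≫ resTenCx φ _ _ :=
  ((adj φ).homEquiv_unit _ _ _).symm.trans (Equiv.apply_symm_apply _ _)

/-- Maps out of an extension of a tensor product are determined on the summands. -/
theorem ext_hom_ext {X Y : DRing.Cx R} {n : ℤ} {M : ModuleCat.{u} S}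
    {f g : ((extCx φ).obj (X ⊗ Y)).X n ⟶ M}
    (h : ∀ (p q : ℤ) (hpq : p + q = n),
      (ModuleCat.extendScalars.{u, u, u} φ).map (ιTensorObj X Y p q n hpq) ≫ f =
        (ModuleCat.extendScalars.{u, u, u} φ).map (ιTensorObj X Y p q n hpq) ≫ g) : f = g := by
  apply ((ModuleCat.extendRestrictScalarsAdj.{u, u, u} φ).homEquiv _ _).injective
  refine HomologicalComplex.mapBifunctor.hom_ext fun p q hpq => ?_
  refine Eq.trans ?_ ((congrArg ((ModuleCat.extendRestrictScalarsAdj.{u, u, u} φ).homEquiv _ _)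
    (h p q hpq)).trans ?_)
  · exact (Adjunction.homEquiv_naturality_left (ModuleCat.extendRestrictScalarsAdj.{u, u, u} φ)
      (ιTensorObj X Y p q n hpq) f).symm
  · exact Adjunction.homEquiv_naturality_left (ModuleCat.extendRestrictScalarsAdj.{u, u, u} φ)
      (ιTensorObj X Y p q n hpq) g

theorem map_ι_delta (X Y : DRing.Cx R) (p q n : ℤ) (h : p + q = n) :
    (ModuleCat.extendScalars.{u, u, u} φ).map (ιTensorObj X Y p q n h) ≫ (delta φ X Y).f n =
      Functor.OplaxMonoidal.δ (ModuleCat.extendScalars.{u, u, u} φ) (X.X p) (Y.X q) ≫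
        ιTensorObj ((extCx φ).obj X) ((extCx φ).obj Y) p q n h := by
  apply ((ModuleCat.extendRestrictScalarsAdj.{u, u, u} φ).homEquiv _ _).injective
  rw [Adjunction.homEquiv_naturality_left, Adjunction.homEquiv_unit, Adjunction.homEquiv_unit]
  refine ModuleCat.MonoidalCategory.tensor_ext fun x y => ?_
  have h1 := LinearMap.congr_fun (congrArg ModuleCat.Hom.hom
    (congrArg (fun g => g.f n) (unit_delta φ X Y))) (tm X Y h (x ⊗ₜ y))
  refine h1.trans ?_
  show (resTenCx φ ((extCx φ).obj X) ((extCx φ).obj Y)).f n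
    ((((unitCx φ).app X ⊗ₘ (unitCx φ).app Y)).f n (tm X Y h (x ⊗ₜ y))) = _
  rw [tensorHom_def, HomologicalComplex.comp_f]
  show (resTenCx φ ((extCx φ).obj X) ((extCx φ).obj Y)).f n
    (((resCx φ).obj ((extCx φ).obj X) ◁ (unitCx φ).app Y).f n
      (((unitCx φ).app X ▷ Y).f n (tm X Y h (x ⊗ₜ y)))) = _
  have c1 := tm_whiskerRight ((unitCx φ).app X) Y h x y
  have c2 := tm_whiskerLeft ((resCx φ).obj ((extCx φ).obj X)) ((unitCx φ).app Y) h
    (((unitCx φ).app X).f p x) y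
  have c3 := resTenCx_tm φ ((extCx φ).obj X) ((extCx φ).obj Y) h
    (((unitCx φ).app X).f p x) (((unitCx φ).app Y).f q y)
  refine ((congrArg (fun w => (resTenCx φ ((extCx φ).obj X) ((extCx φ).obj Y)).f n w)
    ((congrArg (fun w => ((resCx φ).obj ((extCx φ).obj X) ◁ (unitCx φ).app Y).f n w) c1).trans
      c2)).trans c3).trans ?_
  rfl

/-- Extension of scalars commutes with tensor products of complexes. -/
theorem isIso_delta (X Y : DRing.Cx R) : IsIso (delta φ X Y) := by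
  have hf : ∀ n, IsIso ((delta φ X Y).f n) := fun n => by
    refine ⟨mapBifunctorDesc (fun p q h =>
      Functor.LaxMonoidal.μ (ModuleCat.extendScalars.{u, u, u} φ) (X.X p) (Y.X q) ≫
        (ModuleCat.extendScalars.{u, u, u} φ).map (ιTensorObj X Y p q n h)), ?_, ?_⟩
    · refine ext_hom_ext φ fun p q h => ?_
      rw [reassoc_of% (map_ι_delta φ X Y p q n h)]
      erw [ι_mapBifunctorDesc]
      rw [← Category.assoc, Functor.Monoidal.δ_μ, Category.id_comp]
      exact (Category.comp_id _).symm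
    · refine mapBifunctor.hom_ext fun p q h => ?_
      rw [ι_mapBifunctorDesc_assoc, Category.assoc]
      erw [map_ι_delta φ X Y p q n h]
      rw [← Category.assoc, Functor.Monoidal.μ_δ]
      exact (Category.id_comp _).trans (Category.comp_id _).symm
  exact HomologicalComplex.Hom.isIso_of_components _

/-- The comparison map for extension of scalars of the unit. -/
noncomputable def eta : (extCx φ).obj (𝟙_ (DRing.Cx R)) ⟶ 𝟙_ (DRing.Cx S) :=
  ((adj φ).homEquiv _ _).symm (resUnit φ)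

theorem unit_eta : (unitCx φ).app (𝟙_ (DRing.Cx R)) ≫ (resCx φ).map (eta φ) = resUnit φ :=
  ((adj φ).homEquiv_unit _ _ _).symm.trans (Equiv.apply_symm_apply _ _)

theorem eta_f_zero :
    (eta φ).f 0 = (ModuleCat.extendScalars.{u, u, u} φ).map
        (singleObjXSelf (ComplexShape.up ℤ) 0 (𝟙_ (ModuleCat.{u} R))).hom ≫
      Functor.OplaxMonoidal.η (ModuleCat.extendScalars.{u, u, u} φ) ≫
        (singleObjXSelf (ComplexShape.up ℤ) 0 (𝟙_ (ModuleCat.{u} S))).inv := by
  apply ((ModuleCat.extendRestrictScalarsAdj.{u, u, u} φ).homEquiv _ _).injective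
  rw [Adjunction.homEquiv_unit, Adjunction.homEquiv_unit]
  refine ModuleCat.hom_ext (LinearMap.ext fun r => ?_)
  obtain ⟨r, rfl⟩ : ∃ r' : R, r = scal r' :=
    ⟨(singleObjXSelf (ComplexShape.up ℤ) 0 (𝟙_ (ModuleCat.{u} R))).hom.hom r,
      (Iso.hom_inv_id_apply _ r).symm⟩
  have h1 := LinearMap.congr_fun (congrArg ModuleCat.Hom.hom
    (congrArg (fun g => g.f 0) (unit_eta φ))) (scal r)
  refine h1.trans ((resUnit_scal φ r).trans ?_)
  algebraize [φ]
  show scal (φ r) = (singleObjXSelf (ComplexShape.up ℤ) 0 (𝟙_ (ModuleCat.{u} S))).inv.hom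
    ((Functor.OplaxMonoidal.η (ModuleCat.extendScalars.{u, u, u} φ)).hom ((1 : S) ⊗ₜ[R]
      ((singleObjXSelf (ComplexShape.up ℤ) 0 (𝟙_ (ModuleCat.{u} R))).hom.hom (scal r))))
  erw [Iso.inv_hom_id_apply, ModuleCat.extendScalars_η]
  refine congrArg (fun s : S => scal s) ?_
  exact ((TensorProduct.AlgebraTensorModule.rid_tmul (R := R) (A := S) r (1 : S)).trans
    (Algebra.algebraMap_eq_smul_one (R := R) (A := S) r).symm).symm

theorem isIso_eta : IsIso (eta φ) := by
  have hf : ∀ n, IsIso ((eta φ).f n) := fun n => by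
    by_cases hn : n = 0
    · subst hn
      rw [eta_f_zero]
      infer_instance
    · exact isIso_of_source_target_iso_zero _
        (Functor.map_isZero (ModuleCat.extendScalars.{u, u, u} φ)
          (isZero_single_obj_X (ComplexShape.up ℤ) 0 (𝟙_ (ModuleCat.{u} R)) n hn)).isoZero
        (isZero_single_obj_X (ComplexShape.up ℤ) 0 (𝟙_ (ModuleCat.{u} S)) n hn).isoZero
  exact HomologicalComplex.Hom.isIso_of_components _

/-- Extension of scalars of complexes is monoidal. -/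
@[implicit_reducible]
noncomputable def extMonoidal : (extCx φ).Monoidal :=
  letI := extOplax φ
  haveI : IsIso (Functor.OplaxMonoidal.η (extCx φ)) := isIso_eta φ
  haveI : ∀ X Y, IsIso (Functor.OplaxMonoidal.δ (extCx φ) X Y) := isIso_delta φ
  Functor.Monoidal.ofOplaxMonoidal (extCx φ)

theorem extMonoidal_δ (X Y : DRing.Cx R) :
    letI := extMonoidal φ
    Functor.OplaxMonoidal.δ (extCx φ) X Y = delta φ X Y := by
  let _ := extOplax φ
  have : IsIso (Functor.OplaxMonoidal.η (extCx φ)) := isIso_eta φ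
  have : ∀ X Y, IsIso (Functor.OplaxMonoidal.δ (extCx φ) X Y) := isIso_delta φ
  rfl

end Groth.DTenCalc.Ext
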