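import Groth.Agent.DTenCalc.PerfectAlgebra
import Groth.Agent.DAlg.LeftDerived

/-!
The hypotheses on derived change of rings hold.
-/

universe u

open CategoryTheory CategoryTheory.Limits MonoidalCategory HomologicalComplex DTen
open Groth.DAlg.KFlatMod
attribute [local instance] HasDerivedCategory.standard

set_option backward.isDefEq.respectTransparency false

namespace Groth.DTenCalc

variable {R S : Type u} [CommRing R] [CommRing S] (φ : R →+* S)

theorem hasLBase : DTen.HasLBase φ :=
  haveI := Groth.DAlg.hasLBaseChange φ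
  ⟨(Groth.DAlg.lBaseChangeAdj φ).isRightAdjoint⟩

theorem quasiIso_resCx_map {Y Z : DRing.Cx S} (f : Y ⟶ Z) (hf : QuasiIso f) :
    QuasiIso ((resCx φ).map f) := by
  infer_instance

theorem isIso_resTen₂_map {K K' L L' : DRing.Cx S} (f : K ⟶ K') (g : L ⟶ L') (hf : QuasiIso f)
    (hg : QuasiIso g) (hL : IsKFlatCx S L) (hK' : IsKFlatCx S K') :
    IsIso ((resTen₂ φ).map (Prod.mkHom f g)) :=
  (DerivedCategory.isIso_Q_map_iff_quasiIso _ _).2
    (quasiIso_resCx_map φ _ (quasiIso_tensorT_map f g hL hK'))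

theorem resRes_inverted :
    (qis₂ S).IsInvertedBy ((resFunctor S).prod (resFunctor S) ⋙ resTen₂ φ) :=
  fun _ _ f hf => isIso_resTen₂_map φ ((resFunctor S).map f.1) ((resFunctor S).map f.2)
    (qis_res_map f.1 hf.1) (qis_res_map f.2 hf.2) (res_kFlat _) (res_kFlat _)

theorem resRes_res (X : DRing.Cx S × DRing.Cx S) :
    IsIso ((resTen₂ φ).map ((NatTrans.prod (resAug S) (resAug S)).app
      (((resFunctor S).prod (resFunctor S)).obj X))) :=
  isIso_resTen₂_map φ ((resAug S).app ((resFunctor S).obj X.1))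
    ((resAug S).app ((resFunctor S).obj X.2)) (resAug_quasiIso _) (resAug_quasiIso _) (res_kFlat _)
    (res_kFlat _)

theorem hasResTen : DTen.HasResTen φ :=
  hasLeftDerivedFunctor_of_resolution (QQ S) (qis₂ S) (resTen₂ φ)
    ((resFunctor S).prod (resFunctor S)) (NatTrans.prod (resAug S) (resAug S))
    (fun X => ⟨qis_res X.1, qis_res X.2⟩) (resRes_inverted φ) (resRes_res φ)

theorem resLegIso [HasLTen S] [HasResTen φ] : DTen.ResLegIso φ := by
  refine ⟨(NatTrans.isIso_iff_isIso_app _).2 fun X => ?_⟩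
  obtain ⟨K, hK, ⟨eK⟩⟩ := exists_kFlat_rep X.1
  obtain ⟨L, hL, ⟨eL⟩⟩ := exists_kFlat_rep X.2
  refine isIso_app_of_iso _ (Iso.prod eK eL) ?_
  have := isIso_ε K L hK
  have : IsIso ((εRes φ).app (K, L)) :=
    isIso_counit_of_resolution (QQ S) (qis₂ S) (resTen₂ φ)
      ((resFunctor S).prod (resFunctor S)) (NatTrans.prod (resAug S) (resAug S))
      (fun X => ⟨qis_res X.1, qis_res X.2⟩) (resRes_inverted φ) (resRes_res φ)
      (K, L) (isIso_resTen₂_map φ ((resAug S).app K) ((resAug S).app L) (resAug_quasiIso _)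
        (resAug_quasiIso _) (res_kFlat _) hK)
  have h : IsIso ((resLegB φ).app ((QQ S).obj (K, L)) ≫ (εRes φ).app (K, L)) := by
    rw [resLegB_fac]
    change IsIso ((DRing.restrictD φ).map ((ε S).app (K, L)) ≫
      (resFactors φ).hom.app ((tensorT S).obj (K, L)))
    infer_instance
  exact (isIso_comp_right_iff _ ((εRes φ).app (K, L))).1 h

end Groth.DTenCalc
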