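import Groth.Agent.DTenCalc.StrictDual
import Groth.Agent.DAlg.PerfectDual
import Groth.Agent.DerivedCoh.KInj.Products
import Mathlib.Algebra.Homology.BifunctorHomotopy

/-!
The Hom complex as an internal Hom for the tensor product of complexes.
-/

universe u

open CategoryTheory CategoryTheory.Limits HomologicalComplex MonoidalCategory
open CochainComplex CochainComplex.HomComplex
open scoped TensorProduct

set_option backward.isDefEq.respectTransparency false

namespace Groth.DTenCalc.InternalHom

open Groth.DTenCalc.StrictDual (tm d_tm tm_whiskerRight tm_whiskerLeft)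

variable {A : Type u} [CommRing A]

/-- A component of a cochain, as a linear map on cochains. -/
noncomputable def appLin (Y Z : DRing.Cx A) {p q n : ℤ} (h : q + p = n) :
    Cochain Y Z p →ₗ[A] Y.X q →ₗ[A] Z.X n where
  toFun z := (z.v q n h).hom
  map_add' z z' := by rw [Cochain.add_v, ModuleCat.hom_add]
  map_smul' a z := by rw [Cochain.smul_v, ModuleCat.hom_smul]; rfl

/-- Evaluation on a summand. -/
noncomputable def evTerm (Y Z : DRing.Cx A) (p q n : ℤ) (h : p + q = n) :
    (DRing.homCx Y Z).X p ⊗[A] Y.X q →ₗ[A] Z.X n :=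
  TensorProduct.lift (appLin Y Z (show q + p = n by omega))

theorem evTerm_tmul {Y Z : DRing.Cx A} {p q n : ℤ} {h : p + q = n} (z : Cochain Y Z p) (y : Y.X q) :
    evTerm Y Z p q n h (z ⊗ₜ y) = z.v q n (by omega) y := rfl

/-- Evaluation in one degree. -/
noncomputable def evAt (Y Z : DRing.Cx A) (n : ℤ) : (DRing.homCx Y Z ⊗ Y : DRing.Cx A).X n ⟶ Z.X n :=
  mapBifunctorDesc fun p q h => ModuleCat.ofHom (evTerm Y Z p q n h)

theorem evAt_tm (Y Z : DRing.Cx A) {p q n : ℤ} (h : p + q = n)
    (t : (DRing.homCx Y Z).X p ⊗[A] Y.X q) :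
    evAt Y Z n (tm (DRing.homCx Y Z) Y h t) = evTerm Y Z p q n h t :=
  LinearMap.congr_fun (congrArg ModuleCat.Hom.hom (ι_mapBifunctorDesc
    (K₁ := DRing.homCx Y Z) (K₂ := Y) (F := curriedTensor (ModuleCat.{u} A))
    (c := ComplexShape.up ℤ) (fun p q h => ModuleCat.ofHom (evTerm Y Z p q n h)) p q h)) t

/-- The differential of a value of a cochain. -/
theorem δ_v_apply {Y Z : DRing.Cx A} {p p' : ℤ} (hp : p + 1 = p') (z : Cochain Y Z p) (q q' r r' : ℤ)
    (h : q + p = r) (hq : q + 1 = q') (hr : r + 1 = r') (y : Y.X q) :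
    (δ p p' z).v q r' (by omega) y =
      Z.d r r' (z.v q r h y) - (p.negOnePow : ℤ) • z.v q' r' (by omega) (Y.d q q' y) := by
  subst hp
  rw [δ_v p (p + 1) rfl z q r' (by omega) r q' (by omega) hq, Int.negOnePow_succ]
  show Z.d r r' (z.v q r h y) +
    ((-p.negOnePow : ℤˣ) • (z.v q' r' (by omega)).hom.comp (Y.d q q').hom) y = _
  rw [Units.neg_smul, sub_eq_add_neg]
  rfl

/-- Evaluation of the Hom complex. -/
noncomputable def evC (Y Z : DRing.Cx A) : DRing.homCx Y Z ⊗ Y ⟶ Z where
  f := evAt Y Z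
  comm' n n' hn := by
    change n + 1 = n' at hn
    refine mapBifunctor.hom_ext (F := curriedTensor (ModuleCat.{u} A)) fun p q h => ?_
    change p + q = n at h
    refine ModuleCat.MonoidalCategory.tensor_ext fun (z : Cochain Y Z p) y => ?_
    show Z.d n n' (evAt Y Z n (tm (DRing.homCx Y Z) Y h (z ⊗ₜ y))) =
      evAt Y Z n' ((DRing.homCx Y Z ⊗ Y : DRing.Cx A).d n n' (tm (DRing.homCx Y Z) Y h (z ⊗ₜ y)))
    rw [d_tm (DRing.homCx Y Z) Y h n' (p + 1) (q + 1) hn rfl rfl, map_add, map_zsmul, evAt_tm,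
      evAt_tm, evAt_tm]
    erw [evTerm_tmul, evTerm_tmul, evTerm_tmul]
    show _ = (δ p (p + 1) z).v q n' (show q + (p + 1) = n' by omega) y + _
    rw [δ_v_apply rfl z q (q + 1) n n' (by omega) rfl hn]
    exact (sub_add_cancel _ _).symm
    all_goals exact h

theorem evC_tm {Y Z : DRing.Cx A} {p q n : ℤ} (h : p + q = n) (z : Cochain Y Z p) (y : Y.X q) :
    (evC Y Z).f n (tm (DRing.homCx Y Z) Y h (z ⊗ₜ[A] y)) = z.v q n (by omega) y :=
  evAt_tm Y Z h _

/-- The cochain given by tensoring with an element. -/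
noncomputable def insLin (X Y : DRing.Cx A) (p : ℤ) :
    X.X p →ₗ[A] Cochain Y (X ⊗ Y) p where
  toFun x := Cochain.mk fun q r h =>
    ModuleCat.ofHom ((tm X Y (show p + q = r by omega)).comp (TensorProduct.mk A _ _ x))
  map_add' x x' := by
    ext q r h : 1
    rw [Cochain.add_v, Cochain.mk_v, Cochain.mk_v, Cochain.mk_v, map_add, LinearMap.comp_add]
    rfl
  map_smul' a x := by
    ext q r h : 1
    rw [Cochain.smul_v, Cochain.mk_v, Cochain.mk_v, map_smul, LinearMap.comp_smul]
    rfl

theorem insLin_v {X Y : DRing.Cx A} {p q r : ℤ} (h : q + p = r) (x : X.X p) (y : Y.X q) :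
    (insLin X Y p x).v q r h y = tm X Y (show p + q = r by omega) (x ⊗ₜ y) := rfl

/-- Coevaluation of the Hom complex. -/
noncomputable def coevC (X Y : DRing.Cx A) : X ⟶ DRing.homCx Y (X ⊗ Y) where
  f p := ModuleCat.ofHom (insLin X Y p)
  comm' p p' hp := by
    change p + 1 = p' at hp
    refine ModuleCat.hom_ext (LinearMap.ext fun x => ?_)
    show δ p p' (insLin X Y p x) = insLin X Y p' (X.d p p' x)
    refine Cochain.ext _ _ fun q r h => ModuleCat.hom_ext (LinearMap.ext fun y => ?_)
    rw [δ_v_apply hp (insLin X Y p x) q (q + 1) (r - 1) r (by omega) rfl (by omega)]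
    rw [insLin_v, insLin_v, insLin_v, d_tm X Y _ r p' (q + 1) (by omega) hp rfl, add_sub_cancel_right]

/-- Tensoring and the Hom complex are adjoint. -/
noncomputable def adjC (Y : DRing.Cx A) :
    MonoidalCategory.tensorRight Y ⊣ DRing.homCxFunctor Y :=
  Adjunction.mkOfUnitCounit
    { unit :=
        { app := fun X => coevC X Y
          naturality := fun X X' f => by
            refine HomologicalComplex.hom_ext _ _ fun p => ModuleCat.hom_ext (LinearMap.ext fun x => ?_)
            refine Cochain.ext _ _ fun q r h => ModuleCat.hom_ext (LinearMap.ext fun y => ?_)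
            show tm X' Y _ (f.f p x ⊗ₜ y) =
              ((insLin X Y p x).comp (Cochain.ofHom (f ▷ Y)) (add_zero p)).v q r h y
            rw [Cochain.comp_zero_cochain_v, Cochain.ofHom_v, ModuleCat.comp_apply, insLin_v,
              tm_whiskerRight] }
      counit :=
        { app := fun Z => evC Y Z
          naturality := fun Z Z' g => by
            refine HomologicalComplex.hom_ext _ _ fun n => ?_
            refine mapBifunctor.hom_ext (F := curriedTensor (ModuleCat.{u} A)) fun p q h => ?_
            refine ModuleCat.MonoidalCategory.tensor_ext fun (z : Cochain Y Z p) y => ?_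
            show (evC Y Z').f n ((DRing.homCxMap Y g ▷ Y).f n
              (tm (DRing.homCx Y Z) Y h (z ⊗ₜ y))) =
              g.f n ((evC Y Z).f n (tm (DRing.homCx Y Z) Y h (z ⊗ₜ y)))
            rw [tm_whiskerRight]
            erw [evC_tm h, evC_tm h]
            show (z.comp (Cochain.ofHom g) (add_zero p)).v q n _ y = _
            rw [Cochain.comp_zero_cochain_v, Cochain.ofHom_v]
            rfl }
      left_triangle := by
        ext X : 2
        refine HomologicalComplex.hom_ext _ _ fun n => ?_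
        refine mapBifunctor.hom_ext (F := curriedTensor (ModuleCat.{u} A)) fun p q h => ?_
        refine ModuleCat.MonoidalCategory.tensor_ext fun x y => ?_
        show (evC Y (X ⊗ Y)).f n ((coevC X Y ▷ Y).f n (tm X Y h (x ⊗ₜ y))) = tm X Y h (x ⊗ₜ y)
        rw [tm_whiskerRight]
        exact (evC_tm h (insLin X Y p x) y).trans (insLin_v _ x y)
      right_triangle := by
        ext Z : 2
        refine HomologicalComplex.hom_ext _ _ fun p =>
          ModuleCat.hom_ext (LinearMap.ext fun (z : Cochain Y Z p) => ?_)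
        refine Cochain.ext _ _ fun q r h => ModuleCat.hom_ext (LinearMap.ext fun y => ?_)
        show ((insLin (DRing.homCx Y Z) Y p z).comp (Cochain.ofHom (evC Y Z)) (add_zero p)).v q r h y =
          z.v q r h y
        rw [Cochain.comp_zero_cochain_v, Cochain.ofHom_v, ModuleCat.comp_apply, insLin_v]
        exact evC_tm _ z y }

theorem adjC_symm_apply {X Y Z : DRing.Cx A} (f : X ⟶ DRing.homCx Y Z) :
    ((adjC Y).homEquiv X Z).symm f = f ▷ Y ≫ evC Y Z :=
  Adjunction.homEquiv_counit _ _ _ _

/-- The adjunction respects homotopies. -/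
theorem nonempty_homotopy_iff {X Y Z : DRing.Cx A} (f g : X ⟶ DRing.homCx Y Z) :
    Nonempty (Homotopy (f ▷ Y ≫ evC Y Z) (g ▷ Y ≫ evC Y Z)) ↔ Nonempty (Homotopy f g) := by
  constructor
  · rintro ⟨h⟩
    have h' := (Groth.DAlg.RHomCx.homCxHomotopy Y h).compLeft (coevC X Y)
    have e : ∀ k : X ⟶ DRing.homCx Y Z, coevC X Y ≫ DRing.homCxMap Y (k ▷ Y ≫ evC Y Z) = k :=
      fun k => by
        refine Eq.trans ?_ (Equiv.apply_symm_apply ((adjC Y).homEquiv X Z) k)
        rw [adjC_symm_apply, Adjunction.homEquiv_unit]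
        rfl
    exact ⟨(Homotopy.ofEq (e f).symm).trans (h'.trans (Homotopy.ofEq (e g)))⟩
  · rintro ⟨h⟩
    exact ⟨(mapBifunctorMapHomotopy₁ h (𝟙 Y) (curriedTensor (ModuleCat.{u} A))
      (ComplexShape.up ℤ)).compRight (evC Y Z)⟩

end Groth.DTenCalc.InternalHom
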