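import Groth.Prelude.Def_DTen3
import Groth.Agent.DTenCalc.Computes
import Groth.Agent.DAlg.KFlat

/-!
The structure maps of the derived tensor product are isomorphisms.
-/

universe u

open CategoryTheory CategoryTheory.Limits MonoidalCategory HomologicalComplex DTen
open Groth.DAlg.KFlatMod
attribute [local instance] HasDerivedCategory.standard

namespace Groth.DTenCalc

variable {A : Type u} [CommRing A]

theorem hasLTen₃ : DTen.HasLTen₃ A :=
  hasLeftDerivedFunctor_of_resolution (QQQ A) (qis₃ A) (tensor₃ A)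
    ((resFunctor A).prod ((resFunctor A).prod (resFunctor A)))
    (NatTrans.prod (resAug A) (NatTrans.prod (resAug A) (resAug A)))
    (fun X => ⟨qis_res X.1, qis_res X.2.1, qis_res X.2.2⟩)
    (fun _ _ f hf => isIso_tensor₃_map ((resFunctor A).map f.1) ((resFunctor A).map f.2.1)
      ((resFunctor A).map f.2.2) (qis_res_map f.1 hf.1) (qis_res_map f.2.1 hf.2.1)
      (qis_res_map f.2.2 hf.2.2) (res_kFlat _) (res_kFlat _) (res_kFlat _) (res_kFlat _))
    (fun X => isIso_tensor₃_map ((resAug A).app ((resFunctor A).obj X.1))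
      ((resAug A).app ((resFunctor A).obj X.2.1)) ((resAug A).app ((resFunctor A).obj X.2.2))
      (Groth.DAlg.KFlatMod.resAug_quasiIso _) (Groth.DAlg.KFlatMod.resAug_quasiIso _)
      (Groth.DAlg.KFlatMod.resAug_quasiIso _) (res_kFlat _) (res_kFlat _) (res_kFlat _) (res_kFlat _))

variable (A) in
/-- The unit complex is K-flat. -/
theorem isKFlat_unit : IsKFlatCx A (𝟙_ (DRing.Cx A)) :=
  Groth.DAlg.KFlatMod.isKFlatCx_of_flat _ (b := 0)
    (fun i hi => isZero_single_obj_X (ComplexShape.up ℤ) 0 (𝟙_ (ModuleCat.{u} A)) i (by omega))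
    fun i => by
      by_cases hi : i = 0
      · subst hi
        exact Module.Flat.of_linearEquiv
          (singleObjXSelf (ComplexShape.up ℤ) 0 (𝟙_ (ModuleCat.{u} A))).toLinearEquiv
      · have := ModuleCat.subsingleton_of_isZero
          (isZero_single_obj_X (ComplexShape.up ℤ) 0 (𝟙_ (ModuleCat.{u} A)) i hi)
        infer_instance

/-- The derived tensor product is computed by a K-flat second factor. -/
theorem isIso_ε_right [HasLTen A] (K L : DRing.Cx A) (hL : IsKFlatCx A L) :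
    IsIso ((ε A).app (K, L)) := by
  refine isIso_counit_of_resolution (QQ A) (qis₂ A) (tensor₂ A)
    ((resFunctor A).prod (resFunctor A)) (NatTrans.prod (resAug A) (resAug A))
    (fun X => ⟨qis_res X.1, qis_res X.2⟩) res₂_inverted res₂_res (K, L) ?_
  let f : (resFunctor A).obj K ⟶ K := (resAug A).app K
  let g : (resFunctor A).obj L ⟶ L := (resAug A).app L
  have : QuasiIso f := Groth.DAlg.KFlatMod.resAug_quasiIso K
  have : QuasiIso g := Groth.DAlg.KFlatMod.resAug_quasiIso L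
  have h1 := quasiIso_whiskerLeft_of_kFlat (res_kFlat K) g
  have h2 : QuasiIso (f ▷ L) := quasiIso_whiskerRight hL f
  refine (DerivedCategory.isIso_Q_map_iff_quasiIso _ _).2 ?_
  change QuasiIso (f ▷ ((resFunctor A).obj L) ≫ K ◁ g)
  rw [← whisker_exchange]
  infer_instance

theorem isIso_symm_app [HasLTen A] (X : Dual.D A × Dual.D A) : IsIso ((symm A).app X) := by
  obtain ⟨K, hK, ⟨eK⟩⟩ := exists_kFlat_rep X.1
  obtain ⟨L, hL, ⟨eL⟩⟩ := exists_kFlat_rep X.2
  refine isIso_app_of_iso _ (Iso.prod eK eL) ?_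
  have := isIso_ε K L hK
  have := isIso_ε L K hL
  have h : IsIso ((symm A).app (DerivedCategory.Q.obj K, DerivedCategory.Q.obj L) ≫ (ε A).app (K, L)) := by
    rw [symm_fac]; infer_instance
  exact (isIso_comp_right_iff _ ((ε A).app (K, L))).1 h

theorem isIso_unitL_app [HasLTen A] (X : Dual.D A) : IsIso ((unitL A).app X) := by
  obtain ⟨L, hL, ⟨eL⟩⟩ := exists_kFlat_rep X
  refine isIso_app_of_iso _ eL ?_
  have := isIso_ε_right (𝟙_ (DRing.Cx A)) L hL
  rw [unitL_app]
  infer_instance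

theorem isIso_unitR_app [HasLTen A] (X : Dual.D A) : IsIso ((unitR A).app X) := by
  obtain ⟨L, hL, ⟨eL⟩⟩ := exists_kFlat_rep X
  refine isIso_app_of_iso _ eL ?_
  have := isIso_ε L (𝟙_ (DRing.Cx A)) hL
  rw [unitR_app]
  infer_instance

theorem isIso_assocR_app [HasLTen A] [HasLTen₃ A] (X : Dual.D A × (Dual.D A × Dual.D A)) :
    IsIso ((assocR A).app X) := by
  obtain ⟨K, hK, ⟨eK⟩⟩ := exists_kFlat_rep X.1
  obtain ⟨L, hL, ⟨eL⟩⟩ := exists_kFlat_rep X.2.1
  obtain ⟨M, hM, ⟨eM⟩⟩ := exists_kFlat_rep X.2.2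
  refine isIso_app_of_iso _ (Iso.prod eK (Iso.prod eL eM)) ?_
  have := isIso_ε L M hL
  have := isIso_ε K (L ⊗ M) hK
  have := isIso_ε₃ K L M hK hL
  have h : IsIso ((assocR A).app ((QQQ A).obj (K, (L, M))) ≫ (ε₃ A).app (K, (L, M))) := by
    rw [assocR_fac]
    change IsIso ((LTen₂ A).map (Prod.mkHom (𝟙 (DerivedCategory.Q.obj K)) ((ε A).app (L, M))) ≫
      (ε A).app (K, L ⊗ M))
    infer_instance
  exact (isIso_comp_right_iff _ ((ε₃ A).app (K, (L, M)))).1 h

theorem isIso_assocL_app [HasLTen A] [HasLTen₃ A] (X : Dual.D A × (Dual.D A × Dual.D A)) :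
    IsIso ((assocL A).app X) := by
  obtain ⟨K, hK, ⟨eK⟩⟩ := exists_kFlat_rep X.1
  obtain ⟨L, hL, ⟨eL⟩⟩ := exists_kFlat_rep X.2.1
  obtain ⟨M, hM, ⟨eM⟩⟩ := exists_kFlat_rep X.2.2
  refine isIso_app_of_iso _ (Iso.prod eK (Iso.prod eL eM)) ?_
  have := isIso_ε K L hK
  have := isIso_ε (K ⊗ L) M (isKFlat_tensor hK hL)
  have := isIso_ε₃ K L M hK hL
  have h : IsIso ((assocL A).app ((QQQ A).obj (K, (L, M))) ≫ (ε₃ A).app (K, (L, M))) := by
    rw [assocL_fac]
    change IsIso ((LTen₂ A).map (Prod.mkHom ((ε A).app (K, L)) (𝟙 (DerivedCategory.Q.obj M))) ≫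
      (ε A).app (K ⊗ L, M) ≫ DerivedCategory.Q.map (α_ K L M).hom)
    infer_instance
  exact (isIso_comp_right_iff _ ((ε₃ A).app (K, (L, M)))).1 h

/-- The five structure maps are invertible. -/
theorem isSymMonoidal [HasLTen A] [HasLTen₃ A] : DTen.IsSymMonoidal A where
  isIso_symm := (NatTrans.isIso_iff_isIso_app _).2 isIso_symm_app
  isIso_unitL := (NatTrans.isIso_iff_isIso_app _).2 isIso_unitL_app
  isIso_unitR := (NatTrans.isIso_iff_isIso_app _).2 isIso_unitR_app
  isIso_assocL := (NatTrans.isIso_iff_isIso_app _).2 isIso_assocL_app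
  isIso_assocR := (NatTrans.isIso_iff_isIso_app _).2 isIso_assocR_app

end Groth.DTenCalc
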