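import Groth.Agent.DTenCalc.ExtMonoidal
import Groth.Agent.DTenCalc.SymMonoidal
import Groth.Agent.DTenCalc.Dualizable
import Groth.Agent.KTheory.BaseCmpKFlat

/-!
The projection formula for restriction of scalars, and base change of internal homs.
-/

universe u

open CategoryTheory CategoryTheory.Limits MonoidalCategory HomologicalComplex DTen
open scoped TensorProduct
open Groth.DAlg.KFlatMod (IsKFlatCx)
open Groth.DTenCalc.StrictDual (tm)
attribute [local instance] HasDerivedCategory.standard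

set_option backward.isDefEq.respectTransparency false

namespace Groth.DTenCalc

variable {R S : Type u} [CommRing R] [CommRing S] (φ : R →+* S)

section Chain

/-- The projection formula map on modules. -/
noncomputable def pfMod (M : ModuleCat.{u} S) (X : ModuleCat.{u} R) :
    (resM φ).obj M ⊗ X ⟶ (resM φ).obj (M ⊗ (ModuleCat.extendScalars.{u, u, u} φ).obj X) :=
  ((resM φ).obj M ◁ (ModuleCat.extendRestrictScalarsAdj.{u, u, u} φ).unit.app X) ≫
    resTen₀app φ M ((ModuleCat.extendScalars.{u, u, u} φ).obj X)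

theorem isIso_pfMod (M : ModuleCat.{u} S) (X : ModuleCat.{u} R) : IsIso (pfMod φ M X) := by
  algebraize [φ]
  let _ : Module R M := Module.compHom M (algebraMap R S)
  have : IsScalarTower R S M := .of_algebraMap_smul fun _ _ => rfl
  rw [ConcreteCategory.isIso_iff_bijective]
  let e := TensorProduct.AlgebraTensorModule.cancelBaseChange R S S M X
  have h : ∀ t : M ⊗[R] X, (pfMod φ M X).hom t = e.symm t := fun t => by
    induction t using TensorProduct.induction_on with
    | zero => simp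
    | add a b ha hb => rw [map_add, map_add]; exact congrArg₂ (· + ·) ha hb
    | tmul m x => rfl
  exact (funext h : ((pfMod φ M X).hom : M ⊗[R] X → _) = _) ▸ e.symm.bijective

/-- The projection formula map on complexes. -/
noncomputable def pfCx (Y : DRing.Cx S) (X : DRing.Cx R) :
    (resCx φ).obj Y ⊗ X ⟶ (resCx φ).obj (Y ⊗ (extCx φ).obj X) :=
  (resCx φ).obj Y ◁ (unitCx φ).app X ≫ resTenCx φ Y ((extCx φ).obj X)

theorem ι_pfCx (Y : DRing.Cx S) (X : DRing.Cx R) (p q n : ℤ) (h : p + q = n) :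
    ιTensorObj ((resCx φ).obj Y) X p q n h ≫ (pfCx φ Y X).f n =
      pfMod φ (Y.X p) (X.X q) ≫ (resM φ).map (ιTensorObj Y ((extCx φ).obj X) p q n h) := by
  rw [pfCx, HomologicalComplex.comp_f]
  erw [reassoc_of% (Groth.DAlg.Pairing.ι_whiskerLeft ((resCx φ).obj Y) ((unitCx φ).app X) p q n h),
    ι_resTenCx φ Y ((extCx φ).obj X) p q n h]
  rfl

/-- Maps out of a restriction of a tensor product are determined on the summands. -/
theorem res_hom_ext {Y Y' : DRing.Cx S} {n : ℤ} {M : ModuleCat.{u} R}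
    {f g : (resM φ).obj ((Y ⊗ Y' : DRing.Cx S).X n) ⟶ M}
    (h : ∀ (p q : ℤ) (hpq : p + q = n),
      (resM φ).map (ιTensorObj Y Y' p q n hpq) ≫ f = (resM φ).map (ιTensorObj Y Y' p q n hpq) ≫ g) :
    f = g := by
  rw [← cancel_epi ((TotMap.mapTotalIso (resM φ) (tenBicx Y Y') (ComplexShape.up ℤ)).inv.f n)]
  refine HomologicalComplex₂.total.hom_ext _ fun p q hpq => ?_
  erw [TotMap.ιTotal_mapTotalIso_inv_f_assoc, TotMap.ιTotal_mapTotalIso_inv_f_assoc]
  exact h p q hpq

theorem isIso_pfCx (Y : DRing.Cx S) (X : DRing.Cx R) : IsIso (pfCx φ Y X) := by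
  have hf : ∀ n, IsIso ((pfCx φ Y X).f n) := fun n => by
    have h : ∀ p q, IsIso (pfMod φ (Y.X p) (X.X q)) := fun p q => isIso_pfMod φ _ _
    let g : (resM φ).obj ((Y ⊗ (extCx φ).obj X : DRing.Cx S).X n) ⟶
        ((resCx φ).obj Y ⊗ X : DRing.Cx R).X n :=
      (TotMap.mapTotalIso (resM φ) (tenBicx Y ((extCx φ).obj X)) (ComplexShape.up ℤ)).hom.f n ≫
        HomologicalComplex₂.totalDesc _ (fun p q hpq => inv (pfMod φ (Y.X p) (X.X q)) ≫
          ιTensorObj ((resCx φ).obj Y) X p q n hpq)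
    have hg : ∀ (p q : ℤ) (hpq : p + q = n),
        (resM φ).map (ιTensorObj Y ((extCx φ).obj X) p q n hpq) ≫ g =
          inv (pfMod φ (Y.X p) (X.X q)) ≫ ιTensorObj ((resCx φ).obj Y) X p q n hpq := fun p q hpq => by
      erw [TotMap.map_ιTotal_mapTotalIso_hom_f_assoc, HomologicalComplex₂.ι_totalDesc]
    refine ⟨g, ?_, ?_⟩
    · refine mapBifunctor.hom_ext fun p q hpq => ?_
      erw [reassoc_of% (ι_pfCx φ Y X p q n hpq), hg p q hpq, IsIso.hom_inv_id_assoc]
      exact (Category.comp_id _).symm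
    · refine res_hom_ext φ fun p q hpq => ?_
      rw [reassoc_of% (hg p q hpq)]
      erw [ι_pfCx φ Y X p q n hpq, IsIso.inv_hom_id_assoc]
      exact (Category.comp_id _).symm
  exact HomologicalComplex.Hom.isIso_of_components _

end Chain

section Derived

variable [HasLBase φ]

/-- Derived base change is computed termwise. -/
noncomputable abbrev bc (X : DRing.Cx R) :
    (LBase φ).obj (DerivedCategory.Q.obj X) ⟶ DerivedCategory.Q.obj ((extCx φ).obj X) :=
  (baseCmp φ).app X

/-- Restriction commutes with localization. -/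
noncomputable abbrev rf (Y : DRing.Cx S) :
    (DRing.restrictD φ).obj (DerivedCategory.Q.obj Y) ≅ DerivedCategory.Q.obj ((resCx φ).obj Y) :=
  (resFactors φ).app Y

theorem unit_bc (X : DRing.Cx R) :
    (baseAdj φ).unit.app (DerivedCategory.Q.obj X) ≫ (DRing.restrictD φ).map (bc φ X) =
      DerivedCategory.Q.map ((unitCx φ).app X) ≫ (rf φ ((extCx φ).obj X)).inv :=
  baseCmp_fac φ X

variable [HasLTen R] [HasLTen S] [HasResTen φ] [ResLegIso φ]

omit [HasLBase φ] in
theorem resPF_natural {a a' b b' : Dual.D S} (f : a ⟶ a') (g : b ⟶ b') :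
    (LTen₂ R).map (Prod.mkHom ((DRing.restrictD φ).map f) ((DRing.restrictD φ).map g)) ≫
        (resPF φ).app (a', b') =
      (resPF φ).app (a, b) ≫ (DRing.restrictD φ).map ((LTen₂ S).map (Prod.mkHom f g)) :=
  (resPF φ).naturality (Prod.mkHom f g)

theorem projPF_natural_left {a a' : Dual.D S} (g : a ⟶ a') (K : Dual.D R) :
    wr ((DRing.restrictD φ).map g) K ≫ projPF φ a' K =
      projPF φ a K ≫ (DRing.restrictD φ).map (wr g ((LBase φ).obj K)) := by
  rw [projPF, projPF, reassoc_of% (exchange ((DRing.restrictD φ).map g) ((baseAdj φ).unit.app K)),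
    Category.assoc]
  have h := resPF_natural φ g (𝟙 ((LBase φ).obj K))
  rw [CategoryTheory.Functor.map_id] at h
  rw [h]

theorem projPF_natural_right (a : Dual.D S) {K K' : Dual.D R} (g : K ⟶ K') :
    wl ((DRing.restrictD φ).obj a) g ≫ projPF φ a K' =
      projPF φ a K ≫ (DRing.restrictD φ).map (wl a ((LBase φ).map g)) := by
  have h := resPF_natural φ (𝟙 a) ((LBase φ).map g)
  rw [CategoryTheory.Functor.map_id] at h
  rw [projPF, projPF, Category.assoc, ← h, ← Category.assoc, ← Category.assoc, ← wl_comp, ← wl_comp]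
  congr 2
  exact (baseAdj φ).unit.naturality g

theorem resPF_cmp (Y Y' : DRing.Cx S) :
    (resPF φ).app (DerivedCategory.Q.obj Y, DerivedCategory.Q.obj Y') ≫
        (DRing.restrictD φ).map (cmp Y Y') ≫ (rf φ (Y ⊗ Y')).hom =
      (LTen₂ R).map (Prod.mkHom (rf φ Y).hom (rf φ Y').hom) ≫
        cmp ((resCx φ).obj Y) ((resCx φ).obj Y') ≫ DerivedCategory.Q.map (resTenCx φ Y Y') :=
  resPF_fac φ (Y, Y')

theorem projPF_cmp (Y : DRing.Cx S) (X : DRing.Cx R) :
    projPF φ (DerivedCategory.Q.obj Y) (DerivedCategory.Q.obj X) ≫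
        (DRing.restrictD φ).map (wl (DerivedCategory.Q.obj Y) (bc φ X) ≫ cmp Y ((extCx φ).obj X)) ≫
        (rf φ (Y ⊗ (extCx φ).obj X)).hom =
      wr (rf φ Y).hom (DerivedCategory.Q.obj X) ≫ cmp ((resCx φ).obj Y) X ≫
        DerivedCategory.Q.map (pfCx φ Y X) := by
  have h := resPF_natural φ (𝟙 (DerivedCategory.Q.obj Y)) (bc φ X)
  rw [CategoryTheory.Functor.map_id] at h
  rw [projPF, Functor.map_comp, Category.assoc, Category.assoc, ← reassoc_of% h,
    ← wl_comp_assoc', unit_bc, resPF_cmp, wl_comp_assoc']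
  have e : wl ((DRing.restrictD φ).obj (DerivedCategory.Q.obj Y)) (rf φ ((extCx φ).obj X)).inv ≫
      (LTen₂ R).map (Prod.mkHom (rf φ Y).hom (rf φ ((extCx φ).obj X)).hom) =
      wr (rf φ Y).hom (DerivedCategory.Q.obj ((resCx φ).obj ((extCx φ).obj X))) := by
    rw [← Functor.map_comp, prod_comp, Category.id_comp, Iso.inv_hom_id]
  rw [reassoc_of% e, ← reassoc_of% (exchange (rf φ Y).hom (DerivedCategory.Q.map ((unitCx φ).app X))),
    reassoc_of% (wl_cmp ((resCx φ).obj Y) ((unitCx φ).app X)), ← Functor.map_comp]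
  rfl

theorem isIso_bc {X : DRing.Cx R} (hX : IsKFlatCx R X) : IsIso (bc φ X) :=
  Groth.BaseCmpKFlat.isIso_baseCmp_of_isKFlat φ X hX

/-- The projection formula. -/
theorem isIso_projPF (a : Dual.D S) (K : Dual.D R) : IsIso (projPF φ a K) := by
  obtain ⟨Y, hY, ⟨eY⟩⟩ := exists_kFlat_rep a
  obtain ⟨X, hX, ⟨eX⟩⟩ := exists_kFlat_rep K
  have h : IsIso (projPF φ (DerivedCategory.Q.obj Y) (DerivedCategory.Q.obj X)) := by
    have := isIso_bc φ hX
    have := isIso_ε Y ((extCx φ).obj X) hY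
    have := isIso_ε_right ((resCx φ).obj Y) X hX
    have := isIso_pfCx φ Y X
    have h' : IsIso (projPF φ (DerivedCategory.Q.obj Y) (DerivedCategory.Q.obj X) ≫
        (DRing.restrictD φ).map (wl (DerivedCategory.Q.obj Y) (bc φ X) ≫ cmp Y ((extCx φ).obj X)) ≫
        (rf φ (Y ⊗ (extCx φ).obj X)).hom) := by
      rw [projPF_cmp]; infer_instance
    exact IsIso.of_isIso_comp_right (projPF φ (DerivedCategory.Q.obj Y) (DerivedCategory.Q.obj X))
      ((DRing.restrictD φ).map (wl (DerivedCategory.Q.obj Y) (bc φ X) ≫ cmp Y ((extCx φ).obj X)) ≫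
        (rf φ (Y ⊗ (extCx φ).obj X)).hom)
  have h1 : IsIso (projPF φ a (DerivedCategory.Q.obj X)) := by
    have : IsIso (wr ((DRing.restrictD φ).map eY.hom) (DerivedCategory.Q.obj X) ≫
        projPF φ a (DerivedCategory.Q.obj X)) := by
      rw [projPF_natural_left]; infer_instance
    exact IsIso.of_isIso_comp_left (wr ((DRing.restrictD φ).map eY.hom) (DerivedCategory.Q.obj X)) _
  have : IsIso (wl ((DRing.restrictD φ).obj a) eX.hom ≫ projPF φ a K) := by
    rw [projPF_natural_right]; infer_instance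
  exact IsIso.of_isIso_comp_left (wl ((DRing.restrictD φ).obj a) eX.hom) _

/-- Derived base change is strong monoidal. -/
noncomputable def mbar (T K : Dual.D R) :
    (LBase φ).obj (ten T K) ⟶ ten ((LBase φ).obj T) ((LBase φ).obj K) :=
  ((baseAdj φ).homEquiv _ _).symm (wr ((baseAdj φ).unit.app T) K ≫ projPF φ ((LBase φ).obj T) K)

theorem unit_mbar (T K : Dual.D R) :
    (baseAdj φ).unit.app (ten T K) ≫ (DRing.restrictD φ).map (mbar φ T K) =
      wr ((baseAdj φ).unit.app T) K ≫ projPF φ ((LBase φ).obj T) K :=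
  ((baseAdj φ).homEquiv_unit _ _ _).symm.trans (Equiv.apply_symm_apply _ _)

theorem mbar_natural_left {T T' : Dual.D R} (f : T ⟶ T') (K : Dual.D R) :
    (LBase φ).map (wr f K) ≫ mbar φ T' K = mbar φ T K ≫ wr ((LBase φ).map f) ((LBase φ).obj K) := by
  rw [mbar, mbar, ← Adjunction.homEquiv_naturality_left_symm,
    ← Adjunction.homEquiv_naturality_right_symm]
  congr 1
  rw [Category.assoc, ← projPF_natural_left, ← wr_comp_assoc', ← wr_comp_assoc']
  congr 2
  exact (baseAdj φ).unit.naturality f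

theorem mbar_natural_right (T : Dual.D R) {K K' : Dual.D R} (g : K ⟶ K') :
    (LBase φ).map (wl T g) ≫ mbar φ T K' = mbar φ T K ≫ wl ((LBase φ).obj T) ((LBase φ).map g) := by
  rw [mbar, mbar, ← Adjunction.homEquiv_naturality_left_symm,
    ← Adjunction.homEquiv_naturality_right_symm]
  congr 1
  rw [Category.assoc, ← projPF_natural_right]
  exact ((reassoc_of% (exchange ((baseAdj φ).unit.app T) g)) _).symm

theorem mbar_cmp (X Z : DRing.Cx R) :
    mbar φ (DerivedCategory.Q.obj X) (DerivedCategory.Q.obj Z) ≫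
        wr (bc φ X) ((LBase φ).obj (DerivedCategory.Q.obj Z)) ≫
        wl (DerivedCategory.Q.obj ((extCx φ).obj X)) (bc φ Z) ≫
        cmp ((extCx φ).obj X) ((extCx φ).obj Z) =
      (LBase φ).map (cmp X Z) ≫ bc φ (X ⊗ Z) ≫ DerivedCategory.Q.map (Ext.delta φ X Z) := by
  apply ((baseAdj φ).homEquiv _ _).injective
  rw [Adjunction.homEquiv_unit, Adjunction.homEquiv_unit, Functor.map_comp, Functor.map_comp,
    reassoc_of% (unit_mbar φ (DerivedCategory.Q.obj X) (DerivedCategory.Q.obj Z)),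
    ← reassoc_of% (projPF_natural_left φ (bc φ X) (DerivedCategory.Q.obj Z)), ← wr_comp_assoc', unit_bc,
    Functor.map_comp, Functor.map_comp]
  have hu : (baseAdj φ).unit.app (ten (DerivedCategory.Q.obj X) (DerivedCategory.Q.obj Z)) ≫
      (DRing.restrictD φ).map ((LBase φ).map (cmp X Z)) =
      cmp X Z ≫ (baseAdj φ).unit.app (DerivedCategory.Q.obj (X ⊗ Z)) :=
    ((baseAdj φ).unit.naturality (cmp X Z)).symm
  rw [reassoc_of% hu, Functor.map_comp, reassoc_of% (unit_bc φ (X ⊗ Z))]
  rw [← cancel_mono (rf φ ((extCx φ).obj X ⊗ (extCx φ).obj Z)).hom]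
  simp only [Category.assoc]
  have hq : (DRing.restrictD φ).map (DerivedCategory.Q.map (Ext.delta φ X Z)) ≫
      (rf φ ((extCx φ).obj X ⊗ (extCx φ).obj Z)).hom =
      (rf φ ((extCx φ).obj (X ⊗ Z))).hom ≫
        DerivedCategory.Q.map ((resCx φ).map (Ext.delta φ X Z)) :=
    (resFactors φ).hom.naturality (Ext.delta φ X Z)
  have hp := projPF_cmp φ ((extCx φ).obj X) Z
  rw [Functor.map_comp, Category.assoc] at hp
  rw [hq, Iso.inv_hom_id_assoc, hp, ← wr_comp_assoc', Category.assoc, Iso.inv_hom_id, Category.comp_id,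
    reassoc_of% (wr_cmp ((unitCx φ).app X) Z), ← Functor.map_comp, ← Functor.map_comp, Ext.unit_delta,
    tensorHom_def, pfCx, Category.assoc]
  rfl

theorem isIso_mbar (T K : Dual.D R) : IsIso (mbar φ T K) := by
  obtain ⟨X, hX, ⟨eX⟩⟩ := exists_kFlat_rep T
  obtain ⟨Z, hZ, ⟨eZ⟩⟩ := exists_kFlat_rep K
  have h : IsIso (mbar φ (DerivedCategory.Q.obj X) (DerivedCategory.Q.obj Z)) := by
    have := isIso_bc φ hX
    have := isIso_bc φ hZ
    have := isIso_bc φ (isKFlat_tensor hX hZ)
    have := isIso_ε X Z hX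
    have := isIso_ε ((extCx φ).obj X) ((extCx φ).obj Z) (isKFlat_ext φ hX)
    have := Ext.isIso_delta φ X Z
    have : IsIso (mbar φ (DerivedCategory.Q.obj X) (DerivedCategory.Q.obj Z) ≫
        wr (bc φ X) ((LBase φ).obj (DerivedCategory.Q.obj Z)) ≫
        wl (DerivedCategory.Q.obj ((extCx φ).obj X)) (bc φ Z) ≫
        cmp ((extCx φ).obj X) ((extCx φ).obj Z)) := by
      rw [mbar_cmp]; infer_instance
    exact IsIso.of_isIso_comp_right (mbar φ (DerivedCategory.Q.obj X) (DerivedCategory.Q.obj Z))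
      (wr (bc φ X) ((LBase φ).obj (DerivedCategory.Q.obj Z)) ≫
        wl (DerivedCategory.Q.obj ((extCx φ).obj X)) (bc φ Z) ≫
        cmp ((extCx φ).obj X) ((extCx φ).obj Z))
  have h1 : IsIso (mbar φ T (DerivedCategory.Q.obj Z)) := by
    have : IsIso ((LBase φ).map (wr eX.hom (DerivedCategory.Q.obj Z)) ≫
        mbar φ T (DerivedCategory.Q.obj Z)) := by
      rw [mbar_natural_left]; infer_instance
    exact IsIso.of_isIso_comp_left ((LBase φ).map (wr eX.hom (DerivedCategory.Q.obj Z))) _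
  have : IsIso ((LBase φ).map (wl T eZ.hom) ≫ mbar φ T K) := by
    rw [mbar_natural_right]; infer_instance
  exact IsIso.of_isIso_comp_left ((LBase φ).map (wl T eZ.hom)) _

variable [HasRHom R] [HasRHom S]

/-- Restriction commutes with internal hom. -/
theorem isIso_rhomBC (K : Dual.D R) (M : Dual.D S) : IsIso (rhomBC φ K M) := by
  refine isIso_of_yoneda_map_bijective _ fun T => ?_
  let K' := (LBase φ).obj K
  let X := (RHomR S K').obj M
  have := isIso_mbar φ T K
  let a := (baseAdj φ).homEquiv T X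
  let e : (T ⟶ (DRing.restrictD φ).obj X) ≃ (T ⟶ (RHomR R K).obj ((DRing.restrictD φ).obj M)) :=
    a.symm.trans ((rhomHomEquiv ((LBase φ).obj T) K' M).symm.trans
      (((asIso (mbar φ T K)).symm.homCongr (Iso.refl M)).trans
        (((baseAdj φ).homEquiv (ten T K) M).trans (rhomHomEquiv T K ((DRing.restrictD φ).obj M)))))
  suffices h : (fun f : T ⟶ (DRing.restrictD φ).obj X => f ≫ rhomBC φ K M) = e by
    exact h ▸ e.bijective
  funext f
  obtain ⟨g, rfl⟩ := a.surjective f
  apply (rhomHomEquiv T K ((DRing.restrictD φ).obj M)).symm.injective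
  simp only [e, Equiv.trans_apply, Equiv.symm_apply_apply]
  rw [homEquiv_symm', homEquiv_symm', wr_comp, Category.assoc]
  erw [rhomBC_fac]
  rw [rhomBCCore_eq, show a g = (baseAdj φ).unit.app T ≫ (DRing.restrictD φ).map g from
      Adjunction.homEquiv_unit _ _ _ _, wr_comp_assoc', reassoc_of% (projPF_natural_left φ g K),
    ← Functor.map_comp, Adjunction.homEquiv_unit,
    show ((asIso (mbar φ T K)).symm.homCongr (Iso.refl M)) (wr g K' ≫ ev K' M) =
      mbar φ T K ≫ wr g K' ≫ ev K' M by simp, Functor.map_comp _ (mbar φ T K),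
    reassoc_of% (unit_mbar φ T K)]

end Derived

end Groth.DTenCalc
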