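import Groth.Agent.DTenCalc.InternalHom
import Groth.Agent.DTenCalc.Dualizable
import Groth.Agent.DAlg.LeftDerived
import Groth.Agent.DAlg.ResTot

/-!
The internal Hom on the derived category is computed by Hom complexes.
-/

universe u

open CategoryTheory CategoryTheory.Limits MonoidalCategory HomologicalComplex DTen
open Groth.DTenCalc.InternalHom
open scoped TensorProduct
attribute [local instance] HasDerivedCategory.standard

set_option backward.isDefEq.respectTransparency false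

namespace Groth.DTenCalc

variable {A : Type u} [CommRing A]

theorem Q_map_eq_iff_of_isKProjective (P Z : DRing.Cx A) [P.IsKProjective] (f g : P ⟶ Z) :
    DerivedCategory.Q.map f = DerivedCategory.Q.map g ↔ Nonempty (Homotopy f g) := by
  constructor
  · intro h
    refine ⟨HomotopyCategory.homotopyOfEq _ _ ((Groth.DAlg.bijective_Qh_map_of_isKProjective P _).1 ?_)⟩
    rw [← cancel_mono ((DerivedCategory.quotientCompQhIso (ModuleCat.{u} A)).hom.app Z)]
    exact ((DerivedCategory.quotientCompQhIso (ModuleCat.{u} A)).hom.naturality f).trans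
      ((congrArg (_ ≫ ·) h).trans
        ((DerivedCategory.quotientCompQhIso (ModuleCat.{u} A)).hom.naturality g).symm)
  · rintro ⟨h⟩
    exact DerivedCategory.Q_map_eq_of_homotopy (h := h)

theorem Q_map_surjective_of_isKProjective (P Z : DRing.Cx A) [P.IsKProjective] :
    Function.Surjective (DerivedCategory.Q.map : (P ⟶ Z) → _) := fun φ => by
  let e := DerivedCategory.quotientCompQhIso (ModuleCat.{u} A)
  obtain ⟨ψ, hψ⟩ := (Groth.DAlg.bijective_Qh_map_of_isKProjective P _).2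
    (e.hom.app P ≫ φ ≫ e.inv.app Z)
  obtain ⟨v, rfl⟩ := (HomotopyCategory.quotient _ _).map_surjective ψ
  refine ⟨v, ?_⟩
  rw [← cancel_epi (e.hom.app P), ← cancel_mono (e.inv.app Z), Category.assoc,
    Category.assoc, ← hψ, ← e.hom.naturality_assoc]
  simp

/-- A Hom complex out of a K-projective complex into an acyclic one is acyclic. -/
theorem acyclic_homCx (Y L : DRing.Cx A) [Y.IsKProjective] (hL : L.Acyclic) :
    (DRing.homCx Y L).Acyclic := by
  let O : DRing.Cx A := HomologicalComplex.zero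
  have hO : IsZero O := HomologicalComplex.isZero_zero
  have : QuasiIso (0 : L ⟶ O) := ⟨fun i => (quasiIsoAt_iff_exactAt _ i (hL i)).2
    (ExactAt.of_isZero ((HomologicalComplex.eval _ _ i).map_isZero hO))⟩
  have := Groth.DAlg.PerfectDual.isIso_post Y (0 : L ⟶ O)
  refine fun i => (exactAt_iff_of_quasiIsoAt (DRing.homCxMap Y (0 : L ⟶ O)) i).2 (ExactAt.of_isZero ?_)
  refine ModuleCat.isZero_iff_subsingleton.2 ⟨fun (z w : CochainComplex.HomComplex.Cochain Y O i) => ?_⟩
  exact CochainComplex.HomComplex.Cochain.ext z w fun q r h =>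
    ((HomologicalComplex.eval _ _ r).map_isZero hO).eq_of_tgt _ _

/-- The tensor product of K-projective complexes is K-projective. -/
theorem isKProjective_tensor (X Y : DRing.Cx A) [X.IsKProjective] [Y.IsKProjective] :
    (X ⊗ Y : DRing.Cx A).IsKProjective where
  nonempty_homotopy_zero {L} f hL := by
    obtain ⟨g, rfl⟩ := ((adjC Y).homEquiv X L).symm.surjective f
    obtain ⟨h⟩ := CochainComplex.IsKProjective.nonempty_homotopy_zero g (acyclic_homCx Y L hL)
    obtain ⟨h'⟩ := (nonempty_homotopy_iff g 0).2 ⟨h⟩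
    rw [adjC_symm_apply]
    have hz : (0 : X ⟶ DRing.homCx Y L) ▷ Y ≫ evC Y L = 0 := by
      refine HomologicalComplex.hom_ext _ _ fun n =>
        mapBifunctor.hom_ext (F := curriedTensor (ModuleCat.{u} A)) fun p q h =>
          ModuleCat.MonoidalCategory.tensor_ext fun x y => ?_
      show (evC Y L).f n (((0 : X ⟶ DRing.homCx Y L) ▷ Y).f n (StrictDual.tm X Y h (x ⊗ₜ y))) = 0
      rw [StrictDual.tm_whiskerRight, HomologicalComplex.zero_f]
      simp
    exact ⟨h'.trans (Homotopy.ofEq hz)⟩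

variable [HasLTen A]

/-- The derived evaluation of a Hom complex. -/
noncomputable def evQ (Y Z : DRing.Cx A) :
    ten (DerivedCategory.Q.obj (DRing.homCx Y Z)) (DerivedCategory.Q.obj Y) ⟶ DerivedCategory.Q.obj Z :=
  cmp (DRing.homCx Y Z) Y ≫ DerivedCategory.Q.map (evC Y Z)

theorem wr_evQ {X Y Z : DRing.Cx A} (g : X ⟶ DRing.homCx Y Z) :
    wr (DerivedCategory.Q.map g) (DerivedCategory.Q.obj Y) ≫ evQ Y Z =
      cmp X Y ≫ DerivedCategory.Q.map (g ▷ Y ≫ evC Y Z) := by
  rw [evQ, reassoc_of% (wr_cmp g Y), ← Functor.map_comp]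

/-- The Hom complex represents maps out of the derived tensor product. -/
theorem bijective_evQ (Y Z : DRing.Cx A) (hYZ : Y.IsKProjective ∨ Z.IsKInjective) (T : Dual.D A) :
    Function.Bijective (fun g : T ⟶ DerivedCategory.Q.obj (DRing.homCx Y Z) =>
      wr g (DerivedCategory.Q.obj Y) ≫ evQ Y Z) := by
  obtain ⟨X, hX, -, ⟨eX⟩⟩ := Groth.DAlg.exists_kProjective_rep T
  let F := fun g : DerivedCategory.Q.obj X ⟶ DerivedCategory.Q.obj (DRing.homCx Y Z) =>
      wr g (DerivedCategory.Q.obj Y) ≫ evQ Y Z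
  suffices hF : Function.Bijective F by
    let e := asIso (wr eX.inv (DerivedCategory.Q.obj Y))
    have hk : (fun g : T ⟶ DerivedCategory.Q.obj (DRing.homCx Y Z) =>
        wr g (DerivedCategory.Q.obj Y) ≫ evQ Y Z) = fun g => e.hom ≫ F (eX.hom ≫ g) := by
      funext g
      change _ = wr eX.inv _ ≫ wr (eX.hom ≫ g) _ ≫ evQ Y Z
      rw [← wr_comp_assoc', Iso.inv_hom_id_assoc]
    rw [hk]
    refine Function.Bijective.comp (g := fun f => e.hom ≫ F f) (Function.Bijective.comp (g := fun f => e.hom ≫ f) ?_ hF) ?_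
    · exact ⟨fun a b h => (cancel_epi e.hom).1 h, fun b => ⟨e.inv ≫ b, Iso.hom_inv_id_assoc _ _⟩⟩
    · exact ⟨fun a b h => (cancel_epi eX.hom).1 h, fun b => ⟨eX.inv ≫ b, Iso.hom_inv_id_assoc _ _⟩⟩
  have hcmp : IsIso (cmp X Y) :=
    isIso_ε X Y (Groth.DAlg.isKFlatCx_of_isKProjective X)
  have hiff : ∀ f g : (X ⊗ Y : DRing.Cx A) ⟶ Z,
      DerivedCategory.Q.map f = DerivedCategory.Q.map g ↔ Nonempty (Homotopy f g) := by
    intro f g
    rcases hYZ with hY | hZ
    · have := isKProjective_tensor X Y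
      exact Q_map_eq_iff_of_isKProjective _ _ f g
    · exact Groth.DerivedCoh.KInjRes.Q_map_eq_iff _ _ f g
  have hsurj : Function.Surjective (DerivedCategory.Q.map : ((X ⊗ Y : DRing.Cx A) ⟶ Z) → _) := by
    rcases hYZ with hY | hZ
    · have := isKProjective_tensor X Y
      exact Q_map_surjective_of_isKProjective _ _
    · exact Groth.DerivedCoh.KInjRes.Q_map_surjective _ _
  refine ⟨fun a b h => ?_, fun c => ?_⟩
  · obtain ⟨a, rfl⟩ := Q_map_surjective_of_isKProjective _ _ a
    obtain ⟨b, rfl⟩ := Q_map_surjective_of_isKProjective _ _ b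
    simp only [F, wr_evQ, cancel_epi] at h
    rw [Q_map_eq_iff_of_isKProjective, ← nonempty_homotopy_iff, ← hiff]
    exact h
  · obtain ⟨h, hh⟩ := hsurj (inv (cmp X Y) ≫ c)
    refine ⟨DerivedCategory.Q.map ((adjC Y).homEquiv X Z h), ?_⟩
    simp only [F, wr_evQ]
    rw [← adjC_symm_apply, Equiv.symm_apply_apply, hh, IsIso.hom_inv_id_assoc]

section RHom

variable [HasRHom A]

/-- The comparison of the Hom complex with the internal Hom. -/
noncomputable def toRHom {Y Z : DRing.Cx A} {L M : Dual.D A} (eY : DerivedCategory.Q.obj Y ≅ L)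
    (eZ : DerivedCategory.Q.obj Z ≅ M) :
    DerivedCategory.Q.obj (DRing.homCx Y Z) ⟶ (RHomR A L).obj M :=
  rhomHomEquiv _ _ _ (wl (DerivedCategory.Q.obj (DRing.homCx Y Z)) eY.inv ≫ evQ Y Z ≫ eZ.hom)

theorem toRHom_ev {Y Z : DRing.Cx A} {L M : Dual.D A} (eY : DerivedCategory.Q.obj Y ≅ L)
    (eZ : DerivedCategory.Q.obj Z ≅ M) :
    wr (toRHom eY eZ) L ≫ ev L M =
      wl (DerivedCategory.Q.obj (DRing.homCx Y Z)) eY.inv ≫ evQ Y Z ≫ eZ.hom :=
  ((rhomAdj A L).homEquiv _ _).left_inv _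

theorem map_toRHom_ev {Y Z : DRing.Cx A} {L M : Dual.D A} (eY : DerivedCategory.Q.obj Y ≅ L)
    (eZ : DerivedCategory.Q.obj Z ≅ M) :
    (LTen₂ A).map (Prod.mkHom (toRHom eY eZ) eY.hom) ≫ ev L M = evQ Y Z ≫ eZ.hom := by
  have h : (LTen₂ A).map (Prod.mkHom (toRHom eY eZ) eY.hom) =
      wl (DerivedCategory.Q.obj (DRing.homCx Y Z)) eY.hom ≫ wr (toRHom eY eZ) L := by
    rw [← Functor.map_comp, prod_comp]
    simp
  rw [h, Category.assoc, toRHom_ev, ← wl_comp_assoc', Iso.hom_inv_id, wl_id, Category.id_comp]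

theorem isIso_toRHom {Y Z : DRing.Cx A} {L M : Dual.D A} (eY : DerivedCategory.Q.obj Y ≅ L)
    (eZ : DerivedCategory.Q.obj Z ≅ M) (hYZ : Y.IsKProjective ∨ Z.IsKInjective) :
    IsIso (toRHom eY eZ) := by
  refine isIso_of_yoneda_map_bijective _ fun T => ?_
  have hk : (fun g : T ⟶ DerivedCategory.Q.obj (DRing.homCx Y Z) => g ≫ toRHom eY eZ) =
      rhomHomEquiv T L M ∘ fun g => wl T eY.inv ≫ (wr g (DerivedCategory.Q.obj Y) ≫ evQ Y Z) ≫ eZ.hom := by
    funext g
    refine ((Adjunction.homEquiv_naturality_left _ _ _).symm.trans ?_)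
    simp only [Function.comp_apply, Category.assoc]
    change rhomHomEquiv T L M (wr g L ≫ _) = _
    rw [← reassoc_of% (exchange g eY.inv)]
  rw [hk]
  refine (Equiv.bijective _).comp ?_
  refine Function.Bijective.comp (g := fun c => wl T eY.inv ≫ c ≫ eZ.hom) ?_ (bijective_evQ Y Z hYZ T)
  exact ⟨fun a b h => (cancel_mono eZ.hom).1 ((cancel_epi (wl T eY.inv)).1 h),
    fun b => ⟨inv (wl T eY.inv) ≫ b ≫ eZ.inv, by simp⟩⟩

end RHom

end Groth.DTenCalc
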