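import Groth.Agent.DTenCalc.Instances
import Groth.Agent.S13893

/-!
The right adjoint of restriction along a perfect algebra.
-/

universe u

open CategoryTheory CategoryTheory.Limits MonoidalCategory HomologicalComplex DTen
open Groth.DAlg.KFlatMod (IsKFlatCx)
attribute [local instance] HasDerivedCategory.standard

set_option backward.isDefEq.respectTransparency false

namespace Groth.DTenCalc

/-- Precomposition with an isomorphism. -/
def preEquiv {C : Type*} [Category* C] {X Y : C} (e : X ≅ Y) (Z : C) : (Y ⟶ Z) ≃ (X ⟶ Z) where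
  toFun g := e.hom ≫ g
  invFun g := e.inv ≫ g
  left_inv g := by simp
  right_inv g := by simp

theorem preEquiv_apply {C : Type*} [Category* C] {X Y : C} (e : X ≅ Y) {Z : C} (g : Y ⟶ Z) :
    preEquiv e Z g = e.hom ≫ g := rfl

/-- Postcomposition with an isomorphism. -/
def postEquiv {C : Type*} [Category* C] (T : C) {X Y : C} (e : X ≅ Y) : (T ⟶ X) ≃ (T ⟶ Y) where
  toFun g := g ≫ e.hom
  invFun g := g ≫ e.inv
  left_inv g := by simp
  right_inv g := by simp

theorem postEquiv_apply {C : Type*} [Category* C] {T X Y : C} (e : X ≅ Y) (g : T ⟶ X) :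
    postEquiv T e g = g ≫ e.hom := rfl

section Counit

variable {R : Type u} [CommRing R] [HasLTen R] [HasLTen₃ R] [IsSymMonoidal R]

theorem adjL_counit (P D : DRing.Cx R) [ExactPairing P D] (hP : IsKFlatCx R P) (hD : IsKFlatCx R D)
    (X : DRing.Cx R) :
    (adjL P D hP hD).counit.app (DerivedCategory.Q.obj X) =
      wl (DerivedCategory.Q.obj D) (cmp P X) ≫ cmp D (P ⊗ X) ≫
        DerivedCategory.Q.map ((α_ D P X).inv ≫ ε_ P D ▷ X ≫ (λ_ X).hom) := by
  let _ := sqLeft P hP
  let _ := sqLeft D hD
  have h := (tensorLeftAdjunction P D).localization_counit_app DerivedCategory.Q (DTen.qis R)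
    DerivedCategory.Q (DTen.qis R) ((LTen R).obj (DerivedCategory.Q.obj D))
    ((LTen R).obj (DerivedCategory.Q.obj P)) X
  refine h.trans ?_
  have hc : (tensorLeftAdjunction P D).counit.app X = (α_ D P X).inv ≫ ε_ P D ▷ X ≫ (λ_ X).hom := by
    simp [tensorLeftAdjunction, tensorLeftHomEquiv]
  rw [← hc]
  rfl

/-- Evaluation of a duality, on the derived category. -/
noncomputable def evD (P D : DRing.Cx R) [ExactPairing P D] :
    ten (DerivedCategory.Q.obj D) (DerivedCategory.Q.obj P) ⟶ DTen.unit R :=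
  cmp D P ≫ DerivedCategory.Q.map (ε_ P D)

theorem adjL_counit_eq (P D : DRing.Cx R) [ExactPairing P D] (hP : IsKFlatCx R P)
    (hD : IsKFlatCx R D) (E : Dual.D R) :
    (adjL P D hP hD).counit.app E =
      (associator (DerivedCategory.Q.obj D) (DerivedCategory.Q.obj P) E).inv ≫ wr (evD P D) E ≫
        (unitL R).app E := by
  obtain ⟨X, hX, ⟨eX⟩⟩ := exists_kFlat_rep E
  let P' := DerivedCategory.Q.obj P
  let D' := DerivedCategory.Q.obj D
  have h : (adjL P D hP hD).counit.app (DerivedCategory.Q.obj X) =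
      (associator D' P' (DerivedCategory.Q.obj X)).inv ≫ wr (evD P D) (DerivedCategory.Q.obj X) ≫
        (unitL R).app (DerivedCategory.Q.obj X) := by
    rw [Iso.eq_inv_comp, adjL_counit, unitL_app, reassoc_of% (assoc_cmp D P X), evD, wr_comp_assoc',
      reassoc_of% (wr_cmp (ε_ P D) X), ← Functor.map_comp, ← Functor.map_comp, Iso.hom_inv_id_assoc]
  rw [← cancel_epi (wl D' (wl P' eX.hom))]
  have h1 : wl D' (wl P' eX.hom) ≫ (adjL P D hP hD).counit.app E =
      (adjL P D hP hD).counit.app (DerivedCategory.Q.obj X) ≫ eX.hom :=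
    (adjL P D hP hD).counit.naturality eX.hom
  have h2 : wl D' (wl P' eX.hom) ≫ (associator D' P' E).inv =
      (associator D' P' (DerivedCategory.Q.obj X)).inv ≫ wl (ten D' P') eX.hom := by
    rw [Iso.comp_inv_eq, Category.assoc, assoc_nat_right, Iso.inv_hom_id_assoc]
  have h3 : wl (DTen.unit R) eX.hom ≫ (unitL R).app E =
      (unitL R).app (DerivedCategory.Q.obj X) ≫ eX.hom := (unitL R).naturality eX.hom
  rw [h1, h, reassoc_of% h2, ← reassoc_of% (exchange (evD P D) eX.hom), h3]
  simp only [Category.assoc]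

theorem adjL_counit_unit (P D : DRing.Cx R) [ExactPairing P D] (hP : IsKFlatCx R P)
    (hD : IsKFlatCx R D) :
    (adjL P D hP hD).counit.app (DTen.unit R) =
      wl (DerivedCategory.Q.obj D) ((unitR R).app (DerivedCategory.Q.obj P)) ≫ evD P D := by
  rw [adjL_counit, unitR_app, evD, wl_comp, Category.assoc, reassoc_of% (wl_cmp D (ρ_ P).hom),
    ← Functor.map_comp]
  congr 3
  monoidal

end Counit

section Main

variable {R S : Type u} [CommRing R] [CommRing S] (φ : R →+* S)
  [HasLBase φ] [HasLTen R] [HasLTen S] [HasResTen φ] [ResLegIso φ] [HasLTen₃ R] [IsSymMonoidal R]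

/-- The action of the algebra. -/
noncomputable def act (X : Dual.D S) :
    ten (algD φ) ((DRing.restrictD φ).obj X) ⟶ (DRing.restrictD φ).obj X :=
  piD φ ((DRing.restrictD φ).obj X) ≫ (DRing.restrictD φ).map ((baseAdj φ).counit.app X)

theorem piD_adjunct {T : Dual.D R} {X : Dual.D S} (g : (LBase φ).obj T ⟶ X) :
    piD φ T ≫ (DRing.restrictD φ).map g =
      wl (algD φ) ((baseAdj φ).homEquiv T X g) ≫ act φ X := by
  rw [act, reassoc_of% (piD_natural φ ((baseAdj φ).homEquiv T X g)), ← Functor.map_comp]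
  congr 2
  exact ((Adjunction.homEquiv_counit (baseAdj φ) _ _ _).symm.trans (Equiv.symm_apply_apply _ _)).symm

theorem mbar_counit (a : Dual.D S) (E : Dual.D R) :
    mbar φ ((DRing.restrictD φ).obj a) E ≫ wr ((baseAdj φ).counit.app a) ((LBase φ).obj E) =
      ((baseAdj φ).homEquiv _ _).symm (projPF φ a E) := by
  apply ((baseAdj φ).homEquiv _ _).injective
  refine Eq.trans ?_ (Equiv.apply_symm_apply _ _).symm
  rw [Adjunction.homEquiv_unit, Functor.map_comp,
    reassoc_of% (unit_mbar φ ((DRing.restrictD φ).obj a) E), ← projPF_natural_left, ← wr_comp_assoc',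
    Adjunction.right_triangle_components, wr_id, Category.id_comp]
  rfl

theorem act_projPF (a : Dual.D S) (E : Dual.D R) :
    (associator (algD φ) ((DRing.restrictD φ).obj a) E).inv ≫ wr (act φ a) E ≫ projPF φ a E =
      wl (algD φ) (projPF φ a E) ≫ act φ (ten a ((LBase φ).obj E)) := by
  rw [Iso.inv_comp_eq, act, wr_comp_assoc', projPF_natural_left, reassoc_of% (piD_tensor φ _ E),
    ← Functor.map_comp, mbar_counit, piD_adjunct, Equiv.apply_symm_apply]

variable [HasRHomRel φ]

/-- The candidate for the right adjoint of restriction. -/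
noncomputable abbrev cand : Dual.D R ⥤ Dual.D S :=
  LBase φ ⋙ (LTen S).obj ((RHomRel φ).obj (DTen.unit R))

/-- The evaluation of the candidate. -/
noncomputable def candEval (E : Dual.D R) : (DRing.restrictD φ).obj ((cand φ).obj E) ⟶ E :=
  haveI := isIso_projPF φ ((RHomRel φ).obj (DTen.unit R)) E
  inv (projPF φ ((RHomRel φ).obj (DTen.unit R)) E) ≫ wr (relEv φ (DTen.unit R)) E ≫ (unitL R).app E

theorem candEval_natural {E E' : Dual.D R} (f : E ⟶ E') :
    (DRing.restrictD φ).map ((cand φ).map f) ≫ candEval φ E' = candEval φ E ≫ f := by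
  let M := (RHomRel φ).obj (DTen.unit R)
  have := isIso_projPF φ M E
  have := isIso_projPF φ M E'
  have h1 : (DRing.restrictD φ).map ((cand φ).map f) ≫ inv (projPF φ M E') =
      inv (projPF φ M E) ≫ wl ((DRing.restrictD φ).obj M) f := by
    rw [IsIso.comp_inv_eq, Category.assoc, IsIso.eq_inv_comp, projPF_natural_right]
    rfl
  have h3 : wl (DTen.unit R) f ≫ (unitL R).app E' = (unitL R).app E ≫ f := (unitL R).naturality f
  rw [candEval, candEval]
  erw [reassoc_of% h1]
  rw [← reassoc_of% (exchange (relEv φ (DTen.unit R)) f), h3]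
  simp only [Category.assoc]
  rfl

/-- The comparison with the right adjoint of restriction. -/
noncomputable def candMap : cand φ ⟶ RHomRel φ where
  app E := (relAdj φ).homEquiv _ _ (candEval φ E)
  naturality E E' f := by
    rw [← Adjunction.homEquiv_naturality_left, ← Adjunction.homEquiv_naturality_right,
      candEval_natural]

theorem isIso_candMap (hN : DRing.IsPerfect R (algD φ)) : IsIso (candMap φ) := by
  rw [NatTrans.isIso_iff_isIso_app]
  intro E
  apply isIso_of_isIso_restrictD φ
  refine isIso_of_yoneda_map_bijective _ fun T => ?_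
  let M := (RHomRel φ).obj (DTen.unit R)
  let M' := (DRing.restrictD φ).obj M
  let N := algD φ
  let β : ten N M' ⟶ DTen.unit R := act φ M ≫ relEv φ (DTen.unit R)
  have := isIso_projPF φ M E
  -- reduce to the bijectivity of `f ↦ N ◁ f ≫ β ▷ E`
  let h : (T ⟶ ten M' E) → (ten N T ⟶ E) := fun f =>
    wl N f ≫ (associator N M' E).inv ≫ wr β E ≫ (unitL R).app E
  suffices hb : Function.Bijective h by
    let a := (baseAdj φ).homEquiv T ((cand φ).obj E)
    let b := (baseAdj φ).homEquiv T ((RHomRel φ).obj E)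
    let c := (relAdj φ).homEquiv ((LBase φ).obj T) E
    have := isIso_piD φ T
    let k : (T ⟶ (DRing.restrictD φ).obj ((cand φ).obj E)) ≃ (T ⟶ (DRing.restrictD φ).obj ((RHomRel φ).obj E)) :=
      (postEquiv T (asIso (projPF φ M E)).symm).trans
        ((Equiv.ofBijective h hb).trans ((preEquiv (asIso (piD φ T)).symm E).trans (c.trans b)))
    suffices hk : (fun f => f ≫ (DRing.restrictD φ).map ((candMap φ).app E)) = k by
      exact hk ▸ k.bijective
    funext f
    obtain ⟨g, rfl⟩ := a.surjective f
    have e1 : a g ≫ (DRing.restrictD φ).map ((candMap φ).app E) =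
        b (c ((DRing.restrictD φ).map g ≫ candEval φ E)) := by
      refine ((baseAdj φ).homEquiv_naturality_right g ((candMap φ).app E)).symm.trans (congrArg b ?_)
      exact ((relAdj φ).homEquiv_naturality_left g (candEval φ E)).symm
    refine e1.trans (congrArg b (congrArg c ?_))
    rw [← cancel_epi (piD φ T)]
    simp only [preEquiv_apply, postEquiv_apply, Category.id_comp, Category.comp_id,
      Iso.symm_hom, asIso_inv, Equiv.ofBijective_apply, h, IsIso.hom_inv_id_assoc]
    rw [reassoc_of% (piD_adjunct φ g)]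
    have e2 : (associator N M' E).inv ≫ wr (act φ M) E =
        wl N (projPF φ M E) ≫ act φ ((cand φ).obj E) ≫ inv (projPF φ M E) := by
      rw [← cancel_mono (projPF φ M E)]
      simp only [Category.assoc, IsIso.inv_hom_id, Category.comp_id]
      exact act_projPF φ M E
    rw [show wr β E = wr (act φ M) E ≫ wr (relEv φ (DTen.unit R)) E from wr_comp _ _ _, Category.assoc,
      reassoc_of% e2, ← wl_comp_assoc']
    simp only [Category.assoc, IsIso.inv_hom_id, Category.comp_id]
    rfl
  obtain ⟨P, p, q, hv, hp, ⟨eN⟩⟩ := hN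
  obtain ⟨D, ⟨hPD⟩, hP, hD⟩ := StrictDual.exists_exactPairing P hv hp
  let _ : SymmetricCategory (DRing.Cx R) := symmetricCx
  let _ : ExactPairing D P := BraidedCategory.exactPairing_swap P D
  let P' := DerivedCategory.Q.obj P
  let D' := DerivedCategory.Q.obj D
  let adj := adjL D P hD hP
  let βP : ten P' M' ⟶ DTen.unit R := wr eN.hom M' ≫ β
  have hβ : ∀ T', Function.Bijective (fun f : T' ⟶ M' => wl P' f ≫ βP) := fun T' => by
    have := isIso_piD φ T'
    let e : (T' ⟶ M') ≃ (ten P' T' ⟶ DTen.unit R) :=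
      ((baseAdj φ).homEquiv T' M).symm.trans (((relAdj φ).homEquiv _ (DTen.unit R)).symm.trans
        ((preEquiv (asIso (piD φ T')) _).trans (preEquiv (asIso (wr eN.hom T')) _)))
    suffices hk : (fun f : T' ⟶ M' => wl P' f ≫ βP) = e by exact hk ▸ e.bijective
    funext f
    simp only [e, βP, β, Equiv.trans_apply, preEquiv_apply, asIso_hom]
    rw [← reassoc_of% (exchange eN.hom f), Adjunction.homEquiv_counit (adj := relAdj φ),
      reassoc_of% (piD_adjunct φ (((baseAdj φ).homEquiv T' M).symm f)), Equiv.apply_symm_apply]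
    rfl
  let u := adj.homEquiv M' (DTen.unit R) βP
  have hu : IsIso u := by
    refine isIso_of_yoneda_map_bijective _ fun T' => ?_
    have hk : (fun f : T' ⟶ M' => f ≫ u) = adj.homEquiv T' (DTen.unit R) ∘ (fun f => wl P' f ≫ βP) := by
      funext f
      exact (adj.homEquiv_naturality_left f βP).symm
    rw [hk]
    exact (Equiv.bijective _).comp (hβ T')
  have := isIso_unitR_app (A := R) D'
  let a' : M' ⟶ D' := u ≫ (unitR R).app D'
  have ha : IsIso a' := inferInstanceAs (IsIso (u ≫ (unitR R).app D'))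
  have hβP : βP = wl P' a' ≫ evD D P := by
    rw [wl_comp, Category.assoc, ← adjL_counit_unit D P hD hP]
    exact ((Adjunction.homEquiv_counit adj _ _ _).symm.trans (Equiv.symm_apply_apply _ _)).symm
  let k : (T ⟶ ten M' E) ≃ (ten N T ⟶ E) :=
    (postEquiv T (asIso (wr a' E))).trans
      ((adj.homEquiv T E).symm.trans (preEquiv (asIso (wr eN.hom T)).symm E))
  suffices hk : h = k by exact hk ▸ k.bijective
  funext f
  simp only [k, Equiv.trans_apply, preEquiv_apply, postEquiv_apply, Iso.symm_hom, asIso_inv, asIso_hom]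
  change h f = inv (wr eN.hom T) ≫ _
  rw [IsIso.eq_inv_comp]
  change wr eN.hom T ≫ wl N f ≫ _ = _
  have e3 : wr eN.hom (ten M' E) ≫ (associator N M' E).inv =
      (associator P' M' E).inv ≫ wr (wr eN.hom M') E := by
    rw [Iso.comp_inv_eq, Category.assoc, assoc_nat_left, Iso.inv_hom_id_assoc]
  have e4 : (associator P' M' E).inv ≫ wr (wl P' a') E =
      wl P' (wr a' E) ≫ (associator P' D' E).inv := by
    rw [Iso.eq_comp_inv, Category.assoc, assoc_nat_mid, Iso.inv_hom_id_assoc]
  rw [reassoc_of% (exchange eN.hom f), reassoc_of% e3, ← wr_comp_assoc', show wr eN.hom M' ≫ β = βP from rfl,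
    hβP, wr_comp_assoc', reassoc_of% e4, ← adjL_counit_eq D P hD hP, ← wl_comp_assoc']
  exact (Adjunction.homEquiv_counit adj _ _ _).symm

variable [HasLTenMix φ]

/-- The candidate is the mixed derived tensor product. -/
theorem nonempty_cand_iso [HasLTen₃ S] [IsSymMonoidal S] :
    Nonempty (cand φ ≅ (Functor.curry.obj (LTenMix φ)).flip.obj ((RHomRel φ).obj (DTen.unit R))) := by
  let M := (RHomRel φ).obj (DTen.unit R)
  have hs : ∀ E, IsIso ((split φ).app (E, M)) := fun E => Groth.Agent.S13893.result R S φ E M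
  refine ⟨NatIso.ofComponents (fun E => (asIso ((symm S).app ((LBase φ).obj E, M))) ≪≫
    @asIso _ _ _ _ ((split φ).app (E, M)) (hs E)) fun {E E'} f => ?_⟩
  have h1 : wl M ((LBase φ).map f) ≫ sym ((LBase φ).obj E') M =
      sym ((LBase φ).obj E) M ≫ wr ((LBase φ).map f) M := symm_nat ((LBase φ).map f) M
  have h2 := (split φ).naturality (Prod.mkHom f (𝟙 M))
  simp only [Iso.trans_hom, asIso_hom]
  change wl M ((LBase φ).map f) ≫ _ = _
  rw [reassoc_of% h1, Category.assoc]
  congr 1

/-- The right adjoint of restriction along a perfect algebra is a mixed tensor product. -/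
theorem nonempty_RHomRel_iso [HasLTen₃ S] [IsSymMonoidal S] (hN : DRing.IsPerfect R (algD φ)) :
    Nonempty (RHomRel φ ≅
      (Functor.curry.obj (LTenMix φ)).flip.obj ((RHomRel φ).obj (DTen.unit R))) := by
  have := isIso_candMap φ hN
  obtain ⟨e⟩ := nonempty_cand_iso φ
  exact ⟨(asIso (candMap φ)).symm ≪≫ e⟩

end Main

end Groth.DTenCalc
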