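import Groth.Agent.DTenCalc.RightAdjoint
import Mathlib.Algebra.Homology.Double
import Mathlib.Algebra.Homology.DerivedCategory.TStructure
import Mathlib.Algebra.Homology.DerivedCategory.FullyFaithful
import Mathlib.RingTheory.PicardGroup
import Mathlib.LinearAlgebra.TensorProduct.Quotient

/-!
The right adjoint of restriction along a quotient by an invertible ideal.
-/

universe u

open CategoryTheory CategoryTheory.Limits MonoidalCategory HomologicalComplex DTen
open Groth.DAlg.KFlatMod (IsKFlatCx)
open scoped TensorProduct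
attribute [local instance] HasDerivedCategory.standard

set_option backward.isDefEq.respectTransparency false

namespace Groth.DTenCalc

section TwoTerm

variable {R : Type u} [CommRing R]

/-- A resolution of a module by a two-term complex. -/
theorem nonempty_Q_iso_single (K : DRing.Cx R) (m n : ℤ) (hmn : m + 1 = n)
    (hz : ∀ i, i ≠ m → i ≠ n → IsZero (K.X i)) {C : ModuleCat.{u} R} (π : K.X n ⟶ C)
    (hd : Function.Injective (K.d m n)) (hex : Function.Exact (K.d m n) π)
    (hπ : Function.Surjective π) :
    Nonempty (DerivedCategory.Q.obj K ≅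
      (DerivedCategory.singleFunctor (ModuleCat.{u} R) n).obj C) := by
  subst hmn
  let f : K ⟶ (HomologicalComplex.single (ModuleCat.{u} R) (ComplexShape.up ℤ) (m + 1)).obj C :=
    mkHomToSingle π fun i hi => by
      change i + 1 = m + 1 at hi
      obtain rfl : i = m := by omega
      ext x
      exact hex.apply_apply_eq_zero x
  suffices QuasiIso f from ⟨asIso (DerivedCategory.Q.map f)⟩
  refine ⟨fun i => ?_⟩
  by_cases hi : i = m + 1
  · subst hi
    rw [quasiIsoAt_iff' f m (m + 1) (m + 1 + 1) (by simp) (by simp),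
      ShortComplex.quasiIso_iff_of_zeros' _
        ((hz (m + 1 + 1) (by omega) (by omega)).eq_of_tgt _ _)
        ((isZero_single_obj_X (ComplexShape.up ℤ) (m + 1) C m (by omega)).eq_of_src _ _)
        ((isZero_single_obj_X (ComplexShape.up ℤ) (m + 1) C (m + 1 + 1) (by omega)).eq_of_tgt _ _)]
    have hf : f.f (m + 1) =
        π ≫ (singleObjXSelf (ComplexShape.up ℤ) (m + 1) C).inv := mkHomToSingle_f _ _
    have hb : Function.Bijective (singleObjXSelf (ComplexShape.up ℤ) (m + 1) C).inv :=
      ConcreteCategory.bijective_of_isIso _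
    refine ⟨?_, ?_⟩
    · rw [ShortComplex.moduleCat_exact_iff]
      intro x hx
      change f.f (m + 1) x = 0 at hx
      rw [hf] at hx
      exact (hex x).1 (hb.1 (hx.trans (map_zero _).symm))
    · change Epi (f.f (m + 1))
      rw [hf, ModuleCat.epi_iff_surjective]
      exact hb.2.comp hπ
  · refine (quasiIsoAt_iff_exactAt f i ?_).2 (exactAt_single_obj _ _ _ _ hi)
    by_cases hi' : i = m
    · subst hi'
      rw [exactAt_iff' K (i - 1) i (i + 1) (by simp) (by simp),
        ShortComplex.exact_iff_mono _ ((hz (i - 1) (by omega) (by omega)).eq_of_src _ _)]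
      exact (ModuleCat.mono_iff_injective _).2 hd
    · exact ShortComplex.exact_of_isZero_X₂ _ (hz i hi' hi)

end TwoTerm

section Dual

variable {R S : Type u} [CommRing R] [CommRing S] (φ : R →+* S)
  [HasLBase φ] [HasLTen R] [HasLTen S] [HasResTen φ] [ResLegIso φ] [HasLTen₃ R] [IsSymMonoidal R]
  [HasRHomRel φ]

/-- The restriction of the dualizing module is the dual of the algebra. -/
theorem nonempty_restrict_RHomRel_unit_iso (P D : DRing.Cx R) [ExactPairing P D]
    (hP : IsKFlatCx R P) (hD : IsKFlatCx R D) (eN : DerivedCategory.Q.obj P ≅ algD φ) :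
    Nonempty ((DRing.restrictD φ).obj ((RHomRel φ).obj (DTen.unit R)) ≅
      DerivedCategory.Q.obj D) := by
  let _ : SymmetricCategory (DRing.Cx R) := symmetricCx
  let _ : ExactPairing D P := BraidedCategory.exactPairing_swap P D
  let M := (RHomRel φ).obj (DTen.unit R)
  let M' := (DRing.restrictD φ).obj M
  let P' := DerivedCategory.Q.obj P
  let adj := adjL D P hD hP
  let β : ten (algD φ) M' ⟶ DTen.unit R := act φ M ≫ relEv φ (DTen.unit R)
  let βP : ten P' M' ⟶ DTen.unit R := wr eN.hom M' ≫ β
  have hβ : ∀ T', Function.Bijective (fun f : T' ⟶ M' => wl P' f ≫ βP) := fun T' => by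
    have := isIso_piD φ T'
    let e : (T' ⟶ M') ≃ (ten P' T' ⟶ DTen.unit R) :=
      ((baseAdj φ).homEquiv T' M).symm.trans (((relAdj φ).homEquiv _ (DTen.unit R)).symm.trans
        ((preEquiv (asIso (piD φ T')) _).trans (preEquiv (asIso (wr eN.hom T')) _)))
    suffices hk : (fun f : T' ⟶ M' => wl P' f ≫ βP) = e by exact hk ▸ e.bijective
    funext f
    simp only [e, βP, β, Equiv.trans_apply, preEquiv_apply, asIso_hom]
    rw [← reassoc_of% (exchange eN.hom f), Adjunction.homEquiv_counit (adj := relAdj φ),
      reassoc_of% (piD_adjunct φ (((baseAdj φ).homEquiv T' M).symm f)), Equiv.apply_symm_apply]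
    rfl
  let u := adj.homEquiv M' (DTen.unit R) βP
  have hu : IsIso u := by
    refine isIso_of_yoneda_map_bijective _ fun T' => ?_
    have hk : (fun f : T' ⟶ M' => f ≫ u) = adj.homEquiv T' (DTen.unit R) ∘ (fun f => wl P' f ≫ βP) := by
      funext f
      exact (adj.homEquiv_naturality_left f βP).symm
    rw [hk]
    exact (Equiv.bijective _).comp (hβ T')
  have := isIso_unitR_app (A := R) (DerivedCategory.Q.obj D)
  exact ⟨asIso u ≪≫ asIso ((unitR R).app (DerivedCategory.Q.obj D))⟩

end Dual

section Surjective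

variable {R A : Type u} [CommRing R] [CommRing A] [Algebra R A]

local notation "φ" => algebraMap R A
local notation "I" => RingHom.ker (algebraMap R A)

/-- The kernel, as a module. -/
noncomputable abbrev kerM (R A : Type u) [CommRing R] [CommRing A] [Algebra R A] : ModuleCat.{u} R :=
  ModuleCat.of R (RingHom.ker (algebraMap R A))

/-- The resolution of the quotient. -/
noncomputable def resP (R A : Type u) [CommRing R] [CommRing A] [Algebra R A] : DRing.Cx R :=
  double (ModuleCat.ofHom (Submodule.subtype (RingHom.ker (algebraMap R A))) :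
    kerM R A ⟶ ModuleCat.of R R) (c := ComplexShape.up ℤ) (i₀ := -1) (i₁ := 0) (by simp)

/-- The term of degree `-1`. -/
noncomputable def xI : (resP R A).X (-1) ≃ₗ[R] RingHom.ker (algebraMap R A) :=
  (doubleXIso₀ _ _).toLinearEquiv

/-- The term of degree `0`. -/
noncomputable def xR : (resP R A).X 0 ≃ₗ[R] R :=
  (doubleXIso₁ _ _ (by omega)).toLinearEquiv

theorem resP_d (x : (resP R A).X (-1)) :
    (resP R A).d (-1) 0 x = xR.symm ((xI x : I) : R) := by
  exact congrArg (fun g => ModuleCat.Hom.hom g x)
    (double_d (ModuleCat.ofHom (Submodule.subtype (RingHom.ker (algebraMap R A))) :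
      kerM R A ⟶ ModuleCat.of R R) (c := ComplexShape.up ℤ) (i₀ := -1) (i₁ := 0) (by simp)
      (show (-1 : ℤ) ≠ 0 by omega))

theorem resP_isZero (i : ℤ) (h₀ : i ≠ -1) (h₁ : i ≠ 0) : IsZero ((resP R A).X i) :=
  isZero_double_X _ _ i h₀ h₁

variable [Module.Invertible R (RingHom.ker (algebraMap R A))]

theorem resP_proj (i : ℤ) :
    Module.Finite R ((resP R A).X i) ∧ Module.Projective R ((resP R A).X i) := by
  by_cases h₀ : i = -1
  · subst h₀
    exact ⟨Module.Finite.equiv xI.symm, Module.Projective.of_equiv xI.symm⟩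
  by_cases h₁ : i = 0
  · subst h₁
    exact ⟨Module.Finite.equiv xR.symm, Module.Projective.of_equiv xR.symm⟩
  have := ModuleCat.subsingleton_of_isZero (resP_isZero (R := R) (A := A) i h₀ h₁)
  exact ⟨inferInstance, inferInstance⟩

omit [Module.Invertible R (RingHom.ker (algebraMap R A))] in
theorem nonempty_resP_iso (hφ : Function.Surjective (algebraMap R A)) :
    Nonempty (DerivedCategory.Q.obj (resP R A) ≅ algD (algebraMap R A)) := by
  let Am : ModuleCat.{u} R := (ModuleCat.restrictScalars φ).obj (ModuleCat.of A A)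
  let l : (resP R A).X 0 →ₗ[R] Am :=
    { toFun := fun x => (φ (xR x) : A)
      map_add' := fun x y => by simp
      map_smul' := fun r x => by simp; rfl }

  have hd : Function.Injective ((resP R A).d (-1) 0) := fun x y h => by
    rw [resP_d, resP_d] at h
    exact xI.injective (Subtype.ext (xR.symm.injective h))
  have hex : Function.Exact ((resP R A).d (-1) 0) (ModuleCat.ofHom l) := fun x => by
    constructor
    · intro h
      exact ⟨xI.symm ⟨xR x, h⟩, by rw [resP_d, LinearEquiv.apply_symm_apply]; exact xR.symm_apply_apply x⟩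
    · rintro ⟨y, rfl⟩
      show φ (xR ((resP R A).d (-1) 0 y)) = 0
      rw [resP_d, LinearEquiv.apply_symm_apply]
      exact (xI y).2
  have hs : Function.Surjective (ModuleCat.ofHom l) := fun a => by
    obtain ⟨r, hr⟩ := hφ a
    exact ⟨xR.symm r, (congrArg φ (xR.apply_symm_apply r)).trans hr⟩
  obtain ⟨e⟩ := nonempty_Q_iso_single (resP R A) (-1) 0 rfl
    (fun i h h' => resP_isZero i h h') (ModuleCat.ofHom l) hd hex hs
  exact ⟨e ≪≫ (((ModuleCat.restrictScalars φ).mapDerivedCategorySingleFunctor 0).app
    (ModuleCat.of A A)).symm⟩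

/-- The inclusion of the kernel, as a linear form. -/
noncomputable abbrev inclForm : Module.Dual R (RingHom.ker (algebraMap R A)) :=
  Submodule.subtype _

theorem exists_sum_eq_one :
    ∃ t : Module.Dual R I ⊗[R] I, contractLeft R I t = 1 :=
  Module.Invertible.bijective.2 1

omit [Module.Invertible R (RingHom.ker (algebraMap R A))] in
theorem smul_dual (x : I) (ψ : Module.Dual R I) : (x : R) • ψ = ψ x • inclForm := by
  refine LinearMap.ext fun y => ?_
  have h : (x : R) • y = (y : R) • x := Subtype.ext (mul_comm _ _)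
  simp only [LinearMap.smul_apply, Submodule.subtype_apply, smul_eq_mul]
  rw [← smul_eq_mul, ← map_smul, h, map_smul, smul_eq_mul, mul_comm]

theorem eq_zero_of_smul_inclForm (r : R) (h : r • (inclForm : Module.Dual R I) = 0) : r = 0 := by
  refine FaithfulSMul.eq_of_smul_eq_smul (α := I) fun x => ?_
  rw [zero_smul]
  exact Subtype.ext (LinearMap.congr_fun h x)

theorem mem_smul_top_iff (ψ : Module.Dual R I) :
    ψ ∈ (I • ⊤ : Submodule R (Module.Dual R I)) ↔ ∃ r : R, r • inclForm = ψ := by
  constructor
  · intro h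
    refine Submodule.smul_induction_on (p := fun ψ => ∃ r : R, r • inclForm = ψ) h
      (fun x hx ψ _ => ⟨ψ ⟨x, hx⟩, (smul_dual ⟨x, hx⟩ ψ).symm⟩) ?_
    rintro _ _ ⟨a, rfl⟩ ⟨b, rfl⟩
    exact ⟨a + b, add_smul _ _ _⟩
  · rintro ⟨r, rfl⟩
    refine Submodule.smul_mem _ _ ?_
    obtain ⟨t, ht⟩ := exists_sum_eq_one (R := R) (A := A)
    suffices ∀ t : Module.Dual R I ⊗[R] I,
        contractLeft R I t • (inclForm : Module.Dual R I) ∈ (I • ⊤ : Submodule R (Module.Dual R I)) by
      simpa [ht] using this t
    intro t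
    induction t using TensorProduct.induction_on with
    | zero => simp
    | tmul ψ x =>
      rw [contractLeft_apply, ← smul_dual]
      exact Submodule.smul_mem_smul x.2 Submodule.mem_top
    | add t s ht hs => rw [map_add, add_smul]; exact Submodule.add_mem _ ht hs

/-- The dual of the kernel modulo the kernel. -/
noncomputable abbrev dualQuot (R A : Type u) [CommRing R] [CommRing A] [Algebra R A] : Type u :=
  Module.Dual R (RingHom.ker (algebraMap R A)) ⧸
    (RingHom.ker (algebraMap R A) • ⊤ :
      Submodule R (Module.Dual R (RingHom.ker (algebraMap R A))))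

theorem nonempty_dual_resP_iso :
    Nonempty (DerivedCategory.Q.obj (StrictDual.dualCx (resP R A)) ≅
      (DerivedCategory.singleFunctor (ModuleCat.{u} R) 1).obj (ModuleCat.of R (dualQuot R A))) := by
  let P := resP R A
  let D := StrictDual.dualCx P
  -- the two terms
  let e₁ : D.X 1 ≃ₗ[R] Module.Dual R I := (xI (R := R) (A := A)).symm.dualMap
  let e₀ : D.X 0 ≃ₗ[R] R :=
    (xR (R := R) (A := A)).symm.dualMap.trans (LinearMap.ringLmapEquivSelf R R R)
  have hd : ∀ ψ : D.X 0, e₁ (D.d 0 1 ψ) = -(e₀ ψ • inclForm) := fun ψ => by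
    refine LinearMap.ext fun x => ?_
    show (((1 : ℤ).negOnePow : ℤ) • StrictDual.form P ψ (P.d (-1) 0 (xI.symm x))) =
      -(StrictDual.form P ψ (xR.symm 1) * (x : R))
    rw [resP_d, LinearEquiv.apply_symm_apply]
    have : (xR (R := R) (A := A)).symm (x : R) = (x : R) • xR.symm 1 := by
      rw [← map_smul, smul_eq_mul, mul_one]
    rw [this, map_smul]
    simp [mul_comm]
  let π : D.X 1 →ₗ[R] dualQuot R A := (Submodule.mkQ _).comp e₁.toLinearMap
  refine nonempty_Q_iso_single D 0 1 rfl (fun i h h' => ?_) (ModuleCat.ofHom π) ?_ ?_ ?_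
  · have := ModuleCat.subsingleton_of_isZero (resP_isZero (R := R) (A := A) (-i) (by omega) (by omega))
    exact ModuleCat.isZero_iff_subsingleton.2
      (inferInstanceAs (Subsingleton (Module.Dual R (P.X (-i)))))
  · rw [injective_iff_map_eq_zero]
    intro ψ h
    have h' := hd ψ
    rw [h, map_zero, eq_comm, neg_eq_zero] at h'
    exact e₀.map_eq_zero_iff.1 (eq_zero_of_smul_inclForm _ h')
  · intro ψ
    show Submodule.mkQ _ (e₁ ψ) = 0 ↔ _
    rw [Submodule.mkQ_apply, Submodule.Quotient.mk_eq_zero, mem_smul_top_iff]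
    constructor
    · rintro ⟨r, hr⟩
      refine ⟨e₀.symm (-r), e₁.injective ?_⟩
      rw [hd, LinearEquiv.apply_symm_apply]
      exact (congrArg (-·) (neg_smul r (inclForm : Module.Dual R I))).trans ((neg_neg _).trans hr)
    · rintro ⟨ξ, rfl⟩
      exact ⟨-e₀ ξ, (neg_smul _ _).trans (hd ξ).symm⟩
  · exact (Submodule.mkQ_surjective _).comp e₁.surjective

omit [Module.Invertible R (RingHom.ker (algebraMap R A))] in
/-- An inverse of the base change of the kernel is the dual of the kernel modulo the kernel. -/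
theorem nonempty_inverse_equiv [Module.Invertible R (RingHom.ker (algebraMap R A))]
    (hφ : Function.Surjective (algebraMap R A))
    (N : Type u) [AddCommGroup N] [Module R N] [Module A N] [IsScalarTower R A N]
    (e : (A ⊗[R] (RingHom.ker (algebraMap R A))) ⊗[A] N ≃ₗ[A] A) :
    Nonempty (N ≃ₗ[R] dualQuot R A) := by
  let D := Module.Dual R I
  let e₁ : N ⊗[R] I ≃ₗ[R] A :=
    ((TensorProduct.AlgebraTensorModule.cancelBaseChange R A A N I).symm.trans
      ((TensorProduct.comm A _ _).trans e)).restrictScalars R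
  let eA : A ≃ₗ[R] R ⧸ I :=
    (Ideal.quotientKerAlgEquivOfSurjective (f := Algebra.ofId R A) hφ).symm.toLinearEquiv
  exact ⟨(TensorProduct.lid R N).symm ≪≫ₗ
    TensorProduct.congr (Module.Invertible.linearEquiv R I).symm (LinearEquiv.refl R N) ≪≫ₗ
    TensorProduct.assoc R D I N ≪≫ₗ
    TensorProduct.congr (LinearEquiv.refl R D) (TensorProduct.comm R I N ≪≫ₗ e₁ ≪≫ₗ eA) ≪≫ₗ
    TensorProduct.comm R D (R ⧸ I) ≪≫ₗ TensorProduct.quotTensorEquivQuotSMul D I⟩

/-- The dualizing module of a quotient by an invertible ideal. -/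
theorem nonempty_RHomRel_unit_iso (hφ : Function.Surjective (algebraMap R A))
    (N : Type u) [AddCommGroup N] [Module A N]
    (e : (A ⊗[R] (RingHom.ker (algebraMap R A))) ⊗[A] N ≃ₗ[A] A)
    [HasLBase φ] [HasLTen R] [HasLTen A] [HasResTen φ] [ResLegIso φ] [HasLTen₃ R]
    [IsSymMonoidal R] [HasRHomRel φ] :
    Nonempty ((RHomRel φ).obj (DTen.unit R) ≅
      (DerivedCategory.singleFunctor (ModuleCat.{u} A) 1).obj (ModuleCat.of A N)) := by
  let P := resP R A
  have hf := resP_proj (R := R) (A := A)
  let bs : ∀ q : ℤ, StrictDual.Basis (P.X (-q)) := fun q =>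
    have := (hf (-q)).1
    have := (hf (-q)).2
    Classical.choice (StrictDual.nonempty_basis (P.X (-q)))
  have hS : StrictDual.Supp P 0 2 := fun q hq => resP_isZero (-q) (by omega) (by omega)
  let D := StrictDual.dualCx P
  let _ := StrictDual.exactPairing P bs 0 2 hS
  have hP : IsKFlatCx R P := by
    refine Groth.DAlg.KFlatMod.isKFlatCx_of_flat P (b := 0)
      (fun i hi => resP_isZero i (by omega) (by omega)) fun i => ?_
    have := (hf i).2
    infer_instance
  have hD : IsKFlatCx R D := by
    refine Groth.DAlg.KFlatMod.isKFlatCx_of_flat D (b := 1) (fun i hi => ?_) fun i => ?_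
    · have := ModuleCat.subsingleton_of_isZero (resP_isZero (R := R) (A := A) (-i) (by omega) (by omega))
      exact ModuleCat.isZero_iff_subsingleton.2
        (inferInstanceAs (Subsingleton (Module.Dual R (P.X (-i)))))
    · have := (hf (-i)).1
      have := (hf (-i)).2
      show Module.Flat R (Module.Dual R (P.X (-i)))
      infer_instance
  obtain ⟨eN⟩ := nonempty_resP_iso (R := R) (A := A) hφ
  obtain ⟨e₁⟩ := nonempty_restrict_RHomRel_unit_iso φ P D hP hD eN
  obtain ⟨e₂⟩ := nonempty_dual_resP_iso (R := R) (A := A)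
  let M := (RHomRel φ).obj (DTen.unit R)
  let F := ModuleCat.restrictScalars.{u} φ
  have hh : ∀ i : ℤ, i ≠ 1 → IsZero ((DerivedCategory.homologyFunctor _ i).obj M) := by
    intro i hi
    have h1 : IsZero ((DerivedCategory.homologyFunctor (ModuleCat.{u} R) i).obj
        ((DRing.restrictD φ).obj M)) := by
      refine IsZero.of_iso ?_ ((DerivedCategory.homologyFunctor _ i).mapIso (e₁ ≪≫ e₂))
      exact IsZero.of_iso ((exactAt_single_obj (ComplexShape.up ℤ) 1 _ i hi).isZero_homology)
        ((DerivedCategory.homologyFunctorFactors _ i).app _)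
    let K := DerivedCategory.Q.objPreimage M
    let eK : DerivedCategory.Q.obj K ≅ M := DerivedCategory.Q.objObjPreimageIso M
    have h2 : IsZero (((F.mapHomologicalComplex (ComplexShape.up ℤ)).obj K).homology i) :=
      IsZero.of_iso h1 (((DerivedCategory.homologyFunctorFactors _ i).app _).symm ≪≫
        (DerivedCategory.homologyFunctor _ i).mapIso
          ((F.mapDerivedCategoryFactors.app K).symm ≪≫ (DRing.restrictD φ).mapIso eK))
    have h3 : IsZero (F.obj (K.homology i)) := IsZero.of_iso h2 ((K.sc i).mapHomologyIso F).symm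
    have := ModuleCat.subsingleton_of_isZero h3
    have h4 : IsZero (K.homology i) :=
      ModuleCat.isZero_iff_subsingleton.2 (inferInstanceAs (Subsingleton (F.obj (K.homology i))))
    exact IsZero.of_iso h4 ((DerivedCategory.homologyFunctor _ i).mapIso eK.symm ≪≫
      (DerivedCategory.homologyFunctorFactors _ i).app K)
  have : DerivedCategory.IsGE M 1 :=
    (DerivedCategory.isGE_iff M 1).2 fun i hi => hh i (by omega)
  have : DerivedCategory.IsLE M 1 :=
    (DerivedCategory.isLE_iff M 1).2 fun i hi => hh i (by omega)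
  obtain ⟨N', ⟨eM⟩⟩ := DerivedCategory.exists_iso_singleFunctor_obj_of_isGE_of_isLE M 1
  let e₃ : F.obj N' ≅ ModuleCat.of R (dualQuot R A) :=
    (DerivedCategory.singleFunctor (ModuleCat.{u} R) 1).preimageIso
      (((F.mapDerivedCategorySingleFunctor 1).app N').symm ≪≫
        (DRing.restrictD φ).mapIso eM.symm ≪≫ e₁ ≪≫ e₂)
  let _ : Module R N := Module.compHom N φ
  have : IsScalarTower R A N := IsScalarTower.of_algebraMap_smul fun _ _ => rfl
  let _ : Module R N' := Module.compHom N' φ
  have : IsScalarTower R A N' := IsScalarTower.of_algebraMap_smul fun _ _ => rfl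
  let e₃' : N' ≃ₗ[R] dualQuot R A := e₃.toLinearEquiv
  obtain ⟨e₄⟩ := nonempty_inverse_equiv hφ N e
  exact ⟨eM ≪≫ (DerivedCategory.singleFunctor (ModuleCat.{u} A) 1).mapIso
    ((e₃'.trans e₄.symm).extendScalarsOfSurjective hφ).toModuleIso⟩

end Surjective

end Groth.DTenCalc
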